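import Groth.Agent.PnCoh.Finite.HHLin
import Groth.Agent.QCoh.OpenSub
import Groth.Agent.Lib.Euler
import Mathlib.LinearAlgebra.FiniteDimensional.Basic

/-!
# Long exact sequences of cohomology over a base ring
-/

set_option linter.style.haveILetI false
set_option linter.unusedSectionVars false
set_option backward.isDefEq.respectTransparency false
set_option backward.isDefEq.respectTransparency.types false
set_option maxHeartbeats 800000

universe u

open CategoryTheory CategoryTheory.Limits AlgebraicGeometry TopologicalSpace Opposite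
open CategoryTheory.Abelian
open Groth.Agent.PnCoh.Finite (mapLin deltaLin)

noncomputable section

namespace Groth.Agent.PnEuler

variable {X : Scheme.{u}} (A : Type u) [CommRing A] [X.Over (Spec (CommRingCat.of A))]

theorem mapLin_comp {M N P : X.Modules} (f : M ⟶ N) (g : N ⟶ P) (n : ℕ) (x : Coh.HH X M n) :
    mapLin A g n (mapLin A f n x) = mapLin A (f ≫ g) n x :=
  PnCoh.Finite.map_map ((QCoh.toAbFunctor X).map_comp f g).symm n x

theorem mapLin_id {M : X.Modules} (n : ℕ) (x : Coh.HH X M n) : mapLin A (𝟙 M) n x = x := by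
  show Sheaf.H.map ((QCoh.toAbFunctor X).map (𝟙 M)) n x = x
  rw [CategoryTheory.Functor.map_id]
  exact Sheaf.H.map_id_apply x

/-- The map on cohomology, additively in the map. -/
def mapHom {M N : X.Modules} (n : ℕ) (x : Coh.HH X M n) : (M ⟶ N) →+ Coh.HH X N n :=
  AddMonoidHom.mk' (fun f => mapLin A f n x) fun f g => by
    show Sheaf.H.map ((QCoh.toAbFunctor X).map (f + g)) n x = _
    rw [Functor.map_add, Sheaf.H.map_add_apply]
    rfl

/-- Isomorphic modules have the same cohomology. -/
def hhIso {M N : X.Modules} (e : M ≅ N) (n : ℕ) : Coh.HH X M n ≃ₗ[A] Coh.HH X N n :=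
  LinearEquiv.ofLinear (mapLin A e.hom n) (mapLin A e.inv n)
    (LinearMap.ext fun x => by rw [LinearMap.comp_apply, mapLin_comp, e.inv_hom_id, mapLin_id]; rfl)
    (LinearMap.ext fun x => by rw [LinearMap.comp_apply, mapLin_comp, e.hom_inv_id, mapLin_id]; rfl)

/-- Cohomology of a finite sum of copies. -/
def hhSigma (T : X.Modules) (r n : ℕ) : Coh.HH X (∐ fun _ : Fin r => T) n ≃ₗ[A] (Fin r → Coh.HH X T n) := by
  classical
  let q : ∀ j : Fin r, T ⟶ ∐ fun _ : Fin r => T := fun j => Sigma.ι (fun _ : Fin r => T) j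
  let p : ∀ _ : Fin r, (∐ fun _ : Fin r => T) ⟶ T := fun j => Sigma.desc fun l => if l = j then 𝟙 _ else 0
  have hqp : ∀ l j, q l ≫ p j = if l = j then 𝟙 _ else 0 := fun l j => Sigma.ι_desc _ _
  have hpq : ∑ j, p j ≫ q j = 𝟙 _ := Sigma.hom_ext _ _ fun l => by
    show q l ≫ ∑ j, p j ≫ q j = q l ≫ 𝟙 _
    simp [Preadditive.comp_sum, reassoc_of% hqp, ite_comp]
  refine LinearEquiv.ofLinear (LinearMap.pi fun j => mapLin A (p j) n)
    (∑ j, mapLin A (q j) n ∘ₗ LinearMap.proj j) ?_ ?_
  · refine LinearMap.ext fun y => funext fun i => ?_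
    simp only [LinearMap.comp_apply, LinearMap.pi_apply, LinearMap.sum_apply, LinearMap.proj_apply, map_sum,
      mapLin_comp, LinearMap.id_apply]
    rw [Finset.sum_eq_single i]
    · rw [hqp, if_pos rfl, mapLin_id]
    · intro j _ hji
      rw [hqp, if_neg hji]
      exact (mapHom A n (y j)).map_zero
    · exact fun h => absurd (Finset.mem_univ i) h
  · refine LinearMap.ext fun x => ?_
    simp only [LinearMap.comp_apply, LinearMap.pi_apply, LinearMap.sum_apply, LinearMap.proj_apply,
      mapLin_comp, LinearMap.id_apply]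
    refine ((map_sum (mapHom A n x) (fun j => p j ≫ q j) Finset.univ).symm).trans ?_
    show mapLin A _ n x = x
    rw [hpq, mapLin_id]

include A in
theorem subsingleton_sigma (T : X.Modules) (r n : ℕ) (h : Subsingleton (Coh.HH X T n)) :
    Subsingleton (Coh.HH X (∐ fun _ : Fin r => T) n) :=
  (hhSigma A T r n).toEquiv.subsingleton

variable {S : ShortComplex X.Modules}

theorem exact₁ (hS : S.ShortExact) (q : ℕ) {x : Coh.HH X S.X₁ (q + 1)} (h : mapLin A S.f (q + 1) x = 0) :
    ∃ y, deltaLin A hS q y = x :=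
  by
  have hT := QCoh.toAb_shortExact hS
  exact Ext.covariant_sequence_exact₁ _ hT x h rfl

theorem exact₂ (hS : S.ShortExact) (q : ℕ) {x : Coh.HH X S.X₂ q} (h : mapLin A S.g q x = 0) :
    ∃ y, mapLin A S.f q y = x :=
  by
  have hT := QCoh.toAb_shortExact hS
  exact Ext.covariant_sequence_exact₂ _ hT x h

theorem f_g (hS : S.ShortExact) (q : ℕ) (x : Coh.HH X S.X₁ q) : mapLin A S.g q (mapLin A S.f q x) = 0 := by
  rw [mapLin_comp, S.zero]
  exact (mapHom A q x).map_zero

theorem injective_f_zero (hS : S.ShortExact) : Function.Injective (mapLin A S.f 0) := by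
  intro x y hxy
  apply (Sheaf.H.equiv₀ (Coh.toAb S.X₁) isTerminalTop).injective
  refine QCoh.app_f_injective hS ⊤ ?_
  have hx := Sheaf.H.equiv₀_naturality isTerminalTop ((QCoh.toAbFunctor X).map S.f) x
  have hy := Sheaf.H.equiv₀_naturality isTerminalTop ((QCoh.toAbFunctor X).map S.f) y
  exact hx.trans ((congrArg (Sheaf.H.equiv₀ (Coh.toAb S.X₂) isTerminalTop) hxy).trans hy.symm)

theorem injective_f_succ (hS : S.ShortExact) (q : ℕ) (h : Subsingleton (Coh.HH X S.X₃ q)) :
    Function.Injective (mapLin A S.f (q + 1)) :=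
  (injective_iff_map_eq_zero _).2 fun x hx => by
    obtain ⟨y, rfl⟩ := exact₁ A hS q hx
    rw [h.elim y 0, map_zero]

theorem surjective_g (hS : S.ShortExact) (q : ℕ) (h : Subsingleton (Coh.HH X S.X₁ (q + 1))) :
    Function.Surjective (mapLin A S.g q) := fun x =>
  PnCoh.Finite.exists_of_deltaLin_eq_zero A hS q (h.elim _ _)

include A in
theorem subsingleton_X₁_zero (hS : S.ShortExact) (h₂ : Subsingleton (Coh.HH X S.X₂ 0)) :
    Subsingleton (Coh.HH X S.X₁ 0) :=
  (injective_f_zero A hS).subsingleton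

include A in
theorem subsingleton_X₁_succ (hS : S.ShortExact) (q : ℕ) (h₂ : Subsingleton (Coh.HH X S.X₂ (q + 1)))
    (h₃ : Subsingleton (Coh.HH X S.X₃ q)) : Subsingleton (Coh.HH X S.X₁ (q + 1)) :=
  (injective_f_succ A hS q h₃).subsingleton

include A in
theorem subsingleton_X₃ (hS : S.ShortExact) (q : ℕ) (h₂ : Subsingleton (Coh.HH X S.X₂ q))
    (h₁ : Subsingleton (Coh.HH X S.X₁ (q + 1))) : Subsingleton (Coh.HH X S.X₃ q) :=
  (surjective_g A hS q h₁).subsingleton

/-- The connecting map is bijective between acyclic middle terms. -/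
def deltaEquiv (hS : S.ShortExact) (q : ℕ) (h : Subsingleton (Coh.HH X S.X₂ q))
    (h' : Subsingleton (Coh.HH X S.X₂ (q + 1))) : Coh.HH X S.X₃ q ≃ₗ[A] Coh.HH X S.X₁ (q + 1) :=
  LinearEquiv.ofBijective (deltaLin A hS q)
    ⟨(injective_iff_map_eq_zero _).2 fun x hx => by
        obtain ⟨y, rfl⟩ := PnCoh.Finite.exists_of_deltaLin_eq_zero A hS q hx
        rw [h.elim y 0, map_zero],
      fun x => exact₁ A hS q (h'.elim _ _)⟩

end Groth.Agent.PnEuler

namespace Groth.Agent.PnEuler

variable {X : Scheme.{u}} (k : Type u) [Field k] [X.Over (Spec (CommRingCat.of k))] {S : ShortComplex X.Modules}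

/-- Dimensions add along a short exact piece of the long sequence. -/
theorem finrank_add (hS : S.ShortExact) (q : ℕ) [Module.Finite k (Coh.HH X S.X₂ q)]
    (hinj : Function.Injective (mapLin k S.f q)) (hsurj : Function.Surjective (mapLin k S.g q)) :
    Module.Finite k (Coh.HH X S.X₁ q) ∧ Module.Finite k (Coh.HH X S.X₃ q) ∧
      Module.finrank k (Coh.HH X S.X₁ q) + Module.finrank k (Coh.HH X S.X₃ q) =
        Module.finrank k (Coh.HH X S.X₂ q) := by
  have h1 : Module.Finite k (Coh.HH X S.X₁ q) := Module.Finite.of_injective _ hinj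
  have h3 : Module.Finite k (Coh.HH X S.X₃ q) := Module.Finite.of_surjective _ hsurj
  refine ⟨h1, h3, ?_⟩
  have hk : LinearMap.ker (mapLin k S.g q) = LinearMap.range (mapLin k S.f q) :=
    le_antisymm (fun x hx => exact₂ k hS q hx) (by
      rintro _ ⟨y, rfl⟩
      exact f_g k hS q y)
  have h := (mapLin k S.g q).finrank_range_add_finrank_ker
  rw [hk, LinearMap.range_eq_top.2 hsurj, finrank_top, LinearMap.finrank_range_of_inj hinj] at h
  omega

end Groth.Agent.PnEuler
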