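import Groth.Agent.PnEuler.Simple
import Groth.Agent.Lib.CurveLinear
import Groth.Agent.PnVan.Split
import Groth.Agent.QCoh.RpushExchange

/-!
# Cokernels of maps `O(-1) → Ω(1)`
-/

set_option linter.style.haveILetI false
set_option linter.unusedSectionVars false
set_option backward.isDefEq.respectTransparency false
set_option backward.isDefEq.respectTransparency.types false
set_option maxHeartbeats 1000000

universe u

open CategoryTheory CategoryTheory.Limits AlgebraicGeometry TopologicalSpace Opposite MvPolynomial Abelian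
open Groth.Agent.PnCoh Groth.Agent.PnDual

noncomputable section

namespace Groth.Agent.PnEuler

/-- Tensoring on the left commutes with multiplication by global functions. -/
theorem tensor_map_smul_left {X : Scheme.{u}} (L T : X.Modules) (r : Coh.Γtop X) :
    (DCoh.tensorBi.flip.obj L).map (Formal.smulModΓ T r) =
      Formal.smulModΓ ((DCoh.tensorBi.flip.obj L).obj T) r := by
  refine CurveLinear.shP_map_eq_smul (MonoidalCategory.tensorObj (DCoh.toP.obj T) (DCoh.toP.obj L)) r _ fun U s => ?_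
  induction s using TensorProduct.induction_on with
  | zero => exact (map_zero _).trans (smul_zero _).symm
  | tmul a b => exact KFlatLib.tm_smul_left (P := DCoh.toP.obj T) (Q := DCoh.toP.obj L) _ a b
  | add a b ha hb => exact (map_add _ a b).trans ((congrArg₂ (· + ·) ha hb).trans (smul_add _ a b).symm)

/-- A subsingleton `Ext` out of a finite sum of copies. -/
theorem subsingleton_ext_sigma {C : Type*} [Category C] [Abelian C] [HasExt.{u} C] (T Y : C) (r q : ℕ)
    [HasCoproduct fun _ : Fin r => T] (h : Subsingleton (Ext.{u} T Y q)) :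
    Subsingleton (Ext.{u} (∐ fun _ : Fin r => T) Y q) := by
  classical
  let ι : Fin r → (T ⟶ ∐ fun _ : Fin r => T) := fun j => Sigma.ι (fun _ : Fin r => T) j
  let p : Fin r → ((∐ fun _ : Fin r => T) ⟶ T) := fun j => Sigma.desc fun l => if l = j then 𝟙 _ else 0
  have hid : ∑ j, p j ≫ ι j = 𝟙 (∐ fun _ : Fin r => T) := by
    refine Sigma.hom_ext _ _ fun l => ?_
    simp [p, ι, Preadditive.comp_sum, ite_comp]
  suffices ∀ x : Ext.{u} (∐ fun _ : Fin r => T) Y q, x = 0 from ⟨fun x y => (this x).trans (this y).symm⟩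
  intro x
  calc x = (Ext.mk₀ (∑ j, p j ≫ ι j)).comp x (zero_add q) := by rw [hid, Ext.mk₀_id_comp]
    _ = 0 := by
      rw [Ext.mk₀_sum, Ext.sum_comp]
      refine Finset.sum_eq_zero fun j _ => ?_
      rw [← Ext.mk₀_comp_mk₀, Ext.comp_assoc_of_second_deg_zero, h.elim ((Ext.mk₀ (ι j)).comp x (zero_add q)) 0,
        Ext.comp_zero]

theorem subsingleton_ext_of_iso {C : Type*} [Category C] [Abelian C] [HasExt.{u} C] {A B : C} (e : A ≅ B) (Y : C)
    (q : ℕ) (h : Subsingleton (Ext.{u} A Y q)) : Subsingleton (Ext.{u} B Y q) := by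
  suffices ∀ x : Ext.{u} B Y q, x = 0 from ⟨fun x y => (this x).trans (this y).symm⟩
  intro x
  calc x = (Ext.mk₀ (e.inv ≫ e.hom)).comp x (zero_add q) := by rw [e.inv_hom_id, Ext.mk₀_id_comp]
    _ = 0 := by
      rw [← Ext.mk₀_comp_mk₀, Ext.comp_assoc_of_second_deg_zero, h.elim ((Ext.mk₀ e.hom).comp x (zero_add q)) 0,
        Ext.comp_zero]

variable (n : ℕ) (k : Type u) [Field k]

local notation "P" => MvPolynomial (Fin (n + 1)) k
local notation "Pn" => CohB1.ProjSpace n k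
local notation "tw" => Twist.twistProjSpace n k

/-- Multiplication by a scalar. -/
def sc (M : (Pn).Modules) (c : k) : M ⟶ M :=
  Formal.smulModΓ M (Coh.toGlobal (CohB1.ProjSpace.toSpec n k) c)

theorem sc_zero (M : (Pn).Modules) : sc n k M 0 = 0 := by rw [sc, map_zero, KLin.smulModΓ_zero]

theorem sc_one (M : (Pn).Modules) : sc n k M 1 = 𝟙 M := by rw [sc, map_one, KLin.smulModΓ_one]

theorem sc_mul (M : (Pn).Modules) (a b : k) : sc n k M (a * b) = sc n k M a ≫ sc n k M b := by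
  rw [sc, map_mul, KLin.smulModΓ_mul]
  rfl

theorem comp_sc {M N : (Pn).Modules} (f : M ⟶ N) (c : k) : f ≫ sc n k N c = sc n k M c ≫ f :=
  KLin.comp_smulModΓ f _

theorem toSheaf_sc (M : (Pn).Modules) (c : k) :
    (SheafOfModules.toSheaf (Pn).ringCatSheaf).map (sc n k M c) =
      Coh.smulAb M (Coh.toGlobal (CohB1.ProjSpace.toSpec n k) c) :=
  rfl

theorem isIso_sc (M : (Pn).Modules) {c : k} (hc : c ≠ 0) : IsIso (sc n k M c) :=
  ⟨sc n k M c⁻¹, by rw [← sc_mul, mul_inv_cancel₀ hc, sc_one], by rw [← sc_mul, inv_mul_cancel₀ hc, sc_one]⟩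

variable [QuasiSeparated (CohB1.ProjSpace.toSpec n k)]

theorem tval_sc (d : ℤ) (c : k) (W : (Pn).Opens) (s : Γ(tw d, W)) (y : W) :
    tval n k ((sc n k (tw d) c).app W s) y = algebraMap P _ (C c) * tval n k s y := by
  show tval n k (AModX.resR (le_top : W ≤ ⊤)
    ((CohB1.ProjSpace.toSpec n k).appTop ((Scheme.ΓSpecIso (CommRingCat.of k)).inv c)) • s) y = _
  rw [tval_smul, oval_global]

/-- Endomorphisms of twists are scalars. -/
theorem endo_tw (d : ℤ) (φ : tw d ⟶ tw d) : ∃ c : k, φ = sc n k (tw d) c := by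
  obtain ⟨p, hp, hm⟩ := exists_isMul n k (e := 0) (by simp) φ
  refine ⟨coeff 0 p, Scheme.Modules.hom_ext _ _ fun W => ConcreteCategory.hom_ext _ _ fun s => ext_tval n k fun y => ?_⟩
  rw [hm, tval_sc, mul_comm, ← totalDegree_eq_zero_iff_eq_C.1 (Nat.le_zero.1 hp.totalDegree_le)]

local notation "Ω" => Omega.sheaf (CohB1.ProjSpace.toSpec n k)
theorem not_isZero_tw (d : ℤ) : ¬ IsZero (tw d) := fun h => by
  obtain ⟨e⟩ := tw_add n k d (-d)
  obtain ⟨e₀⟩ := nonempty_hh_tw_zero n k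
  have h0 : IsZero (tw 0) := ((twR n k (-d)).map_isZero h).of_iso (e ≪≫ eqToIso (by rw [add_neg_cancel])).symm
  haveI := Euler.subsingleton_HH_of_isZero h0 0
  exact not_subsingleton k e₀.symm.toEquiv.subsingleton

local notation "Ω₁" => CohB1.tensorMod (Omega.sheaf (CohB1.ProjSpace.toSpec n k)) (Twist.twistProjSpace n k 1)

/-- Endomorphisms of `Ω(1)` are scalars. -/
theorem endo_omega_one (φ : Ω₁ ⟶ Ω₁) : ∃ c : k, φ = sc n k Ω₁ c := by
  obtain ⟨φ₀, rfl⟩ := (twR n k 1).map_surjective φ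
  obtain ⟨c, rfl⟩ := endo_omega n k φ₀
  exact ⟨c, tensor_map_smul_left (tw 1) Ω _⟩

theorem subsingleton_h0_omega_one (hn : 1 ≤ n) : Subsingleton (Coh.HH (Pn) Ω₁ 0) := by
  obtain ⟨f, g, w, hS⟩ := exists_ses n k 1 1
  obtain ⟨e⟩ := nonempty_Om_iso n k (ExtPowSh.isExtPow_one Ω) 1
  refine QCoh.subsingleton_HH_of_iso e 0 (subsingleton_X₃ k hS 0 ?_ (subsingleton_Om_pos n k 1 one_pos 2 1 one_pos))
  exact subsingleton_Mid n k 1 1 0 (by omega) (by omega)

theorem shortExact_coker (u : tw (-1) ⟶ Ω₁) [Mono u] : (ShortComplex.mk u (cokernel.π u) (cokernel.condition u)).ShortExact :=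
  ShortComplex.ShortExact.mk' (ShortComplex.exact_cokernel u) inferInstance inferInstance

/-- `H⁰` of the cokernel vanishes. -/
theorem subsingleton_h0_coker (u : tw (-1) ⟶ Ω₁) [Mono u] (hn : 2 ≤ n) : Subsingleton (Coh.HH (Pn) (cokernel u) 0) :=
  subsingleton_X₃ k (shortExact_coker n k u) 0 (subsingleton_h0_omega_one n k (by omega))
    (subsingleton_tw n k (-1) 1 (by omega) (by omega))

/-- Maps to the cokernel lift. -/
theorem exists_lift_coker (u : tw (-1) ⟶ Ω₁) [Mono u] (hn : 2 ≤ n) (ψ : Ω₁ ⟶ cokernel u) : ∃ Φ : Ω₁ ⟶ Ω₁, Φ ≫ cokernel.π u = ψ := by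
  haveI : EnoughInjectives (Pn).Modules := inferInstanceAs (EnoughInjectives (SheafOfModules _))
  haveI : HasExt.{u} (Pn).Modules := hasExt_of_enoughInjectives _
  haveI : HasExt.{u} (Proj (CohB1.polyGrading n k)).Modules := inferInstanceAs (HasExt.{u} (Pn).Modules)
  let F := twR n k 1
  have hS : ((seq n k).map (twR n k 1)).ShortExact := (shortExact_seq n k).map_of_exact (twR n k 1)
  obtain ⟨eS⟩ := twR_sum n k (n + 1) (-1) 1
  obtain ⟨e₃⟩ := tw_add n k 0 1
  have hm : Subsingleton (Ext.{u} (F.obj (mid n k)) (tw (-1)) 1) :=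
    subsingleton_ext_of_iso eS.symm _ 1 (subsingleton_ext_sigma _ _ _ _ (PnDual.subsingleton_ext_twist (gens n k)
      (gens_mem n k) (gens_cover n k) _ _ 1 (subsingleton_tw n k _ 1 (by omega) (by omega))))
  have h3 : Subsingleton (Ext.{u} (F.obj (tw 0)) (tw (-1)) 2) :=
    subsingleton_ext_of_iso e₃.symm _ 2 (PnDual.subsingleton_ext_twist (gens n k) (gens_mem n k) (gens_cover n k) _ _ 2
      (subsingleton_tw n k _ 2 (by omega) (by omega)))
  have hE : Subsingleton (Ext.{u} Ω₁ (tw (-1)) 1) := by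
    suffices ∀ x : Ext.{u} Ω₁ (tw (-1)) 1, x = 0 from ⟨fun x y => (this x).trans (this y).symm⟩
    intro x
    obtain ⟨z, rfl⟩ := Ext.contravariant_sequence_exact₁ hS (tw (-1)) x (n₁ := 2) rfl (h3.elim _ _)
    rw [hm.elim z 0, Ext.comp_zero]
  obtain ⟨z, hz⟩ := Ext.covariant_sequence_exact₃ Ω₁ (shortExact_coker n k u) (Ext.mk₀ ψ) (n₁ := 1) rfl
    (hE.elim _ _)
  obtain ⟨Φ, rfl⟩ := (Ext.mk₀_bijective _ _).2 z
  exact ⟨Φ, (Ext.mk₀_bijective _ _).1 ((Ext.mk₀_comp_mk₀ _ _).symm.trans hz)⟩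

/-- Endomorphisms of the cokernel are scalars. -/
theorem endo_coker (u : tw (-1) ⟶ Ω₁) [Mono u] (hn : 2 ≤ n) (φ : cokernel u ⟶ cokernel u) : ∃ c : k, φ = sc n k (cokernel u) c := by
  obtain ⟨Φ, hΦ⟩ := exists_lift_coker n k u hn (cokernel.π u ≫ φ)
  obtain ⟨c, rfl⟩ := endo_omega_one n k Φ
  refine ⟨c, (cancel_epi (cokernel.π u)).1 ?_⟩
  rw [← hΦ, comp_sc]

/-- Isomorphic cokernels come from proportional maps. -/
theorem exists_scalar_of_coker_iso (u : tw (-1) ⟶ Ω₁) [Mono u] (hn : 2 ≤ n) (u' : tw (-1) ⟶ Ω₁) [Mono u'] (h0 : ¬ IsZero (cokernel u'))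
    (e : cokernel u ≅ cokernel u') : ∃ c : k, c ≠ 0 ∧ u' = u ≫ sc n k Ω₁ c := by
  obtain ⟨Φ, hΦ⟩ := exists_lift_coker n k u' hn (cokernel.π u ≫ e.hom)
  obtain ⟨c, rfl⟩ := endo_omega_one n k Φ
  have hc : c ≠ 0 := by
    rintro rfl
    rw [sc_zero, zero_comp] at hΦ
    refine h0 ((IsZero.iff_id_eq_zero _).2 ?_)
    rw [← cancel_epi (cokernel.π u ≫ e.hom), ← hΦ, zero_comp, comp_zero]
  have hw : (u ≫ sc n k Ω₁ c) ≫ cokernel.π u' = 0 := by
    rw [Category.assoc, hΦ, cokernel.condition_assoc, zero_comp]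
  obtain ⟨g, hg⟩ : ∃ g : tw (-1) ⟶ tw (-1), g ≫ u' = u ≫ sc n k Ω₁ c :=
    ⟨(shortExact_coker n k u').fIsKernel.lift (KernelFork.ofι _ hw),
      (shortExact_coker n k u').fIsKernel.fac (KernelFork.ofι _ hw) WalkingParallelPair.zero⟩
  obtain ⟨d, rfl⟩ := endo_tw n k (-1) g
  rw [← comp_sc] at hg
  have hd : d ≠ 0 := by
    rintro rfl
    rw [sc_zero, comp_zero] at hg
    haveI : IsIso (sc n k Ω₁ c) := isIso_sc n k _ hc
    have hu0 : u = 0 := by
      rw [← cancel_mono (sc n k Ω₁ c), ← hg, zero_comp]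
    exact not_isZero_tw n k (-1) (IsZero.of_mono_eq_zero u hu0)
  refine ⟨c * d⁻¹, mul_ne_zero hc (inv_ne_zero hd), ?_⟩
  rw [sc_mul, ← Category.assoc, ← hg, Category.assoc, ← sc_mul, mul_inv_cancel₀ hd, sc_one, Category.comp_id]

/-- A zero module does not have rank two. -/
theorem not_rank_two_of_isZero {M : (Pn).Modules} (h : IsZero M) : ¬ FlatMod.IsFinLocFreeOfRank 2 M := fun h2 => by
  obtain ⟨i, hi⟩ : ∃ x : Pn, True := ⟨point (Pi.single 0 (1 : k)) (by simp), trivial⟩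
  haveI : Nonempty ↥(Pn) := ⟨i⟩
  have h0 : FlatMod.IsFinLocFreeOfRank 0 M := fun x => ⟨⊤, trivial,
    ⟨((Scheme.Modules.restrictFunctor (⊤ : (Pn).Opens).ι).map_isZero h).iso (QCoh.isZero_freeMod_zero' _)⟩⟩
  exact absurd (PnVan.rank_unique h0 h2) (by norm_num)

end Groth.Agent.PnEuler
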