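import Groth.Agent.ExtPowSh.Loc
import Groth.Agent.H23.Frame
import Groth.Agent.QCoh.ClosedPush
import Groth.Agent.InvX.Tensor
import Mathlib.LinearAlgebra.ExteriorPower.Basis
import Mathlib.Data.Set.PowersetCard

/-!
# Exterior powers of free modules
-/

set_option linter.style.haveILetI false
set_option linter.unusedSectionVars false
set_option backward.isDefEq.respectTransparency false
set_option backward.isDefEq.respectTransparency.types false
set_option maxHeartbeats 1000000

universe u

open CategoryTheory CategoryTheory.Limits AlgebraicGeometry TopologicalSpace Opposite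

noncomputable section

namespace Groth.Agent.PnEuler

open Groth.Agent.ExtPowSh Groth.Agent.H23.Frame

variable (X : Scheme.{u})

theorem isQCoh_free (N : ℕ) : Coh.IsQCoh (FlatMod.freeMod X N) := by
  refine QCoh.isQCoh_of_isFinLocFree fun x => ⟨⊤, N, trivial, ?_⟩
  exact exists_iso_of_frame _ (incl_isFrame (X := X) (n := N))

/-- The standard basis of sections. -/
def stdBasis (N : ℕ) (W : X.Opens) : Module.Basis (Fin N) Γ(X, W) ((FlatMod.freeMod X N).val.obj (op W)) :=
  Module.Basis.ofEquivFun (LinearEquiv.ofBijective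
    (Fintype.linearCombination Γ(X, W) (M := (FlatMod.freeMod X N).val.obj (op W))
      fun i => (incl X N i).app W (one W))
    (Function.bijective_iff_has_inverse.mpr
      ⟨fun x i => (show Γ(X, W) from (proj X N i).app W x), fun c => funext fun j => proj_comb W c j,
        fun x => free_eq_sum W x⟩)).symm

theorem stdBasis_apply (N : ℕ) (W : X.Opens) (i : Fin N) : stdBasis X N W i = (incl X N i).app W (one W) := by
  classical
  rw [stdBasis, Module.Basis.coe_ofEquivFun]
  exact (Fintype.linearCombination_apply_single _ _ i 1).trans (one_smul _ _)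

/-- An exterior power of a free module is free. -/
theorem nonempty_extPow_free (N p : ℕ) :
    Nonempty (L (FlatMod.freeMod X N) p ≅ ∐ fun _ : Fin (N.choose p) => Coh.structureModule X) := by
  classical
  let E := FlatMod.freeMod X N
  have hE := isQCoh_free X N
  let σ : Fin (N.choose p) ≃ Set.powersetCard (Fin N) p := (Finite.equivFinOfCardEq (by
    rw [Set.powersetCard.card, Nat.card_eq_fintype_card, Fintype.card_fin])).symm
  let w : ∀ W : X.Opens, Fin (N.choose p) → ↥(⋀[Γ(X, W)]^p (E.val.obj (op W))) := fun W t =>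
    exteriorPower.ιMulti_family Γ(X, W) p (fun i => (incl X N i).app W (one W)) (σ t)
  have hw : ∀ W t, w W t = ExtPowSh.map p (resL E (le_top : W ≤ ⊤)) (w ⊤ t) := fun W t => by
    refine Eq.trans ?_ (map_ιMulti (resL E (le_top : W ≤ ⊤)) _).symm
    exact congrArg (exteriorPower.ιMulti Γ(X, W) p) (funext fun j =>
      (app_one_res (incl X N _) (le_top : W ≤ ⊤)).symm)
  let ψ : (∐ fun _ : Fin (N.choose p) => Coh.structureModule X) ⟶ L E p :=
    Sigma.desc fun t => InvX.ofSect (toL E p ⊤ (w ⊤ t))
  suffices IsIso ψ from ⟨(asIso ψ).symm⟩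
  refine QCoh.isIso_of_isBasis ψ X.isBasis_affineOpens fun W hW => ?_
  have hψ : ∀ (t : Fin (N.choose p)), ψ.app W ((incl X _ t).app W (one W)) = toL E p W (w W t) := fun t => by
    refine Eq.trans (show _ = (incl X _ t ≫ ψ).app W (one W) from rfl) ?_
    rw [show incl X _ t ≫ ψ = InvX.ofSect (toL E p ⊤ (w ⊤ t)) from Sigma.ι_desc _ _, hw W t]
    refine Eq.trans ?_ (map_toL E p (le_top : W ≤ ⊤) (w ⊤ t))
    refine Eq.trans (app_one_res _ (le_top : W ≤ ⊤)).symm ?_
    exact congrArg _ (InvX.one_ofSect _)
  let b := ((stdBasis X N W).exteriorPower p).reindex σ.symm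
  have hb : ∀ t, b t = w W t := fun t => by
    simp [b, w, show ⇑(stdBasis X N W) = fun i => (incl X N i).app W (one W) from funext (stdBasis_apply X N W), E]
  let B := b.map (LinearEquiv.ofBijective (toL E p W) (toL_bijective E p hE hW))
  have hB : ∀ c : Fin (N.choose p) → Γ(X, W),
      ψ.app W (∑ t, c t • (incl X _ t).app W (one W)) = B.equivFun.symm c := fun c => by
    rw [map_sum, Module.Basis.equivFun_symm_apply]
    refine Finset.sum_congr rfl fun t _ => ?_
    rw [Scheme.Modules.Hom.app_smul, hψ, ← hb]
    rfl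
  refine (Function.Bijective.of_comp_iff (fun x => ψ.app W x)
    (g := fun c : Fin (N.choose p) → Γ(X, W) => ∑ t, c t • (incl X _ t).app W (one W))
    (Function.bijective_iff_has_inverse.mpr
      ⟨fun x t => (show Γ(X, W) from (proj X (N.choose p) t).app W x),
        fun c => funext fun j => proj_comb W c j, fun x => free_eq_sum W x⟩)).1 ?_
  rw [show (fun x => ψ.app W x) ∘ (fun c : Fin (N.choose p) → Γ(X, W) => ∑ t, c t • (incl X _ t).app W (one W)) =
    B.equivFun.symm from funext hB]
  exact B.equivFun.symm.bijective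

end Groth.Agent.PnEuler
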