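import Groth.Agent.ExtPowSh.Filt
import Groth.Agent.ExtPowSh.Loc
import Groth.Agent.ExtPowSh.Lambda
import Groth.Agent.ExtPowSh.Twist
import Groth.Agent.H23.PicMul
import Groth.Agent.Lib.SyzygyPn

/-!
# Exterior powers of an extension by the trivial line bundle
-/

set_option linter.style.haveILetI false
set_option linter.unusedSectionVars false
set_option backward.isDefEq.respectTransparency false
set_option backward.isDefEq.respectTransparency.types false
set_option maxHeartbeats 2000000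

universe u

open CategoryTheory CategoryTheory.Limits AlgebraicGeometry TopologicalSpace Opposite
open scoped TensorProduct

noncomputable section

namespace Groth.Agent.PnEuler

open Groth.Agent.ExtPowSh

section alg

variable {R : Type u} [CommRing R] {A B C : Type u} [AddCommGroup A] [Module R A] [AddCommGroup B] [Module R B]
  [AddCommGroup C] [Module R C] (a : A →ₗ[R] B) (b : B →ₗ[R] C) (s : C →ₗ[R] B)

theorem deg1_mul_self (g : C) (hg : ∀ z, ∃ r : R, z = r • g) : deg1 s * deg1 s = ⊥ := by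
  refine le_bot_iff.1 (Submodule.mul_le.2 ?_)
  rintro _ ⟨x, rfl⟩ _ ⟨y, rfl⟩
  obtain ⟨r, rfl⟩ := hg x
  obtain ⟨r', rfl⟩ := hg y
  simp [ExteriorAlgebra.ι_sq_zero]

/-- With a quotient of rank one every wedge has all but one factor in the submodule. -/
theorem range_pow_le_filt (hs : ∀ x : B, ∃ y : A, x - s (b x) = a y) (g : C) (hg : ∀ z, ∃ r : R, z = r • g) (p : ℕ) :
    LinearMap.range (ExteriorAlgebra.ι R (M := B)) ^ (p + 1) ≤ filt a p 1 := by
  induction p with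
  | zero => simp [filt]
  | succ p ih =>
    set M := LinearMap.range (ExteriorAlgebra.ι R (M := B)) with hM
    rw [pow_succ']
    refine (mul_le_mul' (range_ι_le a b s hs) ih).trans ?_
    rw [Submodule.sup_mul]
    refine sup_le (le_of_eq ?_) ?_
    · simp only [filt, pow_one, pow_succ', mul_assoc]
    · rw [filt, filt, pow_one, ← mul_assoc]
      refine (mul_le_mul' (deg1_mul_pow_le a s p) le_rfl).trans ?_
      rw [mul_assoc]
      refine (mul_le_mul' le_rfl (mul_le_mul' le_rfl (range_ι_le a b s hs))).trans ?_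
      rw [Submodule.mul_sup, deg1_mul_self s g hg, pow_succ, mul_assoc]
      refine mul_le_mul' le_rfl (sup_le ?_ bot_le)
      exact (deg1_mul_deg1_le a s).trans (mul_le_mul' le_rfl (deg1_le s))

end alg

variable {X : Scheme.{u}}

theorem nonempty_L_zero {E : X.Modules} (hE : Coh.IsQCoh E) : Nonempty (L E 0 ≅ Coh.structureModule X) :=
  ExtPowSh.nonempty_iso (isExtPow E 0 hE) (isExtPow_zero E)

theorem nonempty_L_one {E : X.Modules} (hE : Coh.IsQCoh E) : Nonempty (L E 1 ≅ E) :=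
  ExtPowSh.nonempty_iso (isExtPow E 1 hE) (isExtPow_one E)

theorem nonempty_L_congr {E E' : X.Modules} (e : E ≅ E') (hE : Coh.IsQCoh E) (p : ℕ) :
    Nonempty (L E p ≅ L E' p) :=
  ExtPowSh.nonempty_iso (isExtPow_source_iso e (isExtPow E p hE)) (isExtPow E' p ((QCoh.isQCoh_iff_iso e).1 hE))

theorem tens_iso_left {A B : X.Modules} (e : B ≅ Coh.structureModule X) : Nonempty (tens A B ≅ A) := by
  obtain ⟨u⟩ := H23.PicMul.unit A
  exact ⟨(DCoh.tensorBi.obj A).mapIso e ≪≫ u⟩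

variable {S : ShortComplex X.Modules}

/-- `0 → ⋀^{p+1} S₁ → ⋀^{p+1} S₂ → ⋀^p S₁ → 0` when `S₃` is trivial. -/
theorem exists_ses_extPow (hS : S.ShortExact) (h₁' : FlatMod.IsFinLocFree S.X₁) (e₃ : S.X₃ ≅ Coh.structureModule X)
    (h₃' : FlatMod.IsFinLocFree S.X₃) (p : ℕ) :
    ∃ (f : L S.X₁ (p + 1) ⟶ L S.X₂ (p + 1)) (g : L S.X₂ (p + 1) ⟶ L S.X₁ p) (w : f ≫ g = 0),
      (ShortComplex.mk f g w).ShortExact := by
  have h₁ := QCoh.isQCoh_of_isFinLocFree h₁'
  have h₃ := QCoh.isQCoh_of_isFinLocFree h₃'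
  have hb := isBasis_small S h₁' h₃'
  have h₂ := QCoh.isQCoh_of_isFinLocFree (isFinLocFree_X₂ hS h₁ h₁' h₃')
  have hgen : ∀ (V : X.Opens), ∃ g : S.X₃.val.obj (op V), ∀ z, ∃ r : Γ(X, V), z = r • g := fun V => by
    refine ⟨e₃.inv.app V (show Γ(Coh.structureModule X, V) from (1 : Γ(X, V))), fun z => ⟨e₃.hom.app V z, ?_⟩⟩
    refine Eq.trans ?_ (e₃.inv.app_smul _ _)
    refine Eq.trans ?_ (congrArg (e₃.inv.app V) (mul_one (show Γ(X, V) from e₃.hom.app V z)).symm)
    exact (congr(($(e₃.hom_inv_id)).app V z)).symm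
  -- the last step of the filtration is everything
  haveI : Epi (muHom (S := S) h₁ h₂ (show p + 1 = p + 1 from rfl)) :=
    RelTildeX.epi_of_locally _ fun U t x hx => by
      obtain ⟨V, hV, hxV, hle⟩ := Opens.isBasis_iff_nbhd.1 hb hx
      obtain ⟨w, hw⟩ := (toL_bijective S.X₂ (p + 1) h₂ hV.affine).2
        ((L S.X₂ (p + 1)).presheaf.map (homOfLE hle).op t)
      obtain ⟨k, hk⟩ := (exists_muHom_eq_iff h₁ h₂ rfl hV.affine w).2 (by
        obtain ⟨s, hgs, hs⟩ := exists_section hS h₁ hV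
        obtain ⟨g, hg⟩ := hgen V
        exact range_pow_le_filt (appL S.f V) (appL S.g V) s hs g hg p w.2)
      exact ⟨V, hle, hxV, k, hk.trans hw⟩
  obtain ⟨f₁, g₁, w₁, hse₁⟩ := exists_step hS h₁ h₂ h₃ (show p + 1 = p + 1 from rfl) hb
    (isQCoh_tens h₁ h₂ (p + 1) 0) (muHom (S := S) h₁ h₂ (add_zero (p + 1))) fun V hV w =>
      exists_muHom_eq_iff h₁ h₂ (add_zero (p + 1)) hV.affine w
  obtain ⟨f₀, g₀, w₀, hse₀⟩ := exists_step hS h₁ h₂ h₃ (add_zero (p + 1)) hb (isQCoh S.X₂ (p + 1) h₂)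
    (0 : L S.X₂ (p + 1) ⟶ L S.X₂ (p + 1)) fun V hV w => by
      refine ⟨fun ⟨k, hk⟩ => ?_, fun hw => ?_⟩
      · have : w = 0 := (toL_bijective S.X₂ (p + 1) h₂ hV.affine).1 (hk.symm.trans (map_zero (toL S.X₂ (p + 1) V)).symm)
        rw [this]
        exact zero_mem _
      · have : w = 0 := Subtype.ext ((Submodule.mem_bot _).1 hw)
        exact ⟨0, by rw [this, map_zero, map_zero]⟩
  haveI : IsIso f₁ := hse₁.isIso_f_iff.2 (isZero_cokernel_of_epi _)
  obtain ⟨i₁⟩ := tens_iso_left (A := L S.X₁ p) ((nonempty_L_one h₃).some ≪≫ e₃)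
  obtain ⟨i₀⟩ := tens_iso_left (A := L S.X₁ (p + 1)) (nonempty_L_zero h₃).some
  let j : cokernel (muHom (S := S) h₁ h₂ (add_zero (p + 1))) ≅ L S.X₁ p := (asIso f₁).symm ≪≫ i₁
  let c : cokernel (0 : L S.X₂ (p + 1) ⟶ L S.X₂ (p + 1)) ≅ L S.X₂ (p + 1) := cokernelZeroIsoTarget
  refine ⟨i₀.inv ≫ f₀ ≫ c.hom, c.inv ≫ g₀ ≫ j.hom, by simp [reassoc_of% w₀], ?_⟩
  exact ShortComplex.shortExact_of_iso (ShortComplex.isoMk i₀ c j (by simp) (by simp)) hse₀

end Groth.Agent.PnEuler
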