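import Groth.Agent.PnEuler.Omega
import Groth.Agent.PnEuler.Coh
import Groth.Agent.S0843
import Groth.Agent.S0844
import Groth.Agent.S0845
import Groth.Agent.ComodLib.GradedAug
import Groth.Agent.QCoh.OpenSub
import Groth.Agent.Lib.PnDualCoh

/-!
# The cohomology of the twisted exterior powers of the differentials of projective space
-/

set_option linter.style.haveILetI false
set_option linter.unusedSectionVars false
set_option backward.isDefEq.respectTransparency false
set_option backward.isDefEq.respectTransparency.types false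
set_option maxHeartbeats 1000000

universe u

open CategoryTheory CategoryTheory.Limits AlgebraicGeometry TopologicalSpace Opposite

noncomputable section

namespace Groth.Agent.PnEuler

variable (n : ℕ) (k : Type u) [CommRing k]

local notation "Pn" => CohB1.ProjSpace n k
local notation "tw" => Twist.twistProjSpace n k

theorem nonempty_hh_tw_zero : Nonempty (Coh.HH (Pn) (tw 0) 0 ≃ₗ[k] k) := by
  obtain ⟨e⟩ := S0843.result k n 0
  let H := MvPolynomial.homogeneousSubmodule (Fin (n + 1)) k 0
  let φ : k →ₗ[k] H := (Algebra.linearMap k (MvPolynomial (Fin (n + 1)) k)).codRestrict H fun c =>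
    MvPolynomial.isHomogeneous_C (Fin (n + 1)) c
  have hφ : Function.Bijective φ := by
    refine ⟨fun a b h => MvPolynomial.C_injective _ _ (congrArg Subtype.val h), fun x => ?_⟩
    exact ⟨MvPolynomial.coeff 0 x.1, Subtype.ext (MvPolynomial.totalDegree_eq_zero_iff_eq_C.1
      (Nat.le_zero.1 (MvPolynomial.IsHomogeneous.totalDegree_le x.2))).symm⟩
  exact ⟨e.trans (LinearEquiv.ofBijective φ hφ).symm⟩

theorem subsingleton_tw (d : ℤ) (q : ℕ) (h₀ : ¬ (q = 0 ∧ 0 ≤ d)) (hn : ¬ (q = n ∧ d ≤ -((n : ℤ) + 1))) :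
    Subsingleton (Coh.HH (Pn) (tw d) q) :=
  S0844.result k n d q h₀ hn

variable [QuasiSeparated (CohB1.ProjSpace.toSpec n k)]

/-- The middle terms. -/
abbrev Mid (p : ℕ) (d : ℤ) : (Pn).Modules :=
  ∐ fun _ : Fin ((n + 1).choose (p + 1)) => tw (d - ((p : ℤ) + 1))

theorem subsingleton_Mid (p : ℕ) (d : ℤ) (q : ℕ) (h₀ : ¬ (q = 0 ∧ (p : ℤ) + 1 ≤ d))
    (hn : ¬ (q = n ∧ d - ((p : ℤ) + 1) ≤ -((n : ℤ) + 1))) : Subsingleton (Coh.HH (Pn) (Mid n k p d) q) :=
  subsingleton_sigma k _ _ q (subsingleton_tw n k _ q (fun h => h₀ ⟨h.1, by omega⟩) hn)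

theorem subsingleton_Om_of_lt {p : ℕ} (hp : n < p) (d : ℤ) (q : ℕ) : Subsingleton (Coh.HH (Pn) (Om n k p d) q) :=
  Euler.subsingleton_HH_of_isZero (isZero_Om n k hp d) q

/-- `H^q(Ω^p) = 0` unless `p = q ≤ n`. -/
theorem subsingleton_Om_zero (p q : ℕ) (h : p ≠ q ∨ n < p) : Subsingleton (Coh.HH (Pn) (Om n k p 0) q) := by
  induction p generalizing q with
  | zero =>
    refine QCoh.subsingleton_HH_of_iso (nonempty_Om_zero n k 0).some.symm q (subsingleton_tw n k 0 q ?_ (by omega))
    omega
  | succ p ih =>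
    rcases Nat.lt_or_ge n (p + 1) with hp | hp
    · exact subsingleton_Om_of_lt n k hp 0 q
    obtain ⟨f, g, w, hS⟩ := exists_ses n k p 0
    cases q with
    | zero => exact subsingleton_X₁_zero k hS (subsingleton_Mid n k p 0 0 (by omega) (by omega))
    | succ q => exact subsingleton_X₁_succ k hS q (subsingleton_Mid n k p 0 (q + 1) (by omega) (by omega)) (ih q (by omega))

/-- `H^p(Ω^p) = A`. -/
theorem nonempty_Om_zero_equiv (p : ℕ) (hp : p ≤ n) : Nonempty (Coh.HH (Pn) (Om n k p 0) p ≃ₗ[k] k) := by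
  induction p with
  | zero =>
    exact ⟨(hhIso k (nonempty_Om_zero n k 0).some 0).trans (nonempty_hh_tw_zero n k).some⟩
  | succ p ih =>
    obtain ⟨e⟩ := ih (by omega)
    obtain ⟨f, g, w, hS⟩ := exists_ses n k p 0
    exact ⟨(deltaEquiv k hS p (subsingleton_Mid n k p 0 p (by omega) (by omega))
      (subsingleton_Mid n k p 0 (p + 1) (by omega) (by omega))).symm.trans e⟩

/-- `H^q(Ω^p(d)) = 0` for `q, d > 0`. -/
theorem subsingleton_Om_pos (d : ℤ) (hd : 0 < d) (p q : ℕ) (hq : 0 < q) :
    Subsingleton (Coh.HH (Pn) (Om n k p d) q) := by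
  suffices ∀ t p q, n + 1 ≤ p + t → 0 < q → Subsingleton (Coh.HH (Pn) (Om n k p d) q) from
    this (n + 1) p q (by omega) hq
  intro t
  induction t with
  | zero => exact fun p q h _ => subsingleton_Om_of_lt n k (by omega) d q
  | succ t ih =>
    intro p q h hq
    rcases Nat.lt_or_ge n p with hp | hp
    · exact subsingleton_Om_of_lt n k hp d q
    obtain ⟨f, g, w, hS⟩ := exists_ses n k p d
    exact subsingleton_X₃ k hS q (subsingleton_Mid n k p d q (by omega) (by omega))
      (ih (p + 1) (q + 1) (by omega) (by omega))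

/-- `H^q(Ω^p(d)) = 0` for `d < 0` and `q < n`. -/
theorem subsingleton_Om_neg (d : ℤ) (hd : d < 0) (p q : ℕ) (hq : q < n) :
    Subsingleton (Coh.HH (Pn) (Om n k p d) q) := by
  induction p generalizing q with
  | zero =>
    exact QCoh.subsingleton_HH_of_iso (nonempty_Om_zero n k d).some.symm q
      (subsingleton_tw n k d q (by omega) (by omega))
  | succ p ih =>
    obtain ⟨f, g, w, hS⟩ := exists_ses n k p d
    cases q with
    | zero => exact subsingleton_X₁_zero k hS (subsingleton_Mid n k p d 0 (by omega) (by omega))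
    | succ q => exact subsingleton_X₁_succ k hS q (subsingleton_Mid n k p d (q + 1) (by omega) (by omega)) (ih q (by omega))

theorem subsingleton_Om_top (d : ℤ) (p q : ℕ) (hq : n < q) : Subsingleton (Coh.HH (Pn) (Om n k p d) q) := by
  haveI : (CohB1.ProjSpace n k).IsSeparated := inferInstanceAs (Proj (CohB1.polyGrading n k)).IsSeparated
  refine QCoh.HH_subsingleton_of_cover (X := Proj (CohB1.polyGrading n k)) (n + 1) (fun j => D n k j)
    (fun j => isAffineOpen_D n k j) (top_le_iff.1 fun x _ => Opens.mem_iSup.2 (exists_mem_D n k x))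
    (fun V W hV hW => IsAffineOpen.inf hV hW) ?_ q hq
  exact KFlatLib.isQCoh_tensor (ExtPowSh.isQCoh _ p (isQCoh_omega n k)) (isQCoh_tw n k d)

/-- `H^0(Ω^p(d)) = 0` for `d < p`. -/
theorem subsingleton_Om_h0 (hn : 1 ≤ n) (d : ℤ) (p : ℕ) (hd : d < p) : Subsingleton (Coh.HH (Pn) (Om n k p d) 0) := by
  cases p with
  | zero => exact QCoh.subsingleton_HH_of_iso (nonempty_Om_zero n k d).some.symm 0 (S0844.result k n d 0 (by omega) (by omega))
  | succ p =>
    obtain ⟨f, g, w, hS⟩ := exists_ses n k p d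
    exact subsingleton_X₁_zero k hS (subsingleton_Mid n k p d 0 (by omega) (by omega))

end Groth.Agent.PnEuler
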