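import Groth.Agent.PnEuler.Bott
import Groth.Agent.ExtShX.PnSmooth

/-!
# The dimensions in Bott's formula
-/

set_option linter.style.haveILetI false
set_option linter.unusedSectionVars false
set_option backward.isDefEq.respectTransparency false
set_option backward.isDefEq.respectTransparency.types false
set_option maxHeartbeats 1000000

universe u

open CategoryTheory CategoryTheory.Limits AlgebraicGeometry TopologicalSpace Opposite

noncomputable section

namespace Groth.Agent.PnEuler

/-- The identity behind the degree zero part. -/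
theorem choose_id_zero {r p d : ℕ} (hp : p + 1 ≤ r) (hd : p + 1 ≤ d) :
    Nat.choose (d + r - (p + 1)) d * Nat.choose (d - 1) (p + 1) + Nat.choose (d + r - p) d * Nat.choose (d - 1) p =
      Nat.choose (r + 1) (p + 1) * Nat.choose (d - (p + 1) + r) r := by
  obtain ⟨j, rfl⟩ := Nat.exists_eq_add_of_le hp
  obtain ⟨v, rfl⟩ := Nat.exists_eq_add_of_le hd
  rw [show p + 1 + v + (p + 1 + j) - (p + 1) = p + 1 + j + v by omega,
    show p + 1 + v + (p + 1 + j) - p = p + 1 + j + v + 1 by omega,
    show p + 1 + v - 1 = p + v by omega, show p + 1 + v - (p + 1) + (p + 1 + j) = p + 1 + j + v by omega]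
  generalize hm : p + 1 + j + v = m
  have e1 : m.choose (p + 1 + v) = m.choose j := Nat.choose_symm_of_eq_add (by omega)
  have e2 : (m + 1).choose (p + 1 + v) = m.choose j + m.choose (j + 1) := by
    rw [Nat.choose_symm_of_eq_add (show m + 1 = p + 1 + v + (j + 1) by omega), Nat.choose_succ_succ]
  have e3 : (p + 1 + j + 1).choose (p + 1) = (p + 1 + j).choose j + (p + 1 + j).choose (j + 1) := by
    rw [Nat.choose_symm_of_eq_add (show p + 1 + j + 1 = p + 1 + (j + 1) by omega), Nat.choose_succ_succ]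
  have e4 : m.choose (p + 1 + j) * (p + 1 + j).choose j = m.choose j * (p + v + 1).choose (p + 1) := by
    rw [Nat.choose_mul (by omega), show m - j = p + v + 1 by omega, show p + 1 + j - j = p + 1 by omega]
  have e5 : m.choose (p + 1 + j) * (p + 1 + j).choose (j + 1) = m.choose (j + 1) * (p + v).choose p := by
    rw [Nat.choose_mul (by omega), show m - (j + 1) = p + v by omega, show p + 1 + j - (j + 1) = p by omega]
  rw [e1, e2, e3, add_mul ((p + 1 + j).choose j), mul_comm ((p + 1 + j).choose j),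
    mul_comm ((p + 1 + j).choose (j + 1)), e4, e5, Nat.choose_succ_succ (p + v) p]
  simp only [Nat.succ_eq_add_one]
  ring

/-- The identity behind the top degree part. -/
theorem choose_id_top {r p e : ℕ} (hp : p + 1 ≤ r) (he : 1 ≤ e) :
    Nat.choose (e + (p + 1)) e * Nat.choose (e - 1) (r - (p + 1)) + Nat.choose (e + p) e * Nat.choose (e - 1) (r - p) =
      Nat.choose (r + 1) (p + 1) * Nat.choose (e + p) r := by
  obtain ⟨j, rfl⟩ := Nat.exists_eq_add_of_le hp
  obtain ⟨u, rfl⟩ := Nat.exists_eq_add_of_le he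
  rw [show 1 + u - 1 = u by omega, show p + 1 + j - (p + 1) = j by omega, show p + 1 + j - p = j + 1 by omega,
    show 1 + u + (p + 1) = 1 + u + p + 1 by omega]
  generalize hm : 1 + u + p = m
  have e1 : (m + 1).choose (1 + u) = m.choose p + m.choose (p + 1) := by
    rw [Nat.choose_symm_of_eq_add (show m + 1 = 1 + u + (p + 1) by omega), Nat.choose_succ_succ]
  have e2 : m.choose (1 + u) = m.choose p := Nat.choose_symm_of_eq_add (by omega)
  have e4 : m.choose (p + 1 + j) * (p + 1 + j).choose p = m.choose p * (u + 1).choose (j + 1) := by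
    rw [Nat.choose_mul (by omega), show m - p = u + 1 by omega, show p + 1 + j - p = j + 1 by omega]
  have e5 : m.choose (p + 1 + j) * (p + 1 + j).choose (p + 1) = m.choose (p + 1) * u.choose j := by
    rw [Nat.choose_mul (by omega), show m - (p + 1) = u by omega, show p + 1 + j - (p + 1) = j by omega]
  rw [e1, e2, Nat.choose_succ_succ (p + 1 + j) p, add_mul ((p + 1 + j).choose p), mul_comm ((p + 1 + j).choose p),
    mul_comm ((p + 1 + j).choose _), e4, e5, Nat.choose_succ_succ u j]
  simp only [Nat.succ_eq_add_one]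
  ring

variable (n : ℕ) (k : Type u) [Field k]

local notation "Pn" => CohB1.ProjSpace n k
local notation "tw" => Twist.twistProjSpace n k

theorem finrank_poly (d : ℕ) : Module.Finite k (MvPolynomial.homogeneousSubmodule (Fin (n + 1)) k d) ∧
    Module.finrank k (MvPolynomial.homogeneousSubmodule (Fin (n + 1)) k d) = (n + d).choose d := by
  obtain ⟨h1, h2⟩ := ComodLib.GradedAug.finrank_homogeneous (k := k) (n + 1) d
  exact ⟨h1, h2.trans (by rw [show n + 1 + d - 1 = n + d by omega])⟩

theorem finrank_h0_tw (d : ℕ) : Module.Finite k (Coh.HH (Pn) (tw (d : ℤ)) 0) ∧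
    Module.finrank k (Coh.HH (Pn) (tw (d : ℤ)) 0) = (n + d).choose n := by
  obtain ⟨e⟩ := S0843.result k n d
  obtain ⟨h1, h2⟩ := finrank_poly n k d
  haveI := h1
  exact ⟨Module.Finite.equiv e.symm, by rw [e.finrank_eq, h2, Nat.choose_symm_of_eq_add rfl]⟩

theorem finrank_hn_tw (hn : 1 ≤ n) (m : ℕ) (hm : 1 ≤ m) : Module.Finite k (Coh.HH (Pn) (tw (-(m : ℤ))) n) ∧
    Module.finrank k (Coh.HH (Pn) (tw (-(m : ℤ))) n) = (m - 1).choose n := by
  rcases Nat.lt_or_ge m (n + 1) with h | h
  · haveI := S0844.result k n (-(m : ℤ)) n (by omega) (by omega)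
    exact ⟨inferInstance, by rw [Module.finrank_zero_of_subsingleton, Nat.choose_eq_zero_of_lt (by omega)]⟩
  · obtain ⟨j, rfl⟩ := Nat.exists_eq_add_of_le h
    obtain ⟨e⟩ := S0845.result k n j
    obtain ⟨h1, h2⟩ := finrank_poly n k j
    haveI := h1
    rw [show -((n + 1 + j : ℕ) : ℤ) = -((n : ℤ) + 1 + j) by push_cast; ring]
    exact ⟨Module.Finite.equiv e.symm, by
      rw [e.finrank_eq, h2, show n + 1 + j - 1 = n + j by omega, Nat.choose_symm_of_eq_add rfl]⟩

variable [QuasiSeparated (CohB1.ProjSpace.toSpec n k)]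

/-- Bott's formula in degree zero. -/
theorem finrank_Om_h0 (p d : ℕ) (hp : p ≤ n) (hpd : p ≤ d) (hd : 1 ≤ d) :
    Module.Finite k (Coh.HH (Pn) (Om n k p (d : ℤ)) 0) ∧
      Module.finrank k (Coh.HH (Pn) (Om n k p (d : ℤ)) 0) = Nat.choose (d + n - p) d * Nat.choose (d - 1) p := by
  induction p with
  | zero =>
    obtain ⟨e⟩ := nonempty_Om_zero n k (d : ℤ)
    obtain ⟨h1, h2⟩ := finrank_h0_tw n k d
    haveI := h1
    refine ⟨Module.Finite.equiv (hhIso k e 0).symm, ?_⟩
    rw [(hhIso k e 0).finrank_eq, h2, Nat.choose_zero_right, mul_one, Nat.sub_zero, add_comm d n,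
      Nat.choose_symm_of_eq_add rfl]
  | succ p ih =>
    obtain ⟨f, g, w, hS⟩ := exists_ses n k p (d : ℤ)
    obtain ⟨h1, h2⟩ := finrank_h0_tw n k (d - (p + 1))
    rw [show ((d - (p + 1) : ℕ) : ℤ) = (d : ℤ) - ((p : ℤ) + 1) by omega] at h1 h2
    haveI := h1
    let E := hhSigma k (tw ((d : ℤ) - ((p : ℤ) + 1))) ((n + 1).choose (p + 1)) 0
    haveI : Module.Finite k (Coh.HH (Pn) (Mid n k p (d : ℤ)) 0) := Module.Finite.equiv E.symm
    have hv := subsingleton_Om_pos n k (d : ℤ) (by omega) (p + 1) (0 + 1) (by omega)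
    have hinj := injective_f_zero k hS
    obtain ⟨hA, hB, hAB⟩ := finrank_add k hS 0 hinj (surjective_g k hS 0 hv)
    refine ⟨hA, ?_⟩
    rw [(ih (by omega) (by omega)).2, E.finrank_eq, Module.finrank_pi_fintype, Finset.sum_const, Finset.card_univ,
      Fintype.card_fin, smul_eq_mul, h2] at hAB
    dsimp only at hAB
    have h3 := choose_id_zero (r := n) (p := p) (d := d) hp hpd
    rw [show d - (p + 1) + n = n + (d - (p + 1)) by omega] at h3
    omega

/-- Bott's formula in the top degree. -/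
theorem finrank_Om_top (hn : 1 ≤ n) (p e : ℕ) (hp : p ≤ n) (he : 1 ≤ e) :
    Module.Finite k (Coh.HH (Pn) (Om n k p (-(e : ℤ))) n) ∧
      Module.finrank k (Coh.HH (Pn) (Om n k p (-(e : ℤ))) n) = Nat.choose (e + p) e * Nat.choose (e - 1) (n - p) := by
  induction p with
  | zero =>
    obtain ⟨i⟩ := nonempty_Om_zero n k (-(e : ℤ))
    obtain ⟨h1, h2⟩ := finrank_hn_tw n k hn e he
    haveI := h1
    refine ⟨Module.Finite.equiv (hhIso k i n).symm, ?_⟩
    rw [(hhIso k i n).finrank_eq, h2, add_zero, Nat.choose_self, one_mul, Nat.sub_zero]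
  | succ p ih =>
    obtain ⟨f, g, w, hS⟩ := exists_ses n k p (-(e : ℤ))
    obtain ⟨h1, h2⟩ := finrank_hn_tw n k hn (e + (p + 1)) (by omega)
    rw [show -((e + (p + 1) : ℕ) : ℤ) = -(e : ℤ) - ((p : ℤ) + 1) by omega] at h1 h2
    haveI := h1
    let E := hhSigma k (tw (-(e : ℤ) - ((p : ℤ) + 1))) ((n + 1).choose (p + 1)) n
    haveI : Module.Finite k (Coh.HH (Pn) (Mid n k p (-(e : ℤ))) n) := Module.Finite.equiv E.symm
    obtain ⟨m, hm⟩ := Nat.exists_eq_add_of_le hn
    have hinj : Function.Injective (PnCoh.Finite.mapLin k f n) := by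
      have h := injective_f_succ k hS m (subsingleton_Om_neg n k _ (by omega) p m (by omega))
      rwa [show m + 1 = n by omega] at h
    obtain ⟨hA, hB, hAB⟩ := finrank_add k hS n hinj
      (surjective_g k hS n (subsingleton_Om_top n k _ (p + 1) (n + 1) (by omega)))
    refine ⟨hA, ?_⟩
    rw [(ih (by omega)).2, E.finrank_eq, Module.finrank_pi_fintype, Finset.sum_const, Finset.card_univ,
      Fintype.card_fin, smul_eq_mul, h2, show e + (p + 1) - 1 = e + p by omega] at hAB
    dsimp only at hAB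
    have h3 := choose_id_top (r := n) (p := p) (e := e) hp he
    omega

end Groth.Agent.PnEuler
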