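import Groth.Agent.Lib.CurveBundle
import Groth.Agent.Lib.CurveSlope
import Groth.Agent.Lib.CurveHom
import Groth.Agent.Lib.CurveDualPrep
import Groth.Agent.Ref1X.Generic
import Groth.Agent.RefX.Reflexive
import Groth.Agent.Lib.InvEnd
import Groth.Agent.CanonDual.TF
import Groth.Agent.S16489
import Groth.Agent.S16490
import Groth.Agent.S16491

/-!
# Maps into bundles on integral schemes are detected at the generic point
-/

set_option linter.style.haveILetI false
set_option linter.unusedSectionVars false
set_option backward.isDefEq.respectTransparency false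
set_option backward.isDefEq.respectTransparency.types false
set_option maxHeartbeats 1000000

universe u

open CategoryTheory CategoryTheory.Limits AlgebraicGeometry TopologicalSpace Opposite

noncomputable section

namespace Groth.Agent.PnEuler.Generic

open Groth.Agent.CurveBundle

variable {X : Scheme.{u}} [IsIntegral X] [IsLocallyNoetherian X]

theorem isReflexive_flf {E : X.Modules} (hE : FlatMod.IsFinLocFree E) : RefHull.IsReflexive E := by
  have hc : Coh.IsCoh E := QCoh.isCoh_iff_isFP.2 (QCoh.isFP_of_isFinLocFree hE)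
  refine (RefX.isReflexive_iff hc).2 fun x => ?_
  haveI := QCoh.free_stalk_of_isFinLocFree hE x
  haveI := QCoh.finite_stalk_of_isFT hc.1 hc.2 x
  exact (inferInstance : Module.IsReflexive (X.presheaf.stalk x) (E.presheaf.stalk x))

theorem torsionFree_flf {E : X.Modules} (hE : FlatMod.IsFinLocFree E) : TorSh.IsTorsionFree E := fun x => by
  haveI := QCoh.free_stalk_of_isFinLocFree hE x
  infer_instance

/-- A map into a bundle which vanishes at the generic point is zero. -/
theorem eq_zero_of_generic {M E : X.Modules} (hE : FlatMod.IsFinLocFree E) (f : M ⟶ E)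
    (h : ∀ v, RefHull.stalkMapₗ f (genericPoint X) v = 0) : f = 0 :=
  CurveHom.eq_zero_of_stalk f fun x v =>
    Ref1X.gsp_injective (QCoh.isCoh_iff_isFP.2 (QCoh.isFP_of_isFinLocFree hE)) (isReflexive_flf hE) x
      ((Ref1X.sp_stalkMap f (Ref1X.eta_le x) v).trans ((h _).trans (map_zero _).symm))

/-- A map from a coherent module of generic rank zero to a bundle is zero. -/
theorem eq_zero_of_rk {M E : X.Modules} (hM : Coh.IsCoh M) (h0 : rk M = 0) (hE : FlatMod.IsFinLocFree E)
    (f : M ⟶ E) : f = 0 := by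
  letI := (isField_stalk_generic (X := X)).toField
  haveI := finite_stalk_of_coh hM (genericPoint X)
  haveI : Subsingleton (M.presheaf.stalk (genericPoint X)) := Module.finrank_zero_iff.1 h0
  exact eq_zero_of_generic hE f fun v => by rw [Subsingleton.elim v 0, map_zero]

theorem rk_le {M N : X.Modules} (i : M ⟶ N) [Mono i] (hN : Coh.IsCoh N) : rk M ≤ rk N := by
  have := rk_add (CurveSlope.shortExact_cokernel_of_mono i) (finite_stalk_of_coh hN _)
  dsimp only at this
  omega

/-- Rank and generic invertibility. -/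
theorem genInvertible_of_rk_one {M : X.Modules} (hM : Coh.IsCoh M) (h1 : rk M = 1) : RefHull.GenInvertible M := by
  haveI : Module.Free (X.presheaf.stalk (genericPoint X)) (M.presheaf.stalk (genericPoint X)) := by
    letI := (isField_stalk_generic (X := X)).toField
    infer_instance
  obtain ⟨U, n, hU, ⟨e⟩⟩ := QCoh.exists_free_nhd_of_free_stalk (QCoh.isCoh_iff_isFP.1 hM) (genericPoint X)
  obtain ⟨_, ⟨V, hV, rfl⟩, hxV, hle⟩ := X.isBasis_affineOpens.exists_subset_of_mem_open hU U.2
  obtain ⟨l⟩ := QCoh.free_sections hV hle e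
  have hn : n = 1 := (QCoh.finrank_stalk_of_freeChart hV hM.1 l hxV).symm.trans h1
  subst hn
  refine ⟨U, dense_iff_inter_open.2 fun W hW ⟨v, hv⟩ =>
    ⟨genericPoint X, (Ref1X.eta_le v).mem_open hW hv, hU⟩, fun y => ⟨⊤, trivial, ⟨?_⟩⟩⟩
  exact (Scheme.Modules.restrictFunctor (⊤ : (U : Scheme.{u}).Opens).ι).mapIso (e ≪≫ coproductUniqueIso _) ≪≫
    KFlatLib.restrictStructureIso _

/-- Nonzero maps from line bundles to bundles are injective. -/
theorem mono_of_ne_zero {L E : X.Modules} (hL : PicF.IsInvertible L) (hE : FlatMod.IsFinLocFree E)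
    (g : L ⟶ E) (hg : g ≠ 0) : Mono g := by
  have hLc : Coh.IsCoh L := QCoh.isCoh_iff_isFP.2 (QCoh.isFP_of_isFinLocFree (ExtPowSh.flf_of_rank (InvEnd.isFinLocFreeOfRank_one hL)))
  have hEc : Coh.IsCoh E := QCoh.isCoh_iff_isFP.2 (QCoh.isFP_of_isFinLocFree hE)
  have hK : Coh.IsCoh (kernel g) := QCoh.isCoh_kernel hLc hEc g
  have hI : Coh.IsCoh (Abelian.coimage g) := QCoh.isCoh_cokernel hK.1 hLc (kernel.ι g)
  have h : rk L = rk (kernel g) + rk (Abelian.coimage g) :=
    rk_add' (kernel.ι g) (Abelian.coimage.π g) (cokernel.condition _)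
      (CurveSlope.shortExact_cokernel_of_mono (kernel.ι g)) (finite_stalk_of_coh hLc _)
  rw [rk_eq (InvEnd.isFinLocFreeOfRank_one hL)] at h
  by_cases h0 : rk (Abelian.coimage g) = 0
  · refine absurd ?_ hg
    rw [← Abelian.coimage.fac g, eq_zero_of_rk hI h0 hE (Abelian.factorThruCoimage g), comp_zero]
  · exact Preadditive.mono_of_kernel_zero
      (eq_zero_of_rk hK (by omega) (ExtPowSh.flf_of_rank (InvEnd.isFinLocFreeOfRank_one hL)) (kernel.ι g))

/-- On regular schemes the kernel of a nonzero map from a rank two bundle to a line bundle is a line bundle. -/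
theorem isInvertible_kernel (hreg : ∀ x : X, IsRegularLocalRing (X.presheaf.stalk x)) {E L : X.Modules}
    (hE : FlatMod.IsFinLocFreeOfRank 2 E) (hL : PicF.IsInvertible L) (q : E ⟶ L) (hq : q ≠ 0) :
    PicF.IsInvertible (kernel q) := by
  have hE' := ExtPowSh.flf_of_rank hE
  have hL' := ExtPowSh.flf_of_rank (InvEnd.isFinLocFreeOfRank_one hL)
  have hEc : Coh.IsCoh E := QCoh.isCoh_iff_isFP.2 (QCoh.isFP_of_isFinLocFree hE')
  have hLc : Coh.IsCoh L := QCoh.isCoh_iff_isFP.2 (QCoh.isFP_of_isFinLocFree hL')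
  have hK : Coh.IsCoh (kernel q) := QCoh.isCoh_kernel hEc hLc q
  have hI : Coh.IsCoh (Abelian.coimage q) := QCoh.isCoh_cokernel hK.1 hEc (kernel.ι q)
  have hS := CurveSlope.shortExact_cokernel_of_mono (kernel.ι q)
  have h : rk E = rk (kernel q) + rk (Abelian.coimage q) :=
    rk_add' (kernel.ι q) (Abelian.coimage.π q) (cokernel.condition _) hS (finite_stalk_of_coh hEc _)
  rw [rk_eq hE] at h
  have hle : rk (Abelian.coimage q) ≤ 1 :=
    (rk_le (Abelian.factorThruCoimage q) hLc).trans (rk_eq (InvEnd.isFinLocFreeOfRank_one hL)).le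
  have hpos : rk (Abelian.coimage q) ≠ 0 := fun h0 => hq (by
    rw [← Abelian.coimage.fac q, eq_zero_of_rk hI h0 hL' (Abelian.factorThruCoimage q), comp_zero])
  have hrefl : RefHull.IsReflexive (kernel q) := (S16489.result X hreg _ hK).2
    ⟨CanonDual.torsionFree_of_mono (kernel.ι q) (torsionFree_flf hE'),
      S16490.result X hreg _ hS hK hEc hI (isReflexive_flf hE')
        (CanonDual.torsionFree_of_mono (Abelian.factorThruCoimage q) (torsionFree_flf hL'))⟩
  exact S16491.result X hreg _ hK hrefl (genInvertible_of_rk_one hK (by omega))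

end Groth.Agent.PnEuler.Generic
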