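import Groth.Agent.PnEuler.NullProp
import Groth.Agent.KRRReg.KMaps
import Groth.Agent.PicPnLib.Uniq
import Groth.Agent.ParaFX.FlatDesc
import Groth.Agent.ASB.Tensor
import Mathlib.LinearAlgebra.Matrix.ToLin

/-!
# Differentials of projective space restricted to a linear subspace
-/

set_option linter.style.haveILetI false
set_option linter.unusedSectionVars false
set_option backward.isDefEq.respectTransparency false
set_option backward.isDefEq.respectTransparency.types false
set_option maxHeartbeats 1000000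

universe u

open CategoryTheory CategoryTheory.Limits AlgebraicGeometry TopologicalSpace Opposite MvPolynomial

noncomputable section

namespace Groth.Agent.PnEuler

/-- Tensor products respect isomorphisms on the right. -/
def tensCongr {Y : Scheme.{u}} (A : Y.Modules) {B B' : Y.Modules} (e : B ≅ B') :
    CohB1.tensorMod A B ≅ CohB1.tensorMod A B' :=
  (DCoh.tensorBi.obj A).mapIso e


/-- Isomorphic maps have isomorphic kernels. -/
theorem kernel_iso_of_ses {C : Type*} [Category C] [Abelian C] {S : ShortComplex C} (hS : S.ShortExact) {M N : C}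
    (g : M ⟶ N) (e₂ : S.X₂ ≅ M) (e₃ : S.X₃ ≅ N) (h : S.g ≫ e₃.hom = e₂.hom ≫ g) : Nonempty (S.X₁ ≅ kernel g) :=
  ⟨hS.fIsKernel.conePointUniqueUpToIso (kernelIsKernel S.g) ≪≫ kernel.mapIso S.g g e₂ e₃ h⟩

section

variable {𝓐 : Type*} [Category 𝓐] [Abelian 𝓐] (T : 𝓐) (κ μ : Type) [HasCoproduct fun _ : κ => T]
  [HasCoproduct fun _ : μ => T] [HasCoproduct fun _ : κ ⊕ μ => T]

/-- Copies indexed by a sum. -/
def sumIso : (∐ fun _ : κ ⊕ μ => T) ≅ (∐ fun _ : κ => T) ⊞ ∐ fun _ : μ => T where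
  hom := Sigma.desc (Sum.elim (fun j => Sigma.ι (fun _ : κ => T) j ≫ biprod.inl)
    (fun j => Sigma.ι (fun _ : μ => T) j ≫ biprod.inr))
  inv := biprod.desc (Sigma.desc fun j => Sigma.ι (fun _ : κ ⊕ μ => T) (Sum.inl j))
    (Sigma.desc fun j => Sigma.ι (fun _ : κ ⊕ μ => T) (Sum.inr j))
  hom_inv_id := Sigma.hom_ext _ _ fun x => by cases x <;> simp
  inv_hom_id := biprod.hom_ext' _ _ (Sigma.hom_ext _ _ fun x => by simp) (Sigma.hom_ext _ _ fun x => by simp)

theorem ι_inl_sumIso (j : κ) :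
    Sigma.ι (fun _ : κ ⊕ μ => T) (Sum.inl j) ≫ (sumIso T κ μ).hom ≫ biprod.fst = Sigma.ι (fun _ : κ => T) j := by
  simp [sumIso]

theorem ι_inr_sumIso (j : μ) :
    Sigma.ι (fun _ : κ ⊕ μ => T) (Sum.inr j) ≫ (sumIso T κ μ).hom ≫ biprod.fst = 0 := by
  simp [sumIso]

end

variable (m : ℕ) (k : Type u) [Field k]

local notation "Pm" => CohB1.ProjSpace m k
local notation "tw" => Twist.twistProjSpace m k

/-- A map of sums of copies from a matrix of scalars. -/
def mh {κ μ : Type} [Fintype μ] [DecidableEq μ] (T : (Pm).Modules) (M : Matrix κ μ k) :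
    (∐ fun _ : κ => T) ⟶ ∐ fun _ : μ => T :=
  Sigma.desc fun j => ∑ l, sc m k T (M j l) ≫ Sigma.ι (fun _ : μ => T) l

theorem sc_add (T : (Pm).Modules) (a b : k) : sc m k T (a + b) = sc m k T a + sc m k T b := by
  rw [sc, map_add, KLin.smulModΓ_add]
  rfl

theorem sc_sum {ι : Type} (s : Finset ι) (T : (Pm).Modules) (f : ι → k) :
    sc m k T (∑ i ∈ s, f i) = ∑ i ∈ s, sc m k T (f i) := by
  classical
  induction s using Finset.induction_on with
  | empty => simp [sc_zero]
  | insert b s hb ih => rw [Finset.sum_insert hb, Finset.sum_insert hb, sc_add, ih]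

theorem mh_comp {κ μ ν : Type} [Fintype μ] [DecidableEq μ] [Fintype ν] [DecidableEq ν] (T : (Pm).Modules)
    (M : Matrix κ μ k) (N : Matrix μ ν k) : mh m k T M ≫ mh m k T N = mh m k T (M * N) := by
  refine Sigma.hom_ext _ _ fun j => ?_
  simp only [mh, Sigma.ι_desc, Sigma.ι_desc_assoc, Preadditive.sum_comp, Category.assoc, Preadditive.comp_sum]
  rw [Finset.sum_comm]
  refine Finset.sum_congr rfl fun l _ => ?_
  rw [Matrix.mul_apply, sc_sum, Preadditive.sum_comp]
  exact Finset.sum_congr rfl fun i _ => by rw [← Category.assoc, ← sc_mul]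

theorem mh_one {κ : Type} [Fintype κ] [DecidableEq κ] (T : (Pm).Modules) : mh m k T (1 : Matrix κ κ k) = 𝟙 _ := by
  refine Sigma.hom_ext _ _ fun j => ?_
  rw [mh, Sigma.ι_desc, Category.comp_id, Finset.sum_eq_single j
    (fun l _ hl => by rw [Matrix.one_apply_ne' hl, sc_zero, zero_comp]) (by simp), Matrix.one_apply_eq, sc_one,
    Category.id_comp]

/-- A linear injection extends to an equivalence with a sum. -/
theorem exists_frame {a b : ℕ} (g : (Fin a → k) →ₗ[k] (Fin b → k)) (hg : Function.Injective g) :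
    ∃ (Φ : (Fin a ⊕ Fin (b - a) → k) ≃ₗ[k] (Fin b → k)), ∀ v, Φ (Sum.elim v 0) = g v := by
  obtain ⟨W, hW⟩ := Submodule.exists_isCompl (LinearMap.range g)
  let e : ((Fin a → k) × (Fin (Module.finrank k W) → k)) ≃ₗ[k] (Fin b → k) :=
    (LinearEquiv.ofInjective g hg).prodCongr (Module.finBasis k W).equivFun.symm ≪≫ₗ
      Submodule.prodEquivOfIsCompl _ _ hW
  have hr : Module.finrank k W = b - a := by
    have h := e.finrank_eq
    simp only [Module.finrank_prod, Module.finrank_fin_fun] at h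
    omega
  refine ⟨LinearEquiv.sumArrowLequivProdArrow _ _ k k ≪≫ₗ
    (LinearEquiv.refl k _).prodCongr (LinearEquiv.funCongrLeft k k (finCongr hr)) ≪≫ₗ e, fun v => ?_⟩
  simp [e, LinearEquiv.sumArrowLequivProdArrow]
  rfl

/-- A form of degree one is a combination of coordinates. -/
theorem exists_linear {p : MvPolynomial (Fin (m + 1)) k} (hp : p.IsHomogeneous 1) :
    ∃ c : Fin (m + 1) → k, p = ∑ i, C (c i) * X i := by
  have h : p ∈ homogeneousSubmodule (Fin (m + 1)) k 1 := hp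
  rw [homogeneousSubmodule_one_eq_span_X, Submodule.mem_span_range_iff_exists_fun] at h
  obtain ⟨c, hc⟩ := h
  exact ⟨c, by rw [← hc]; exact Finset.sum_congr rfl fun i _ => smul_eq_C_mul _ _⟩

variable [QuasiSeparated (CohB1.ProjSpace.toSpec m k)]

/-- Maps of twists with the same form agree. -/
theorem IsMul.ext' {a b : ℤ} {φ χ : tw a ⟶ tw b} {p : MvPolynomial (Fin (m + 1)) k} (hφ : IsMul m k φ p)
    (hχ : IsMul m k χ p) : φ = χ :=
  Scheme.Modules.hom_ext _ _ fun W => ConcreteCategory.hom_ext _ _ fun s => ext_tval m k fun y => by rw [hφ, hχ]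

theorem isQCoh_mid : Coh.IsQCoh (mid m k) := by
  obtain ⟨e⟩ := twR_free m k (m + 1) (-1)
  exact (QCoh.isQCoh_iff_iso e).1 (KFlatLib.isQCoh_tensor (isQCoh_free (Pm) (m + 1)) (isQCoh_tw m k (-1)))

/-- The kernel of a jointly surjective family of linear forms. -/
theorem nonempty_kernel_iso {r : ℕ} (γ : (∐ fun _ : Fin r => tw (-1)) ⟶ tw 0) [Epi γ] :
    Nonempty (kernel γ ≅ Omega.sheaf (CohB1.ProjSpace.toSpec m k) ⊞ ∐ fun _ : Fin (r - (m + 1)) => tw (-1)) := by
  classical
  choose p hp hmul using fun j => exists_isMul m k (e := 1) (by norm_num : (0 : ℤ) = -1 + ((1 : ℕ) : ℤ))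
    (Sigma.ι (fun _ : Fin r => tw (-1)) j ≫ γ)
  choose c hc using fun j => exists_linear m k (hp j)
  let A : Matrix (Fin r) (Fin (m + 1)) k := Matrix.of c
  have hγ : γ = mh m k (tw (-1)) A ≫ beta m k := by
    refine Sigma.hom_ext _ _ fun j => IsMul.ext' m k (hmul j) fun W s y => ?_
    rw [mh, beta, Sigma.ι_desc_assoc, Preadditive.sum_comp]
    simp only [Category.assoc, Sigma.ι_desc]
    rw [app_sum, tval_sum, hc j, map_sum, Finset.mul_sum]
    refine Finset.sum_congr rfl fun i _ => ?_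
    rw [Scheme.Modules.Hom.comp_app, ConcreteCategory.comp_apply, tval_mulT, tval_sc, map_mul]
    show algebraMap _ _ (C (c j i)) * _ * _ = _
    ring
  have hinj : Function.Injective A.mulVecLin := by
    refine (injective_iff_map_eq_zero _).2 fun v hv => ?_
    by_contra hv0
    obtain ⟨i, hi⟩ := exists_mem_D m k (point v hv0)
    haveI : Coh.IsQCoh (∐ fun _ : Fin r => tw (-1)) := by
      obtain ⟨e⟩ := twR_free m k r (-1)
      exact (QCoh.isQCoh_iff_iso e).1 (KFlatLib.isQCoh_tensor (isQCoh_free (Pm) r) (isQCoh_tw m k (-1)))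
    obtain ⟨w, hw⟩ := QCoh.app_surjective_of_epi ‹Coh.IsQCoh (∐ fun _ : Fin r => tw (-1))› (isQCoh_tw m k 0)
      γ (isAffineOpen_D m k i) (fr m k 0 (le_refl (D m k i)))
    let y : D m k i := ⟨point v hv0, hi⟩
    have h1 : tval m k ((fr m k 0 (le_refl (D m k i)))) y = 1 := tval_fr_zero m k _ _
    rw [← hw] at h1
    have h2 : ∑ j, tval m k ((Sigma.desc fun l => if l = j then 𝟙 _ else 0 :
        (∐ fun _ : Fin r => tw (-1)) ⟶ tw (-1)).app (D m k i) w) y * algebraMap _ _ (p j) = 1 := by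
      rw [← h1]
      have hid : ∑ j, (Sigma.desc fun l => if l = j then 𝟙 _ else 0 :
          (∐ fun _ : Fin r => tw (-1)) ⟶ tw (-1)) ≫ Sigma.ι (fun _ : Fin r => tw (-1)) j ≫ γ = γ := by
        refine Sigma.hom_ext _ _ fun l => ?_
        simp [Preadditive.comp_sum, ite_comp]
      conv_rhs => rw [← hid]
      rw [app_sum, tval_sum]
      refine Finset.sum_congr rfl fun j _ => ?_
      rw [Scheme.Modules.Hom.comp_app, ConcreteCategory.comp_apply, hmul j]
    have h3 : ∀ j, aeval v (p j) = 0 := fun j => by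
      rw [hc j, map_sum]
      refine Eq.trans (Finset.sum_congr rfl fun i _ => ?_) (congrFun hv j)
      simp [A, Matrix.mulVec, dotProduct]
    have hunit : ∀ j, ¬ IsUnit (algebraMap (MvPolynomial (Fin (m + 1)) k)
        (Twist.Loc (CohB1.polyGrading m k) y.1) (p j)) := fun j hu => by
      rw [IsLocalization.AtPrime.isUnit_to_map_iff _ y.1.asHomogeneousIdeal.toIdeal] at hu
      exact hu ((mem_point_iff v hv0 (hp j)).2 (h3 j))
    exact (IsLocalRing.maximalIdeal.isMaximal (Twist.Loc (CohB1.polyGrading m k) y.1)).ne_top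
      ((Ideal.eq_top_iff_one _).2 (h2 ▸ Ideal.sum_mem _ fun j _ => Ideal.mul_mem_left _ _
        ((IsLocalRing.mem_maximalIdeal _).2 (hunit j))))
  obtain ⟨Φ, hΦ⟩ := exists_frame k A.mulVecLin hinj
  let E : Matrix (Fin r) (Fin (m + 1) ⊕ Fin (r - (m + 1))) k := LinearMap.toMatrix' Φ.toLinearMap
  let E' : Matrix (Fin (m + 1) ⊕ Fin (r - (m + 1))) (Fin r) k := LinearMap.toMatrix' Φ.symm.toLinearMap
  have hEE' : E * E' = 1 := by
    rw [← LinearMap.toMatrix'_comp, ← LinearMap.toMatrix'_id]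
    congr 1
    exact LinearMap.ext fun x => Φ.apply_symm_apply x
  have hE'E : E' * E = 1 := by
    rw [← LinearMap.toMatrix'_comp, ← LinearMap.toMatrix'_id]
    congr 1
    exact LinearMap.ext fun x => Φ.symm_apply_apply x
  have hAE : ∀ j i, E j (Sum.inl i) = A j i := fun j i => by
    show LinearMap.toMatrix' Φ.toLinearMap j (Sum.inl i) = _
    rw [LinearMap.toMatrix'_apply]
    have h := congrFun (hΦ (Pi.single i 1)) j
    rw [Matrix.mulVecLin_apply, Matrix.mulVec_single_one] at h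
    refine Eq.trans ?_ h
    have hs : (Pi.single (Sum.inl i) 1 : Fin (m + 1) ⊕ Fin (r - (m + 1)) → k) = Sum.elim (Pi.single i 1) 0 :=
      funext fun x => by cases x <;> simp [Pi.single_apply]
    exact congrFun (congrArg Φ hs) j
  let K := ∐ fun _ : Fin (r - (m + 1)) => tw (-1)
  let ε : (∐ fun _ : Fin r => tw (-1)) ≅ mid m k ⊞ K :=
    { hom := mh m k (tw (-1)) E
      inv := mh m k (tw (-1)) E'
      hom_inv_id := by rw [mh_comp, hEE', mh_one]
      inv_hom_id := by rw [mh_comp, hE'E, mh_one] } ≪≫ sumIso (tw (-1)) (Fin (m + 1)) (Fin (r - (m + 1)))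
  have hfac : ε.hom ≫ biprod.fst ≫ beta m k = γ := by
    rw [hγ, ← Category.assoc]
    congr 1
    refine Sigma.hom_ext _ _ fun j => ?_
    show Sigma.ι _ j ≫ (mh m k (tw (-1)) E ≫ (sumIso (tw (-1)) (Fin (m + 1)) (Fin (r - (m + 1)))).hom) ≫ biprod.fst = _
    rw [mh, mh, Category.assoc, Sigma.ι_desc_assoc, Sigma.ι_desc, Preadditive.sum_comp, Fintype.sum_sum_type]
    simp only [Category.assoc, ι_inl_sumIso, ι_inr_sumIso, comp_zero, Finset.sum_const_zero, add_zero, hAE]
  haveI : Mono (alpha m k) := (shortExact_seq m k).mono_f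
  have w : biprod.map (alpha m k) (𝟙 K) ≫ biprod.fst ≫ beta m k = 0 := by
    rw [biprod.map_fst_assoc, alpha_beta, comp_zero]
  haveI : Mono (biprod.map (alpha m k) (𝟙 K)) :=
    ⟨fun g h e => biprod.hom_ext _ _ ((cancel_mono (alpha m k)).1 (by simpa using congrArg (· ≫ biprod.fst) e))
      (by simpa using congrArg (· ≫ biprod.snd) e)⟩
  have hlim : IsLimit (KernelFork.ofι _ w) := KernelFork.IsLimit.ofι' _ _ fun {W} g hg =>
    let hg' : (g ≫ biprod.fst) ≫ beta m k = 0 := (Category.assoc _ _ _).trans hg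
    ⟨biprod.lift ((shortExact_seq m k).fIsKernel.lift (KernelFork.ofι _ hg')) (g ≫ biprod.snd), biprod.hom_ext _ _
      (by rw [Category.assoc, biprod.map_fst, ← Category.assoc, biprod.lift_fst];
          exact (shortExact_seq m k).fIsKernel.fac (KernelFork.ofι _ hg') WalkingParallelPair.zero)
      (by simp)⟩
  exact ⟨(kernel.mapIso γ (biprod.fst ≫ beta m k) ε (Iso.refl _) (by rw [Iso.refl_hom, Category.comp_id, hfac])) ≪≫
    (kernelIsKernel _).conePointUniqueUpToIso hlim⟩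

/-- Pulling back the differentials along a map of degree one. -/
theorem nonempty_pullback_omega (n : ℕ) [QuasiSeparated (CohB1.ProjSpace.toSpec n k)] (i : Pm ⟶ CohB1.ProjSpace n k)
    (hO : Nonempty ((Scheme.Modules.pullback i).obj (Twist.twistProjSpace n k 1) ≅ tw 1)) :
    Nonempty ((Scheme.Modules.pullback i).obj (Omega.sheaf (CohB1.ProjSpace.toSpec n k)) ≅
      Omega.sheaf (CohB1.ProjSpace.toSpec m k) ⊞ ∐ fun _ : Fin (n - m) => tw (-1)) := by
  classical
  let F := Scheme.Modules.pullback i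
  obtain ⟨e1⟩ := hO
  obtain ⟨on⟩ := nonempty_unit n k
  obtain ⟨om⟩ := nonempty_unit m k
  obtain ⟨o⟩ := PicClLib.nonempty_pullback_structureModule i
  let e0 : F.obj (Twist.twistProjSpace n k 0) ≅ tw 0 := F.mapIso on.symm ≪≫ o ≪≫ om
  obtain ⟨t⟩ := tw_add n k (-1) 1
  obtain ⟨t'⟩ := tw_add m k 1 (-1)
  obtain ⟨q⟩ := ASB.pullback_tensor i (Twist.twistProjSpace n k (-1)) (Twist.twistProjSpace n k 1)
  let i₁ : CohB1.tensorMod (F.obj (Twist.twistProjSpace n k (-1))) (tw 1) ≅ Coh.structureModule Pm :=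
    tensCongr _ e1.symm ≪≫ q.symm ≪≫ F.mapIso (t ≪≫ eqToIso (by norm_num)) ≪≫ e0 ≪≫ om.symm
  let i₂ : CohB1.tensorMod (tw 1) (tw (-1)) ≅ Coh.structureModule Pm := t' ≪≫ eqToIso (by norm_num) ≪≫ om.symm
  obtain ⟨em⟩ := PicPnLib.inverse_unique i₁ i₂
  let E : F.obj (mid n k) ≅ ∐ fun _ : Fin (n + 1) => tw (-1) :=
    PreservesCoproduct.iso F _ ≪≫ Sigma.mapIso fun _ => em
  have hS := KRRReg.shortExact_pullback_vb i (shortExact_seq n k)
    (ParaFX.FlatDesc.isFinLocFree_of_invertible (inv_tw n k 0))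
  let γ := E.inv ≫ F.map (beta n k) ≫ e0.hom
  haveI : Epi (F.map (beta n k)) := hS.epi_g
  haveI : Epi γ := epi_comp _ _
  obtain ⟨a⟩ := kernel_iso_of_ses hS γ E e0 (by simp [γ, seq, F])
  obtain ⟨b⟩ := nonempty_kernel_iso m k γ
  exact ⟨a ≪≫ b ≪≫ biprod.mapIso (Iso.refl _) (eqToIso (by rw [show n + 1 - (m + 1) = n - m by omega]))⟩

/-- The differentials of the line. -/
theorem nonempty_omega_line [QuasiSeparated (CohB1.ProjSpace.toSpec 1 k)] :
    Nonempty (Omega.sheaf (CohB1.ProjSpace.toSpec 1 k) ≅ Twist.twistProjSpace 1 k (-2)) := by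
  obtain ⟨f, g, w, hS⟩ := exists_ses 1 k 1 0
  haveI := hS.mono_f
  haveI := hS.epi_g
  have hz : IsZero (Om 1 k (1 + 1) 0) := isZero_Om 1 k (by norm_num) 0
  haveI : Mono g := hS.exact.mono_g (hz.eq_of_src _ _)
  haveI : IsIso g := isIso_of_mono_of_epi g
  obtain ⟨e⟩ := nonempty_Om_iso_zero 1 k (ExtPowSh.isExtPow_one (Omega.sheaf (CohB1.ProjSpace.toSpec 1 k)))
  haveI : Unique (Fin ((1 + 1).choose (1 + 1))) := ⟨⟨⟨0, by norm_num⟩⟩, fun x => Fin.ext (by have h := x.2; simp only [Nat.choose_self, Nat.lt_one_iff] at h; exact h)⟩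
  exact ⟨e.symm ≪≫ (asIso g).symm ≪≫ coproductUniqueIso _ ≪≫ eqToIso (by norm_num)⟩

end Groth.Agent.PnEuler
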