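import Groth.Agent.H6PnSm.Basic
import Groth.Agent.ExtShX.DetPn

/-!
# The differentials of the coordinates on the charts of projective space over a ring
-/

set_option linter.style.haveILetI false
set_option linter.unusedSectionVars false
set_option backward.isDefEq.respectTransparency false
set_option backward.isDefEq.respectTransparency.types false
set_option maxHeartbeats 1000000

universe u

open CategoryTheory CategoryTheory.Limits AlgebraicGeometry TopologicalSpace Opposite

noncomputable section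

namespace Groth.Agent.PnEuler

variable (n : ℕ) (k : Type u) [CommRing k]

local notation "𝒜" => CohB1.polyGrading n k
local notation "T" => (MvPolynomial.X : Fin (n + 1) → MvPolynomial (Fin (n + 1)) k)

/-- The standard opens. -/
abbrev D (i : Fin (n + 1)) : (CohB1.ProjSpace n k).Opens := Proj.basicOpen 𝒜 (T i)

/-- The affine coordinates. -/
def a (i j : Fin (n + 1)) : Γ(CohB1.ProjSpace n k, D n k i) :=
  (Proj.awayToSection 𝒜 (T i)).hom (H6PnSm.coord n k i j)

theorem isAffineOpen_D (i : Fin (n + 1)) : IsAffineOpen (D n k i) :=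
  Proj.isAffineOpen_basicOpen 𝒜 (T i) (H6PnSm.X_mem_one n k i) Nat.one_pos

theorem exists_mem_D (x : CohB1.ProjSpace n k) : ∃ i, x ∈ D n k i := by
  have h := Proj.iSup_basicOpen_eq_top 𝒜 T (by
    intro p hp
    have hp0 : MvPolynomial.coeff 0 p = 0 := by
      have hp' := (HomogeneousIdeal.mem_irrelevant_iff 𝒜 p).1 hp
      rw [GradedRing.proj_apply] at hp'
      have h0 : MvPolynomial.homogeneousComponent 0 p = 0 :=
        (MvPolynomial.decomposition.decompose'_apply p 0).symm.trans hp'
      rw [MvPolynomial.homogeneousComponent_zero] at h0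
      exact (MvPolynomial.C_injective _ _).eq_iff.1 (h0.trans (map_zero _).symm)
    rw [← Set.image_univ, MvPolynomial.mem_ideal_span_X_image]
    intro m hm
    by_contra! hno
    have : m = 0 := Finsupp.ext fun i => hno i (Set.mem_univ i)
    subst this
    exact MvPolynomial.mem_support_iff.1 hm hp0)
  exact TopologicalSpace.Opens.mem_iSup.1 (show x ∈ ⨆ i, Proj.basicOpen 𝒜 (T i) by rw [h]; trivial)

theorem a_self (i : Fin (n + 1)) : a n k i i = 1 := by
  rw [a, H6PnSm.coord_self]
  exact map_one _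

theorem val_a (i j : Fin (n + 1)) (y : D n k i) :
    (GrModX.oval 𝒜 (a n k i j) y).val =
      Localization.mk (T j) ⟨T i ^ 1, GrModX.pow_notMem y.1.isPrime y.2 1⟩ :=
  GrModX.oval_awayToSection 𝒜 (H6PnSm.X_mem_one n k i) 1 _ y

theorem appLE_chart (i : Fin (n + 1)) (c : k) :
    (CohB1.ProjSpace.toSpec n k).appLE ⊤ (D n k i) le_top ((Scheme.ΓSpecIso (CommRingCat.of k)).inv c) =
      (Proj.awayToSection 𝒜 (T i)).hom (H6PnSm.base n k i c) := by
  let U : (Proj 𝒜).Opens := Proj.basicOpen 𝒜 (T i)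
  have h : U.ι ≫ CohB1.ProjSpace.toSpec n k =
      Proj.basicOpenToSpec 𝒜 (T i) ≫ Spec.map (CommRingCat.ofHom (H6PnSm.base n k i)) := by
    rw [← H6PnSm.chart_toSpec, ← Proj.basicOpenIsoSpec_hom 𝒜 (T i) (H6PnSm.X_mem_one n k i) Nat.one_pos]
    simp [H6PnSm.chart, Proj.awayι]
    rfl
  apply (ConcreteCategory.bijective_of_isIso U.topIso.inv).1
  have h2 := ConcreteCategory.congr_hom (congrArg Scheme.Hom.appTop h) ((Scheme.ΓSpecIso (CommRingCat.of k)).inv c)
  have e1 : Scheme.Hom.appTop (U.ι ≫ CohB1.ProjSpace.toSpec n k) =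
      (CohB1.ProjSpace.toSpec n k).appLE ⊤ U le_top ≫ U.topIso.inv := by
    simp [Scheme.Hom.appLE, Scheme.Hom.comp_app, Scheme.Opens.topIso, U, ← Functor.map_comp]
    rfl
  have e2 : Scheme.Hom.appTop (Proj.basicOpenToSpec 𝒜 (T i) ≫ Spec.map (CommRingCat.ofHom (H6PnSm.base n k i))) =
      (Scheme.ΓSpecIso (CommRingCat.of k)).hom ≫ CommRingCat.ofHom (H6PnSm.base n k i) ≫
        Proj.awayToSection 𝒜 (T i) ≫ U.topIso.inv := by
    rw [Scheme.Hom.comp_appTop, show (Proj.basicOpenToSpec 𝒜 (T i)).appTop = _ from Proj.basicOpenToSpec_app_top 𝒜 (T i)]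
    simp [U]
  rw [e1, e2] at h2
  simp at h2 ⊢
  exact h2

variable [QuasiSeparated (CohB1.ProjSpace.toSpec n k)]

/-- The differential on sections. -/
abbrev dd (W : (CohB1.ProjSpace n k).Opens) :
    Γ(CohB1.ProjSpace n k, W) →+ Γ(Omega.sheaf (CohB1.ProjSpace.toSpec n k), W) :=
  (OmegaSh.dOmega (CohB1.ProjSpace.toSpec n k)).app W

theorem dd_mul (W : (CohB1.ProjSpace n k).Opens) (x y : Γ(CohB1.ProjSpace n k, W)) :
    dd n k W (x * y) = x • dd n k W y + y • dd n k W x :=
  Synt29.OmegaStalk.app_mul _ _ W x y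

theorem dd_res {W V : (CohB1.ProjSpace n k).Opens} (h : W ≤ V) (x : Γ(CohB1.ProjSpace n k, V)) :
    dd n k W (AModX.resR h x) = AModX.res _ h (dd n k V x) :=
  Synt29.OmegaStalk.app_res _ _ (homOfLE h) x

theorem dd_one (W : (CohB1.ProjSpace n k).Opens) : dd n k W 1 = 0 := by simpa using dd_mul n k W 1 1

theorem dd_mem_span (i : Fin (n + 1)) (g : Γ(CohB1.ProjSpace n k, D n k i)) :
    dd n k (D n k i) g ∈ Submodule.span Γ(CohB1.ProjSpace n k, D n k i)
      (Set.range fun m : Fin n => dd n k (D n k i) (a n k i (i.succAbove m))) := by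
  let N := Submodule.span Γ(CohB1.ProjSpace n k, D n k i)
      (Set.range fun m : Fin n => dd n k (D n k i) (a n k i (i.succAbove m)))
  haveI : IsIso (Proj.awayToSection 𝒜 (T i)) :=
    inferInstanceAs (IsIso (Proj.basicOpenIsoAway 𝒜 (T i) (H6PnSm.X_mem_one n k i) Nat.one_pos).hom)
  obtain ⟨z, rfl⟩ := (ConcreteCategory.bijective_of_isIso (Proj.awayToSection 𝒜 (T i))).2 g
  obtain ⟨p, rfl⟩ := H6PnSm.fromChart_surjective.{u, u} n k i z
  induction p using MvPolynomial.induction_on with
  | C c =>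
    rw [H6PnSm.fromChart, MvPolynomial.eval₂Hom_C, ← appLE_chart]
    show dd n k (D n k i) _ ∈ N
    rw [Scheme.Hom.appLE, ConcreteCategory.comp_apply, Synt29.OmegaStalk.app_res,
      Synt29.OmegaStalk.app_base, map_zero]
    exact zero_mem _
  | add p q hp hq => rw [map_add, map_add, map_add]; exact add_mem hp hq
  | mul_X p l hp =>
    rw [map_mul, map_mul, dd_mul]
    refine add_mem (Submodule.smul_mem _ _ ?_) (Submodule.smul_mem _ _ hp)
    rw [H6PnSm.fromChart, MvPolynomial.eval₂Hom_X']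
    obtain ⟨m, hm⟩ := Fin.exists_succAbove_eq l.down.2
    rw [← hm]
    exact Submodule.subset_span ⟨m, rfl⟩

theorem span_eq_top (i : Fin (n + 1)) :
    Submodule.span Γ(CohB1.ProjSpace n k, D n k i)
      (Set.range fun m : Fin n => dd n k (D n k i) (a n k i (i.succAbove m))) = ⊤ := by
  refine top_le_iff.1 fun x _ => ?_
  exact (Submodule.span_le.2 (Set.range_subset_iff.2 fun g => dd_mem_span n k i g))
    ((OmegaUniv.good_of_affine (CohB1.ProjSpace.toSpec n k) (isAffineOpen_D n k i)
      (isAffineOpen_top (Spec (CommRingCat.of k))) le_top).1 x)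

theorem exists_algEquiv (i : Fin (n + 1)) :
    letI := ((CohB1.ProjSpace.toSpec n k).appLE ⊤ (D n k i) le_top).hom.toAlgebra
    Nonempty (MvPolynomial (H6PnSm.Idx n i) Γ(Spec (CommRingCat.of k), ⊤) ≃ₐ[Γ(Spec (CommRingCat.of k), ⊤)]
      Γ(CohB1.ProjSpace n k, D n k i)) := by
  letI := ((CohB1.ProjSpace.toSpec n k).appLE ⊤ (D n k i) le_top).hom.toAlgebra
  let φ : Γ(Spec (CommRingCat.of k), ⊤) ≃+* k := (Scheme.ΓSpecIso (CommRingCat.of k)).commRingCatIsoToRingEquiv
  haveI : IsIso (Proj.awayToSection 𝒜 (T i)) :=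
    inferInstanceAs (IsIso (Proj.basicOpenIsoAway 𝒜 (T i) (H6PnSm.X_mem_one n k i) Nat.one_pos).hom)
  let ev : MvPolynomial (H6PnSm.Idx n i) Γ(Spec (CommRingCat.of k), ⊤) →ₐ[Γ(Spec (CommRingCat.of k), ⊤)]
      Γ(CohB1.ProjSpace n k, D n k i) := MvPolynomial.aeval fun j => a n k i j.down.1
  have h : ev.toRingHom = ((Proj.awayToSection 𝒜 (T i)).hom.comp (H6PnSm.fromChart n k i)).comp
      (MvPolynomial.map φ.toRingHom) := by
    refine MvPolynomial.ringHom_ext (fun c => ?_) fun j => ?_
    · show ev (MvPolynomial.C c) =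
        (Proj.awayToSection 𝒜 (T i)).hom (H6PnSm.fromChart n k i (MvPolynomial.map φ.toRingHom (MvPolynomial.C c)))
      rw [MvPolynomial.map_C, H6PnSm.fromChart, MvPolynomial.eval₂Hom_C, ← appLE_chart, MvPolynomial.aeval_C]
      exact congrArg _ (φ.symm_apply_apply c).symm
    · show ev (MvPolynomial.X j) =
        (Proj.awayToSection 𝒜 (T i)).hom (H6PnSm.fromChart n k i (MvPolynomial.map φ.toRingHom (MvPolynomial.X j)))
      rw [MvPolynomial.map_X, H6PnSm.fromChart, MvPolynomial.eval₂Hom_X', MvPolynomial.aeval_X]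
      rfl
  have hb : Function.Bijective ev := by
    show Function.Bijective ev.toRingHom
    rw [h]
    exact ((ConcreteCategory.bijective_of_isIso (Proj.awayToSection 𝒜 (T i))).comp
      ⟨H6PnSm.fromChart_injective n k i, H6PnSm.fromChart_surjective n k i⟩).comp
      ⟨MvPolynomial.map_injective _ φ.injective, MvPolynomial.map_surjective _ φ.surjective⟩
  exact ⟨AlgEquiv.ofBijective ev hb⟩

/-- The differentials of the coordinates form a basis on every open of the chart. -/
theorem bijective_comb (i : Fin (n + 1)) (W : (CohB1.ProjSpace n k).Opens) (h : W ≤ D n k i) :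
    Function.Bijective fun c : Fin n → Γ(CohB1.ProjSpace n k, W) =>
      ∑ m, c m • AModX.res _ h (dd n k (D n k i) (a n k i (i.succAbove m))) := by
  classical
  let π := CohB1.ProjSpace.toSpec n k
  letI := (π.appLE ⊤ (D n k i) le_top).hom.toAlgebra
  obtain ⟨e⟩ := exists_algEquiv n k i
  obtain ⟨B⟩ := ExtShX.DetPn.free_kaehler _ _ (H6PnSm.Idx n i) e
  obtain ⟨l⟩ := Synt29.OmegaStalk.exists_linearEquiv_sections (OmegaUniv.isUniversal_dOmega π)
    (isAffineOpen_D n k i) (isAffineOpen_top (Spec (CommRingCat.of k))) le_top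
  have hcard : Fintype.card (H6PnSm.Idx n i) = n := by
    simp [Fintype.card_subtype_compl]
  obtain ⟨eF⟩ := QCoh.exists_free_restrict (OmegaUniv.isQCoh_omega π) (isAffineOpen_D n k i)
    (l.trans (B.reindex ((Fintype.equivFinOfCardEq hcard).trans Equiv.ulift.{u}.symm)).repr)
  obtain ⟨s, hs⟩ := H23.Frame.exists_frame eF
  have hsW := hs W h
  let Φ : (Fin n → Γ(CohB1.ProjSpace n k, W)) →ₗ[Γ(CohB1.ProjSpace n k, W)] Γ(Omega.sheaf π, W) :=
    Fintype.linearCombination _ fun m => AModX.res _ h (dd n k (D n k i) (a n k i (i.succAbove m)))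
  let Ψ : (Fin n → Γ(CohB1.ProjSpace n k, W)) ≃ₗ[Γ(CohB1.ProjSpace n k, W)] Γ(Omega.sheaf π, W) :=
    LinearEquiv.ofBijective (Fintype.linearCombination _ fun m => AModX.res _ h (s m)) hsW
  have hsurj : Function.Surjective Φ := by
    intro z
    obtain ⟨c, rfl⟩ := Ψ.surjective z
    have hmem : ∀ m, AModX.res (Omega.sheaf π) h (s m) ∈ LinearMap.range Φ := fun m => by
      suffices key : ∀ q ∈ Submodule.span Γ(CohB1.ProjSpace n k, D n k i)
          (Set.range fun m : Fin n => dd n k (D n k i) (a n k i (i.succAbove m))),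
          AModX.res (Omega.sheaf π) h q ∈ LinearMap.range Φ from
        key _ ((span_eq_top n k i).ge Submodule.mem_top)
      intro q h1
      induction h1 using Submodule.span_induction with
      | mem y hy =>
        obtain ⟨p, rfl⟩ := hy
        exact ⟨Pi.single p 1, by simp [Φ]⟩
      | zero => rw [map_zero]; exact zero_mem _
      | add y y' _ _ hy hy' => rw [map_add]; exact add_mem hy hy'
      | smul q y _ hy => rw [AModX.res_smul]; exact Submodule.smul_mem _ _ hy
    show Ψ c ∈ LinearMap.range Φ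
    show (Fintype.linearCombination _ fun m => AModX.res _ h (s m)) c ∈ _
    rw [Fintype.linearCombination_apply]
    exact Submodule.sum_mem _ fun m _ => Submodule.smul_mem _ _ (hmem m)
  have hinj : Function.Injective Φ := by
    have h2 := OrzechProperty.injective_of_surjective_endomorphism (Ψ.symm.toLinearMap ∘ₗ Φ)
      (Ψ.symm.surjective.comp hsurj)
    exact fun x y hxy => h2 (congrArg Ψ.symm hxy)
  exact (show Function.Bijective Φ from ⟨hinj, hsurj⟩)

end Groth.Agent.PnEuler
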