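import Groth.Agent.PnEuler.LocDer
import Groth.Agent.PnEuler.Chart
import Groth.Agent.GrModX.Dehom

/-!
# The partial derivatives as derivations `O → O(-1)` on projective space over a ring
-/

set_option linter.style.haveILetI false
set_option linter.unusedSectionVars false
set_option backward.isDefEq.respectTransparency false
set_option backward.isDefEq.respectTransparency.types false
set_option maxHeartbeats 1000000

universe u

open CategoryTheory CategoryTheory.Limits AlgebraicGeometry TopologicalSpace Opposite MvPolynomial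

noncomputable section

namespace Groth.Agent.PnEuler

variable (n : ℕ) (k : Type u) [CommRing k]

/-- The module of sections of `O(d)`. -/
abbrev SectN (d : ℤ) (W : (CohB1.ProjSpace n k).Opens) :=
  Twist.sectN (𝒜 := CohB1.polyGrading n k) d (op W)

local notation "𝒜" => CohB1.polyGrading n k
local notation "P" => MvPolynomial (Fin (n + 1)) k
local notation "Pn" => CohB1.ProjSpace n k

/-- A section of `O(d)` at a point. -/
abbrev tval {d : ℤ} {W : (Pn).Opens} (s : Γ(Twist.twistProjSpace n k d, W)) (y : W) : Twist.Loc 𝒜 y.1 :=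
  ((show SectN n k d W from s).1 y).1

theorem ext_tval {d : ℤ} {W : (Pn).Opens} {s t : Γ(Twist.twistProjSpace n k d, W)}
    (h : ∀ y, tval n k s y = tval n k t y) : s = t :=
  Subtype.ext (funext fun y => Subtype.ext (h y))

theorem tval_smul {d : ℤ} {W : (Pn).Opens} (r : Γ(Pn, W)) (s : Γ(Twist.twistProjSpace n k d, W)) (y : W) :
    tval n k (r • s) y = (GrModX.oval 𝒜 r y).val * tval n k s y :=
  Twist.coe_smul_val d y.1 _ _

theorem tval_res {d : ℤ} {W V : (Pn).Opens} (h : V ≤ W) (s : Γ(Twist.twistProjSpace n k d, W)) (y : V) :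
    tval n k (AModX.res _ h s) y = tval n k s ⟨y.1, h y.2⟩ := rfl

/-- The partial derivative of a function. -/
def delSect (j : Fin (n + 1)) (W : (Pn).Opens) (c : Γ(Pn, W)) : Γ(Twist.twistProjSpace n k (-1), W) :=
  show SectN n k (-1) W from
  ⟨fun y => ⟨del y.1 j (GrModX.oval 𝒜 c y).val, del_mem y.1 j _⟩, fun x => by
    obtain ⟨V, hV, iV, e, ⟨a, ha⟩, ⟨s, hs⟩, nin, w⟩ := c.2 x
    refine ⟨V, hV, iV, e + (e - 1), e + e, ⟨_, homogeneous_num ha hs j⟩,
      ⟨s * s, SetLike.mul_mem_graded hs hs⟩,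
      fun y hh => (y.1.isPrime.mem_or_mem hh).elim (nin y) (nin y), num_deg ha hs j, fun y => ?_⟩
    show del y.1 j (GrModX.oval 𝒜 c (iV y)).val = _
    rw [show GrModX.oval 𝒜 c (iV y) = HomogeneousLocalization.mk ⟨e, ⟨a, ha⟩, ⟨s, hs⟩, nin y⟩ from w y,
      HomogeneousLocalization.val_mk, del_mk]
    rfl⟩

theorem tval_delSect (j : Fin (n + 1)) (W : (Pn).Opens) (c : Γ(Pn, W)) (y : W) :
    tval n k (delSect n k j W c) y = del y.1 j (GrModX.oval 𝒜 c y).val := rfl

/-- `delSect` as an additive map. -/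
def delHom (j : Fin (n + 1)) (W : (Pn).Opens) : Γ(Pn, W) →+ Γ(Twist.twistProjSpace n k (-1), W) :=
  AddMonoidHom.mk' (delSect n k j W) fun a b => ext_tval n k fun y => by
    show del y.1 j (GrModX.oval 𝒜 (a + b) y).val = del y.1 j _ + del y.1 j _
    rw [GrModX.val_oval_add, map_add]

theorem tval_delHom (j : Fin (n + 1)) (W : (Pn).Opens) (c : Γ(Pn, W)) (y : W) :
    tval n k (delHom n k j W c) y = del y.1 j (GrModX.oval 𝒜 c y).val := rfl

theorem delHom_mul (j : Fin (n + 1)) (W : (Pn).Opens) (a b : Γ(Pn, W)) :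
    delHom n k j W (a * b) = a • delHom n k j W b + b • delHom n k j W a := ext_tval n k fun y => by
  show _ = tval n k (a • delHom n k j W b) y + tval n k (b • delHom n k j W a) y
  rw [tval_smul, tval_smul, tval_delHom, tval_delHom, tval_delHom, GrModX.val_oval_mul, del_mul]

theorem oval_const (r : k) (y : (⊤ : (Pn).Opens)) :
    (GrModX.oval 𝒜 ((CohB1.ProjSpace.toSpec n k).appTop ((Scheme.ΓSpecIso (CommRingCat.of k)).inv r)) y).val =
      algebraMap P (Twist.Loc 𝒜 y.1) (C r) := by
  obtain ⟨i, hi⟩ := exists_mem_D n k y.1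
  have h := appLE_chart n k i r
  rw [Scheme.Hom.appLE, ConcreteCategory.comp_apply] at h
  have h2 := congrArg (fun c => (GrModX.oval 𝒜 c (⟨y.1, hi⟩ : D n k i)).val) h
  refine (Eq.trans ?_ h2).trans ?_
  · rfl
  · rw [← Localization.mk_one_eq_algebraMap]
    rfl

theorem del_app (j : Fin (n + 1)) (V : (Spec (CommRingCat.of k)).Opens) (c : Γ(Spec (CommRingCat.of k), V)) :
    delHom n k j (CohB1.ProjSpace.toSpec n k ⁻¹ᵁ V) ((CohB1.ProjSpace.toSpec n k).app V c) = 0 := by
  refine ext_tval n k fun y => ?_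
  show del y.1 j _ = 0
  let π := CohB1.ProjSpace.toSpec n k
  have hS := isAffineOpen_top (Spec (CommRingCat.of k))
  obtain ⟨t, ht, hyt⟩ := hS.exists_basicOpen_le (V := V) ⟨π y.1, y.2⟩ trivial
  haveI := hS.isLocalization_basicOpen t
  obtain ⟨m, r, hr⟩ := IsLocalization.Away.surj t
    ((Spec (CommRingCat.of k)).presheaf.map (homOfLE ht).op c)
  obtain ⟨r', rfl⟩ := (ConcreteCategory.bijective_of_isIso (Scheme.ΓSpecIso (CommRingCat.of k)).inv).2 r
  obtain ⟨t', rfl⟩ := (ConcreteCategory.bijective_of_isIso (Scheme.ΓSpecIso (CommRingCat.of k)).inv).2 t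
  set U := (Spec (CommRingCat.of k)).basicOpen ((Scheme.ΓSpecIso (CommRingCat.of k)).inv t') with hU
  let y' : (π ⁻¹ᵁ U : (Pn).Opens) := ⟨y.1, hyt⟩
  let ev : Γ(Spec (CommRingCat.of k), U) →+* Twist.Loc 𝒜 y.1 :=
    { toFun := fun b => (GrModX.oval 𝒜 (π.app U b) y').val
      map_one' := by rw [map_one]; exact HomogeneousLocalization.val_one
      map_mul' := fun a b => by rw [map_mul, GrModX.val_oval_mul]
      map_zero' := by rw [map_zero]; exact HomogeneousLocalization.val_zero
      map_add' := fun a b => by rw [map_add, GrModX.val_oval_add] }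
  have hev : ∀ b : k, ev (algebraMap _ _ ((Scheme.ΓSpecIso (CommRingCat.of k)).inv b)) =
      algebraMap P (Twist.Loc 𝒜 y.1) (C b) := fun b => by
    refine Eq.trans ?_ (oval_const n k b ⟨y.1, trivial⟩)
    show (GrModX.oval 𝒜 (π.app U ((Spec (CommRingCat.of k)).presheaf.map _ _)) y').val = _
    rw [← ConcreteCategory.comp_apply, π.naturality]
    rfl
  have hc : (GrModX.oval 𝒜 (π.app V c) y).val = ev ((Spec (CommRingCat.of k)).presheaf.map (homOfLE ht).op c) := by
    show _ = (GrModX.oval 𝒜 (π.app U _) y').val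
    rw [← ConcreteCategory.comp_apply, π.naturality]
    rfl
  have h2 := congrArg ev hr
  rw [map_mul, map_pow, ← hc, hev, hev, ← map_pow, ← map_pow] at h2
  have h3 := congrArg (del y.1 j) h2
  rw [del_mul, del_algebraMap, del_algebraMap, pderiv_C, pderiv_C, map_zero, mul_zero, zero_add] at h3
  have hu : IsUnit (algebraMap P (Twist.Loc 𝒜 y.1) (C (t' ^ m))) := by
    have := ((IsLocalization.Away.algebraMap_isUnit
      (S := Γ(Spec (CommRingCat.of k), U)) ((Scheme.ΓSpecIso (CommRingCat.of k)).inv t')).pow m).map ev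
    rwa [map_pow, hev, ← map_pow, ← map_pow] at this
  exact hu.mul_right_eq_zero.1 h3

/-- The derivation `∂/∂T_j : O → O(-1)`. -/
def partialD (j : Fin (n + 1)) : OmegaSh.Der (CohB1.ProjSpace.toSpec n k) (Twist.twistProjSpace n k (-1)) where
  d {W} := delHom n k j W.unop
  d_mul {W} a b := delHom_mul n k j W.unop a b
  d_map {W V} i c := rfl
  d_app {V} c := del_app n k j V.unop c

theorem app_partialD (j : Fin (n + 1)) (W : (Pn).Opens) (c : Γ(Pn, W)) :
    (partialD n k j).app W c = delHom n k j W c := rfl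

end Groth.Agent.PnEuler
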