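import Groth.Agent.PnEuler.Omega
import Groth.Agent.Lib.PnDualSymbol
import Groth.Agent.Lib.PnDualTwistAdj
import Groth.Agent.S0844
import Mathlib.Algebra.Homology.DerivedCategory.Ext.ExactSequences
import Mathlib.Algebra.Homology.DerivedCategory.Ext.EnoughInjectives
import Groth.Prelude.Def_Formal

/-!
# Maps out of the differentials of projective space
-/

set_option linter.style.haveILetI false
set_option linter.unusedSectionVars false
set_option backward.isDefEq.respectTransparency false
set_option backward.isDefEq.respectTransparency.types false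
set_option maxHeartbeats 1000000

universe u

open CategoryTheory CategoryTheory.Limits AlgebraicGeometry TopologicalSpace Opposite
open CategoryTheory.Abelian

noncomputable section

namespace Groth.Agent.PnEuler

open Groth.Agent.PnCoh Groth.Agent.PnDual

variable (n : ℕ) (k : Type u) [CommRing k]

local notation "P" => MvPolynomial (Fin (n + 1)) k
local notation "Pn" => CohB1.ProjSpace n k
local notation "tw" => Twist.twistProjSpace n k

/-- A map is multiplication by a polynomial. -/
def IsMul {a b : ℤ} (φ : tw a ⟶ tw b) (p : P) : Prop :=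
  ∀ (W : (Pn).Opens) (s : Γ(tw a, W)) (y : W),
    tval n k (φ.app W s) y = tval n k s y * algebraMap P _ p

/-- Maps of twists are multiplications by forms. -/
theorem exists_isMul {a b : ℤ} {e : ℕ} (h : b = a + (e : ℤ)) (φ : tw a ⟶ tw b) :
    ∃ p : P, MvPolynomial.IsHomogeneous p e ∧ IsMul n k φ p := by
  classical
  let ι := Fin (n + 1)
  let φ' : O' ι k a ⟶ O' ι k b := φ
  let c := symb φ'
  have hnn : ∀ x : Expo ι, c.coeff x ≠ 0 → castExpo ι (x.mapRange Int.toNat rfl) = x := fun x hx => by
    ext j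
    have := symb_nonneg φ' (Or.inr (by omega)) x hx j
    simp [castExpo_apply, Finsupp.mapRange_apply]
    omega
  let p : P := ∑ x ∈ c.coeff.support, MvPolynomial.monomial (x.mapRange Int.toNat rfl) (c.coeff x)
  have hp : MvPolynomial.IsHomogeneous p e := by
    refine MvPolynomial.IsHomogeneous.sum _ _ _ fun x hx => MvPolynomial.isHomogeneous_monomial _ ?_
    have hx' := Finsupp.mem_support_iff.1 hx
    have h1 := (symb_supp φ' x hx').1
    rw [← hnn x hx', Finsupp.sum_fintype _ _ (fun _ => rfl)] at h1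
    simp only [castExpo_apply] at h1
    rw [Finsupp.degree_eq_sum]
    have h2 : ((∑ i, (x.mapRange Int.toNat rfl) i : ℕ) : ℤ) = (e : ℤ) := by push_cast; omega
    exact_mod_cast h2
  have hl : toLaur ι k p = c := by
    rw [map_sum]
    conv_rhs => rw [← AddMonoidAlgebra.sum_coeff_single c]
    refine Finset.sum_congr rfl fun x hx => ?_
    rw [toLaur_monomial, hnn x (Finsupp.mem_support_iff.1 hx)]
  have hφ : φ' = mulHom hp h := symb_injective ((hl.symm).trans (symb_mulHom hp h).symm)
  refine ⟨p, hp, fun W s y => ?_⟩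
  rw [show φ = mulHom hp h from hφ]
  show _ * Localization.mk p _ = _
  rw [Localization.mk_one_eq_algebraMap]

theorem isMul_mulT (j : Fin (n + 1)) : IsMul n k (mulT n k j) (MvPolynomial.X j) :=
  fun W s y => tval_mulT n k j W s y

variable [QuasiSeparated (CohB1.ProjSpace.toSpec n k)]

/-- Maps from the differentials to a twist without `H^1` extend to the middle term. -/
theorem exists_extend (b : ℤ) (h : Subsingleton (Coh.HH (Pn) (tw b) 1))
    (ψ : Omega.sheaf (CohB1.ProjSpace.toSpec n k) ⟶ tw b) :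
    ∃ Φ : mid n k ⟶ tw b, alpha n k ≫ Φ = ψ := by
  haveI : EnoughInjectives (Pn).Modules := inferInstanceAs (EnoughInjectives (SheafOfModules _))
  haveI : HasExt.{u} (Pn).Modules := hasExt_of_enoughInjectives _
  haveI : HasExt.{u} (Proj (CohB1.polyGrading n k)).Modules := inferInstanceAs (HasExt.{u} (Pn).Modules)
  have hs : Subsingleton (Ext.{u} (tw 0) (tw b) 1) := subsingleton_ext_twist (gens n k) (gens_mem n k)
    (gens_cover n k) 0 b 1 (by rw [sub_zero]; exact h)
  have hex := Ext.contravariant_sequence_exact₁' (shortExact_seq n k) (tw b) 0 1 rfl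
  rw [ShortComplex.ab_exact_iff] at hex
  obtain ⟨x, hx⟩ := hex (Ext.mk₀ ψ) (hs.elim _ _)
  obtain ⟨Φ, rfl⟩ := (Ext.mk₀_bijective _ _).2 x
  refine ⟨Φ, (Ext.mk₀_bijective _ _).1 ?_⟩
  rw [← hx]
  exact (Ext.mk₀_comp_mk₀ _ _).symm

/-- The value of a map through the middle term on a differential. -/
theorem tval_alpha_comp {b : ℤ} (Φ : mid n k ⟶ tw b) (L : Fin (n + 1) → P)
    (hL : ∀ j, IsMul n k (Sigma.ι (fun _ : Fin (n + 1) => tw (-1)) j ≫ Φ) (L j))
    (W : (Pn).Opens) (c : Γ(Pn, W)) (y : W) :
    tval n k ((alpha n k ≫ Φ).app W (dd n k W c)) y =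
      ∑ j, del y.1 j (GrModX.oval _ c y).val * algebraMap P _ (L j) := by
  rw [Scheme.Modules.Hom.comp_app, ConcreteCategory.comp_apply, mid_ext n k ((alpha n k).app W (dd n k W c)), map_sum,
    tval_sum]
  refine Finset.sum_congr rfl fun j _ => ?_
  rw [← ConcreteCategory.comp_apply (x := (pr n k j).app W _), ← Scheme.Modules.Hom.comp_app, hL j W,
    ← ConcreteCategory.comp_apply, ← Scheme.Modules.Hom.comp_app, alpha_pr, al_dd]
  rfl

theorem hom_ext_dd {F : (Pn).Modules} (φ χ : Omega.sheaf (CohB1.ProjSpace.toSpec n k) ⟶ F)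
    (h : ∀ (W : (Pn).Opens) (c : Γ(Pn, W)), φ.app W (dd n k W c) = χ.app W (dd n k W c)) : φ = χ := by
  refine (OmegaUniv.isUniversal_dOmega (CohB1.ProjSpace.toSpec n k) F
    ((OmegaSh.dOmega (CohB1.ProjSpace.toSpec n k)).postcomp χ.val)).unique ?_ rfl
  exact PresheafOfModules.Derivation.ext (funext fun W => AddMonoidHom.ext fun c => h W.unop c)

theorem hom_ext_al {F : (Pn).Modules} (φ χ : F ⟶ Omega.sheaf (CohB1.ProjSpace.toSpec n k))
    (h : ∀ l, φ ≫ al n k l = χ ≫ al n k l) : φ = χ := by
  haveI : Mono (alpha n k) := (shortExact_seq n k).mono_f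
  refine (cancel_mono (alpha n k)).1 ?_
  simp only [alpha, Preadditive.comp_sum, ← Category.assoc, h]

/-- A global constant at a point. -/
theorem oval_global (c : k) (W : (Pn).Opens) (y : W) :
    (GrModX.oval (CohB1.polyGrading n k) (AModX.resR (le_top : W ≤ ⊤)
      ((CohB1.ProjSpace.toSpec n k).appTop ((Scheme.ΓSpecIso (CommRingCat.of k)).inv c))) y).val =
      algebraMap P _ (MvPolynomial.C c) :=
  oval_const n k c ⟨y.1, trivial⟩

end Groth.Agent.PnEuler
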