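import Groth.Agent.ExtPowSh.Functor
import Groth.Agent.QCoh.LocFree
import Groth.Agent.AModX.Res

/-!
# The cokernel of a line mapping to a bundle with a unit coordinate
-/

set_option linter.style.haveILetI false
set_option linter.unusedSectionVars false
set_option backward.isDefEq.respectTransparency false
set_option backward.isDefEq.respectTransparency.types false
set_option maxHeartbeats 1000000

universe u

open CategoryTheory CategoryTheory.Limits AlgebraicGeometry TopologicalSpace Opposite

noncomputable section

namespace Groth.Agent.PnEuler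

open Groth.Agent.ExtPowSh

variable {X : Scheme.{u}}

/-- The cokernel is free where the image of the generator has a unit coordinate. -/
theorem coker_free {A M : X.Modules} (u : A ⟶ M) (hA : Coh.IsQCoh A) (hM : Coh.IsQCoh M) {V : X.Opens}
    (hV : IsAffineOpen V) {d : ℕ} (e : Fin (d + 1) → M.val.obj (op V))
    (he : Function.Bijective fun c : Fin (d + 1) → Γ(X, V) => ∑ m, c m • e m)
    (g : A.val.obj (op V)) (hg : ∀ z, ∃ r : Γ(X, V), z = r • g) (c₀ : Fin (d + 1) → Γ(X, V))
    (hc₀ : ∑ m, c₀ m • e m = appL u V g) (l : Fin (d + 1)) (hl : IsUnit (c₀ l)) :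
    Nonempty ((cokernel u).restrict V.ι ≅ FlatMod.freeMod (V : Scheme.{u}) d) := by
  classical
  have hC := QCoh.isQCoh_cokernel hA hM u
  let π := appL (cokernel.π u) V
  have hπu : ∀ z, π (appL u V z) = 0 := fun z =>
    congrArg (fun T : A ⟶ cokernel u => appL T V z) (cokernel.condition u)
  have hsurj : Function.Surjective π := QCoh.app_surjective_of_epi hM hC (cokernel.π u) hV
  let φ : (Fin d → Γ(X, V)) →ₗ[Γ(X, V)] (cokernel u).val.obj (op V) :=
    π ∘ₗ Fintype.linearCombination Γ(X, V) fun m => e (l.succAbove m)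
  have hφ : ∀ c : Fin d → Γ(X, V), φ c = π (∑ m, l.insertNth (α := fun _ => Γ(X, V)) 0 c m • e m) := fun c => by
    rw [Fin.sum_univ_succAbove _ l]
    simp [φ, Fintype.linearCombination_apply]
  have hb : Function.Bijective φ := by
    refine ⟨(injective_iff_map_eq_zero _).2 fun c hc => ?_, fun z => ?_⟩
    · rw [hφ] at hc
      obtain ⟨a, ha⟩ := exists_app_eq_of_cokernel u hA hM hV _ hc
      obtain ⟨r, rfl⟩ := hg a
      rw [map_smul, ← hc₀, Finset.smul_sum] at ha
      simp_rw [smul_smul] at ha
      have h := he.1 ha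
      have h0 := congrFun h l
      rw [Fin.insertNth_apply_same] at h0
      have hr : r = 0 := hl.mul_left_eq_zero.1 h0
      funext m
      have hm := congrFun h (l.succAbove m)
      rw [Fin.insertNth_apply_succAbove, hr, zero_mul] at hm
      exact hm.symm
    · obtain ⟨z, rfl⟩ := hsurj z
      obtain ⟨c, rfl⟩ := he.2 z
      obtain ⟨v, hv⟩ := hl
      let r := c l * ↑v⁻¹
      refine ⟨fun m => c (l.succAbove m) - r * c₀ (l.succAbove m), ?_⟩
      have h1 : ∑ m, c m • e m = r • (∑ m, c₀ m • e m) +
          ∑ m, l.insertNth (α := fun _ => Γ(X, V)) 0 (fun m => c (l.succAbove m) - r * c₀ (l.succAbove m)) m • e m := by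
        rw [Finset.smul_sum, ← Finset.sum_add_distrib]
        refine Finset.sum_congr rfl fun m _ => ?_
        rw [smul_smul, ← add_smul]
        congr 1
        by_cases hm : m = l
        · subst hm
          rw [Fin.insertNth_apply_same, add_zero, mul_assoc, ← hv, Units.inv_mul, mul_one]
        · obtain ⟨m', rfl⟩ := Fin.exists_succAbove_eq hm
          rw [Fin.insertNth_apply_succAbove, add_sub_cancel]
      rw [hφ, show (fun c : Fin (d + 1) → Γ(X, V) => ∑ m, c m • e m) c = _ from h1, map_add, map_smul, hc₀, hπu,
        smul_zero, zero_add]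
  let b := ((Module.Basis.ofEquivFun (LinearEquiv.ofBijective φ hb).symm).reindex Equiv.ulift.{u}.symm).repr
  let B' : Γ(cokernel u, V) ≃ₗ[Γ(X, V)] (ULift.{u} (Fin d) →₀ Γ(X, V)) :=
    { toFun := b, map_add' := map_add b, map_smul' := fun r a => b.map_smul r a
      invFun := b.symm, left_inv := b.symm_apply_apply, right_inv := b.apply_symm_apply }
  exact QCoh.exists_free_restrict hC hV B'

end Groth.Agent.PnEuler
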