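import Groth.Agent.PnCoh.TwistTriv
import Groth.Prelude.Def_CohB1
import Mathlib.Algebra.MvPolynomial.PDeriv
import Mathlib.Algebra.TrivSqZeroExt.Basic
import Mathlib.RingTheory.MvPolynomial.EulerIdentity

/-!
# Partial derivatives on the localizations of a polynomial ring, and Euler's identity for them
-/

set_option linter.style.haveILetI false
set_option linter.unusedSectionVars false
set_option backward.isDefEq.respectTransparency false
set_option backward.isDefEq.respectTransparency.types false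
set_option maxHeartbeats 800000

universe u

open AlgebraicGeometry TopologicalSpace MvPolynomial

noncomputable section

namespace Groth.Agent.PnEuler

variable {n : ℕ} {k : Type u} [CommRing k]

local notation "𝒜" => CohB1.polyGrading n k
local notation "P" => MvPolynomial (Fin (n + 1)) k

variable (x : ProjectiveSpectrum (CohB1.polyGrading n k))

/-- `a ↦ a + ε ∂a`. -/
def pre (j : Fin (n + 1)) : P →+* TrivSqZeroExt (Twist.Loc 𝒜 x) (Twist.Loc 𝒜 x) where
  toFun a := (algebraMap P _ a, algebraMap P _ (pderiv j a))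
  map_one' := TrivSqZeroExt.ext (map_one _) (by simp)
  map_mul' a b := TrivSqZeroExt.ext (map_mul _ _ _) (by
    rw [TrivSqZeroExt.snd_mul, pderiv_mul, map_add, map_mul, map_mul]
    simp [TrivSqZeroExt.snd, TrivSqZeroExt.fst, mul_comm, add_comm])
  map_zero' := TrivSqZeroExt.ext (map_zero _) (by simp)
  map_add' a b := TrivSqZeroExt.ext (map_add _ _ _) (by simp)

theorem isUnit_pre (j : Fin (n + 1)) (s : x.asHomogeneousIdeal.toIdeal.primeCompl) :
    IsUnit (pre x j (s : P)) := by
  rw [TrivSqZeroExt.isUnit_iff_isUnit_fst]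
  exact IsLocalization.map_units (Twist.Loc 𝒜 x) s

/-- `q ↦ q + ε ∂q`. -/
def preLoc (j : Fin (n + 1)) : Twist.Loc 𝒜 x →+* TrivSqZeroExt (Twist.Loc 𝒜 x) (Twist.Loc 𝒜 x) :=
  IsLocalization.lift (isUnit_pre x j)

theorem fst_preLoc (j : Fin (n + 1)) (q : Twist.Loc 𝒜 x) : (preLoc x j q).fst = q := by
  have : ((TrivSqZeroExt.fstHom (Twist.Loc 𝒜 x) (Twist.Loc 𝒜 x) (Twist.Loc 𝒜 x)).toRingHom.comp (preLoc x j)) =
      RingHom.id _ :=
    IsLocalization.ringHom_ext x.asHomogeneousIdeal.toIdeal.primeCompl (RingHom.ext fun a => by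
      simp only [RingHom.comp_apply, preLoc, IsLocalization.lift_eq, RingHom.id_apply]
      rfl)
  exact congrArg (fun f => f q) this

/-- The partial derivative of a fraction. -/
def del (j : Fin (n + 1)) : Twist.Loc 𝒜 x →+ Twist.Loc 𝒜 x where
  toFun q := (preLoc x j q).snd
  map_zero' := by simp
  map_add' a b := by simp

theorem del_mul (j : Fin (n + 1)) (p q : Twist.Loc 𝒜 x) : del x j (p * q) = p * del x j q + q * del x j p := by
  show (preLoc x j (p * q)).snd = _
  rw [map_mul, TrivSqZeroExt.snd_mul, fst_preLoc, fst_preLoc]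
  show p * (preLoc x j q).snd + MulOpposite.op q • (preLoc x j p).snd = _
  rw [op_smul_eq_mul, mul_comm (preLoc x j p).snd q]
  rfl

theorem del_algebraMap (j : Fin (n + 1)) (a : P) : del x j (algebraMap P _ a) = algebraMap P _ (pderiv j a) := by
  show (preLoc x j _).snd = _
  rw [preLoc, IsLocalization.lift_eq]
  rfl

theorem mk_mul_algebraMap (a : P) (s : x.asHomogeneousIdeal.toIdeal.primeCompl) :
    (Localization.mk a s : Twist.Loc 𝒜 x) * algebraMap P _ (s : P) = algebraMap P _ a := by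
  rw [Localization.mk_eq_mk', IsLocalization.mk'_spec]

theorem del_mk (j : Fin (n + 1)) (a : P) (s : x.asHomogeneousIdeal.toIdeal.primeCompl) :
    del x j (Localization.mk a s) = Localization.mk ((s : P) * pderiv j a - a * pderiv j (s : P)) (s * s) := by
  have hu := IsLocalization.map_units (Twist.Loc 𝒜 x) s
  have h := congrArg (del x j) (mk_mul_algebraMap x a s)
  rw [del_mul, del_algebraMap, del_algebraMap] at h
  refine hu.mul_left_cancel (hu.mul_left_cancel ?_)
  have h2 := mk_mul_algebraMap x ((s : P) * pderiv j a - a * pderiv j (s : P)) (s * s)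
  rw [Submonoid.coe_mul, map_mul, map_sub, map_mul, map_mul] at h2
  have h3 := mk_mul_algebraMap x a s
  linear_combination (algebraMap P (Twist.Loc 𝒜 x) (s : P)) * h - h2 -
    (algebraMap P (Twist.Loc 𝒜 x) (pderiv j (s : P))) * h3

theorem homogeneous_num {e : ℕ} {a s : P} (ha : a ∈ 𝒜 e) (hs : s ∈ 𝒜 e) (j : Fin (n + 1)) :
    s * pderiv j a - a * pderiv j s ∈ 𝒜 (e + (e - 1)) :=
  sub_mem (SetLike.mul_mem_graded hs (MvPolynomial.IsHomogeneous.pderiv ha))
    (SetLike.mul_mem_graded ha (MvPolynomial.IsHomogeneous.pderiv hs))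

theorem num_eq_zero {a s : P} (ha : a ∈ 𝒜 0) (hs : s ∈ 𝒜 0) (j : Fin (n + 1)) :
    s * pderiv j a - a * pderiv j s = 0 := by
  have : ∀ b : P, b ∈ 𝒜 0 → pderiv j b = 0 := fun b hb => by
    rw [MvPolynomial.totalDegree_eq_zero_iff_eq_C.1 (Nat.le_zero.1 (MvPolynomial.IsHomogeneous.totalDegree_le hb)),
      pderiv_C]
  rw [this a ha, this s hs, mul_zero, mul_zero, sub_zero]

theorem num_deg {e : ℕ} {a s : P} (ha : a ∈ 𝒜 e) (hs : s ∈ 𝒜 e) (j : Fin (n + 1)) :
    ((e + (e - 1) : ℕ) : ℤ) = ((e + e : ℕ) : ℤ) + -1 ∨ s * pderiv j a - a * pderiv j s = 0 := by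
  rcases Nat.eq_zero_or_pos e with rfl | he
  · exact Or.inr (num_eq_zero ha hs j)
  · exact Or.inl (by omega)

theorem del_mem (j : Fin (n + 1)) (c : Twist.A0 𝒜 x) : del x j c.val ∈ Twist.twistAt 𝒜 (-1) x := by
  obtain ⟨⟨e, ⟨a, ha⟩, ⟨s, hs⟩, hsx⟩, rfl⟩ := HomogeneousLocalization.mk_surjective c
  rw [HomogeneousLocalization.val_mk, del_mk]
  rcases num_deg ha hs j with h | h
  · exact Submodule.subset_span ⟨e + (e - 1), e + e, ⟨_, homogeneous_num ha hs j⟩,
      ⟨s * s, SetLike.mul_mem_graded hs hs⟩, fun hh => (x.isPrime.mem_or_mem hh).elim hsx hsx, h, rfl⟩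
  · rw [h, Localization.mk_zero]; exact zero_mem _

/-- Euler's identity for a fraction of degree zero. -/
theorem euler (c : Twist.A0 𝒜 x) :
    ∑ j, algebraMap P (Twist.Loc 𝒜 x) (X j) * del x j c.val = 0 := by
  obtain ⟨⟨e, ⟨a, ha⟩, ⟨s, hs⟩, hsx⟩, rfl⟩ := HomogeneousLocalization.mk_surjective c
  rw [HomogeneousLocalization.val_mk]
  have ea := MvPolynomial.IsHomogeneous.sum_X_mul_pderiv ha
  have es := MvPolynomial.IsHomogeneous.sum_X_mul_pderiv hs
  have hu := IsLocalization.map_units (Twist.Loc 𝒜 x) (⟨s, hsx⟩ : x.asHomogeneousIdeal.toIdeal.primeCompl)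
  refine hu.mul_left_cancel (hu.mul_left_cancel ?_)
  rw [mul_zero, mul_zero, ← mul_assoc, Finset.mul_sum]
  have h : ∀ j, algebraMap P (Twist.Loc 𝒜 x) s * algebraMap P _ s *
      (algebraMap P (Twist.Loc 𝒜 x) (X j) * del x j (Localization.mk a ⟨s, hsx⟩)) =
      algebraMap P _ (s * (X j * pderiv j a) - a * (X j * pderiv j s)) := fun j => by
    have h2 := mk_mul_algebraMap x ((s : P) * pderiv j a - a * pderiv j (s : P)) (⟨s, hsx⟩ * ⟨s, hsx⟩)
    rw [Submonoid.coe_mul, map_mul] at h2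
    rw [del_mk, show s * (X j * pderiv j a) - a * (X j * pderiv j s) =
      X j * (s * pderiv j a - a * pderiv j s) by ring, map_mul (algebraMap P _) (X j)]
    rw [← h2]
    ring
  rw [Finset.sum_congr rfl fun j _ => h j, ← map_sum, Finset.sum_sub_distrib, ← Finset.mul_sum, ← Finset.mul_sum,
    ea, es]
  simp [nsmul_eq_mul]
  ring

end Groth.Agent.PnEuler
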