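import Groth.Agent.PnEuler.Hom
import Groth.Agent.PnEuler.LineCoker
import Groth.Agent.H9PB.Roots
import Groth.Agent.Lib.InvEnd

/-!
# Null-correlation bundles
-/

set_option linter.style.haveILetI false
set_option linter.unusedSectionVars false
set_option backward.isDefEq.respectTransparency false
set_option backward.isDefEq.respectTransparency.types false
set_option maxHeartbeats 1000000

universe u

open CategoryTheory CategoryTheory.Limits AlgebraicGeometry TopologicalSpace Opposite MvPolynomial

noncomputable section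

namespace Groth.Agent.PnEuler

variable (n : ℕ) (k : Type u) [Field k]

local notation "P" => MvPolynomial (Fin (n + 1)) k
local notation "Pn" => CohB1.ProjSpace n k
local notation "tw" => Twist.twistProjSpace n k

/-- The pairing of the indices. -/
def partner (hn : Odd n) (j : Fin (n + 1)) : Fin (n + 1) :=
  if h : Even (j : ℕ) then ⟨j + 1, by
    have := j.2
    rcases Nat.lt_or_ge ((j : ℕ) + 1) (n + 1) with h' | h'
    · exact h'
    · exact absurd ((show (j : ℕ) = n by omega) ▸ h) (Nat.not_even_iff_odd.2 hn)⟩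
  else ⟨j - 1, by omega⟩

theorem even_partner (hn : Odd n) (j : Fin (n + 1)) : Even (partner n hn j : ℕ) ↔ ¬ Even (j : ℕ) := by
  unfold partner
  split_ifs with h
  · simp [Nat.even_add_one, h]
  · obtain ⟨m, hm⟩ := Nat.not_even_iff_odd.1 h
    simp [h, hm]

theorem partner_partner (hn : Odd n) (j : Fin (n + 1)) : partner n hn (partner n hn j) = j := by
  have he := even_partner n hn j
  apply Fin.ext
  by_cases h : Even (j : ℕ)
  · have h' : ¬ Even (partner n hn j : ℕ) := fun e => (he.1 e) h
    simp only [partner, dif_pos h] at h' ⊢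
    rw [dif_neg h']
    simp
  · have h' : Even (partner n hn j : ℕ) := he.2 h
    obtain ⟨m, hm⟩ := Nat.not_even_iff_odd.1 h
    simp only [partner, dif_neg h] at h' ⊢
    rw [dif_pos h']
    simp only
    omega

theorem partner_ne (hn : Odd n) (j : Fin (n + 1)) : partner n hn j ≠ j := fun e => by
  have := even_partner n hn j
  rw [e] at this
  tauto

/-- The signs. -/
def sgn (j : Fin (n + 1)) : k := if Even (j : ℕ) then 1 else -1

theorem sgn_partner (hn : Odd n) (j : Fin (n + 1)) : sgn n k (partner n hn j) = -sgn n k j := by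
  unfold sgn
  by_cases h : Even (j : ℕ)
  · rw [if_pos h, if_neg (fun e => ((even_partner n hn j).1 e) h)]
  · rw [if_neg h, if_pos ((even_partner n hn j).2 h), neg_neg]

/-- The components of the form. -/
def form (hn : Odd n) (j : Fin (n + 1)) : P := C (sgn n k j) * X (partner n hn j)

theorem isHomogeneous_form (hn : Odd n) (j : Fin (n + 1)) : (form n k hn j).IsHomogeneous 1 :=
  IsHomogeneous.C_mul (isHomogeneous_X k _) _

theorem sum_form (hn : Odd n) : ∑ j, (X j : P) * form n k hn j = 0 := by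
  refine Finset.sum_involution (fun j _ => partner n hn j) (fun j _ => ?_) (fun j _ _ => partner_ne n hn j)
    (fun j _ => Finset.mem_univ _) fun j _ => partner_partner n hn j
  rw [form, form, sgn_partner, partner_partner, map_neg]
  ring

variable [QuasiSeparated (CohB1.ProjSpace.toSpec n k)]

/-- The untwisted null-correlation inclusion. -/
theorem exists_null (hn : Odd n) :
    ∃ u : tw (-2) ⟶ Omega.sheaf (CohB1.ProjSpace.toSpec n k), Mono u ∧
      FlatMod.IsFinLocFreeOfRank (n - 1) (cokernel u) := by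
  classical
  let f : ∀ j, tw (-2) ⟶ tw (-1) := fun j =>
    PnDual.mulHom (isHomogeneous_form n k hn j) (by norm_num : (-1 : ℤ) = -2 + ((1 : ℕ) : ℤ))
  have hf : ∀ j (W : (Pn).Opens) (s : Γ(tw (-2), W)) (y : W),
      tval n k ((f j).app W s) y = tval n k s y * algebraMap P _ (form n k hn j) := fun j W s y => by
    show _ * Localization.mk _ _ = _
    rw [Localization.mk_one_eq_algebraMap]
  let Φ : tw (-2) ⟶ mid n k := ∑ j, f j ≫ Sigma.ι (fun _ : Fin (n + 1) => tw (-1)) j
  have hΦp : ∀ j, Φ ≫ pr n k j = f j := fun j => by simp [Φ, Preadditive.sum_comp, ι_pr, comp_ite]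
  have hΦ : Φ ≫ beta n k = 0 := by
    refine Scheme.Modules.hom_ext _ _ fun W => ?_
    refine ConcreteCategory.hom_ext _ _ fun s => ?_
    show (beta n k).app W (Φ.app W s) = (0 : tw (-2) ⟶ tw 0).app W s
    rw [app_beta]
    refine ext_tval n k fun y => ?_
    rw [tval_sum]
    refine (Finset.sum_congr rfl (g := fun j => tval n k s y * algebraMap P _ ((X j : P) * form n k hn j))
      fun j _ => ?_).trans ?_
    · rw [tval_mulT, ← ConcreteCategory.comp_apply, ← Scheme.Modules.Hom.comp_app, hΦp, hf, map_mul]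
      ring
    · rw [← Finset.mul_sum, ← map_sum, sum_form, map_zero, mul_zero]
      rfl
  haveI : Mono (alpha n k) := (shortExact_seq n k).mono_f
  obtain ⟨u, hu⟩ : ∃ u : tw (-2) ⟶ Omega.sheaf (CohB1.ProjSpace.toSpec n k), u ≫ alpha n k = Φ :=
    ⟨(shortExact_seq n k).fIsKernel.lift (KernelFork.ofι Φ hΦ),
      (shortExact_seq n k).fIsKernel.fac (KernelFork.ofι Φ hΦ) WalkingParallelPair.zero⟩
  have hual : ∀ j, u ≫ al n k j = f j := fun j => by rw [← alpha_pr, ← Category.assoc, hu, hΦp]
  refine ⟨u, ?_, fun x => ?_⟩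
  · refine QCoh.mono_of_app_injective u fun W => (injective_iff_map_eq_zero _).2 fun s hs => ?_
    refine ext_tval n k fun y => ?_
    obtain ⟨i, hi⟩ := exists_mem_D n k y.1
    have h := congrArg (fun t => tval n k ((al n k (partner n hn i)).app W t) y) hs
    rw [← ConcreteCategory.comp_apply, ← Scheme.Modules.Hom.comp_app, hual, hf, map_zero, form, partner_partner,
      map_mul] at h
    have hu : IsUnit (algebraMap P (Twist.Loc (CohB1.polyGrading n k) y.1) (C (sgn n k (partner n hn i))) *
        algebraMap P _ (X i)) :=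
      (((isUnit_iff_ne_zero.2 (by unfold sgn; split_ifs <;> simp)).map MvPolynomial.C).map _).mul (isUnit_T n k hi)
    exact hu.mul_left_eq_zero.1 h
  obtain ⟨i, hi⟩ := exists_mem_D n k x
  obtain ⟨l, hl⟩ := Fin.exists_succAbove_eq (partner_ne n hn i)
  obtain ⟨d, rfl⟩ : ∃ d, n = d + 1 := ⟨n - 1, by obtain ⟨m, rfl⟩ := hn; omega⟩
  refine ⟨D (d + 1) k i, hi, ?_⟩
  let V := D (d + 1) k i
  obtain ⟨c₀, hc₀⟩ := (bijective_comb (d + 1) k i V le_rfl).2
    (u.app V (fr (d + 1) k (-2) (le_refl V)))
  have hcl : c₀ l = (CohB1.ProjSpace.toSpec (d + 1) k).appLE ⊤ V le_top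
      ((Scheme.ΓSpecIso (CommRingCat.of k)).inv (sgn (d + 1) k (partner (d + 1) hn i))) := by
    refine (fr_bijective (d + 1) k (-1) (le_refl V)).1 ?_
    show c₀ l • fr (d + 1) k (-1) (le_refl V) = _ • fr (d + 1) k (-1) (le_refl V)
    simp only at hc₀
    rw [← al_comb, hc₀, ← ConcreteCategory.comp_apply, ← Scheme.Modules.Hom.comp_app, hual, hl]
    refine ext_tval (d + 1) k fun y => (isUnit_T (d + 1) k y.2).mul_right_cancel ?_
    rw [hf, tval_smul, mul_assoc (GrModX.oval _ _ y).val, tval_fr_neg_one, mul_one, form, partner_partner, map_mul]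
    have h2 : tval (d + 1) k (fr (d + 1) k (-2) (le_refl V)) y *
        (algebraMap (MvPolynomial (Fin (d + 1 + 1)) k) _ (X i) * algebraMap (MvPolynomial (Fin (d + 1 + 1)) k) _ (X i)) = 1 := by
      show Localization.mk _ _ * _ = _
      rw [← map_mul, ← Localization.mk_one_eq_algebraMap, Localization.mk_mul, ← Localization.mk_one,
        Localization.mk_eq_mk_iff, Localization.r_iff_exists]
      exact ⟨1, by simp; ring⟩
    rw [show (GrModX.oval (CohB1.polyGrading (d + 1) k) ((CohB1.ProjSpace.toSpec (d + 1) k).appLE ⊤ V le_top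
        ((Scheme.ΓSpecIso (CommRingCat.of k)).inv (sgn (d + 1) k (partner (d + 1) hn i)))) y).val =
      algebraMap (MvPolynomial (Fin (d + 1 + 1)) k) _ (C (sgn (d + 1) k (partner (d + 1) hn i))) from
        oval_global (d + 1) k _ V y]
    linear_combination (algebraMap (MvPolynomial (Fin (d + 1 + 1)) k) (Twist.Loc (CohB1.polyGrading (d + 1) k) y.1)
      (C (sgn (d + 1) k (partner (d + 1) hn i)))) * h2
  exact coker_free u (isQCoh_tw (d + 1) k (-2)) (isQCoh_omega (d + 1) k) (isAffineOpen_D (d + 1) k i)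
    (fun m => AModX.res _ (le_refl V) (dd (d + 1) k V (a (d + 1) k i (i.succAbove m))))
    (bijective_comb (d + 1) k i V le_rfl) (fr (d + 1) k (-2) (le_refl V))
    (fun z => let ⟨r, hr⟩ := (fr_bijective (d + 1) k (-2) (le_refl V)).2 z; ⟨r, hr.symm⟩) c₀ hc₀ l
    (hcl ▸ ((isUnit_iff_ne_zero.2 (by unfold sgn; split_ifs <;> simp)).map
      (Scheme.ΓSpecIso (CommRingCat.of k)).inv.hom).map _)

/-- The null-correlation inclusion. -/
theorem exists_null_twist (hn : Odd n) :
    ∃ u : tw (-1) ⟶ CohB1.tensorMod (Omega.sheaf (CohB1.ProjSpace.toSpec n k)) (tw 1), Mono u ∧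
      FlatMod.IsFinLocFreeOfRank (n - 1) (cokernel u) := by
  obtain ⟨u, hu, hc⟩ := exists_null n k hn
  obtain ⟨e⟩ := tw_add n k (-2) 1
  let F := twR n k 1
  let e' : tw (-1) ≅ F.obj (tw (-2)) := (e ≪≫ eqToIso (by norm_num)).symm
  haveI : Mono (F.map u) := inferInstance
  refine ⟨e'.hom ≫ F.map u, mono_comp _ _, ?_⟩
  have h := H9PB.isFinLocFreeOfRank_tensor hc (InvEnd.isFinLocFreeOfRank_one (inv_tw n k 1))
  rw [mul_one] at h
  exact (ConsPropLib.isFinLocFreeOfRank_iso (PreservesCokernel.iso F u ≪≫ (cokernelEpiComp e'.hom (F.map u)).symm)).1 h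

end Groth.Agent.PnEuler
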