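import Groth.Agent.PnEuler.Seq
import Groth.Agent.PnEuler.ExtLine
import Groth.Agent.PnEuler.ExtFree
import Groth.Agent.Lib.PnDualTwistAdj
import Groth.Agent.PnCoh.Finite.TwistInv
import Groth.Agent.ExtPowSh.Model
import Groth.Agent.KZ.QuasiProj

/-!
# The twisted exterior powers of the differentials of projective space
-/

set_option linter.style.haveILetI false
set_option linter.unusedSectionVars false
set_option backward.isDefEq.respectTransparency false
set_option backward.isDefEq.respectTransparency.types false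
set_option maxHeartbeats 1000000

universe u

open CategoryTheory CategoryTheory.Limits AlgebraicGeometry TopologicalSpace Opposite

noncomputable section

namespace Groth.Agent.PnEuler

open Groth.Agent.ExtPowSh

variable (n : ℕ) (k : Type u) [CommRing k]

/-- The degree one generators. -/
def gens : ULift.{u} (Fin (n + 1)) → MvPolynomial (Fin (n + 1)) k := fun j => MvPolynomial.X j.down

theorem gens_mem (j : ULift.{u} (Fin (n + 1))) : gens n k j ∈ CohB1.polyGrading n k 1 :=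
  H6PnSm.X_mem_one n k j.down

theorem gens_cover : ⨆ j, PnCoh.Finite.D (CohB1.polyGrading n k) (gens n k j) = ⊤ :=
  top_le_iff.1 fun x _ => by
    obtain ⟨i, hi⟩ := exists_mem_D n k x
    exact Opens.mem_iSup.2 ⟨⟨i⟩, hi⟩

local notation "Pn" => CohB1.ProjSpace n k
local notation "tw" => Twist.twistProjSpace n k

theorem inv_tw (d : ℤ) : PicF.IsInvertible (tw d) :=
  (PnCoh.Finite.invertible_package (gens n k) (gens_mem n k) (gens_cover n k)).1 d

theorem tw_add (a b : ℤ) : Nonempty (CohB1.tensorMod (tw a) (tw b) ≅ tw (a + b)) :=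
  PnCoh.Finite.twist_tensor_iso (gens n k) (gens_mem n k) (gens_cover n k) a b

theorem nonempty_unit : Nonempty (Coh.structureModule (Pn) ≅ tw 0) :=
  ⟨@asIso _ _ _ _ _ (PnCoh.Finite.isIso_oneHom (gens n k) (gens_mem n k) (gens_cover n k))⟩

theorem tensorPow_tw (p : ℕ) : Nonempty (CohB1.tensorPow (tw (-1)) p ≅ tw (-(p : ℤ))) := by
  induction p with
  | zero =>
    obtain ⟨u⟩ := nonempty_unit n k
    exact ⟨u ≪≫ eqToIso (by simp)⟩
  | succ p ih =>
    obtain ⟨e⟩ := ih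
    obtain ⟨e'⟩ := tw_add n k (-(p : ℤ)) (-1)
    exact ⟨(DCoh.tensorBi.mapIso e).app (tw (-1)) ≪≫ e' ≪≫ eqToIso (congrArg _ (by push_cast; ring))⟩

theorem isQCoh_tw (d : ℤ) : Coh.IsQCoh (tw d) := ProjUPX.isQCoh_of_isInvertible (inv_tw n k d)

/-- Twisting, as a functor. -/
abbrev twR (d : ℤ) : (Pn).Modules ⥤ (Pn).Modules := DCoh.tensorBi.flip.obj (tw d)

instance isEquivalence_twR (d : ℤ) : (twR n k d).IsEquivalence :=
  (PnDual.twistEquivalence (gens n k) (gens_mem n k) (gens_cover n k) d (-d) (add_neg_cancel d)).isEquivalence_functor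

/-- Sums of a line bundle. -/
theorem twR_sum (N : ℕ) (e d : ℤ) :
    Nonempty ((twR n k d).obj (∐ fun _ : Fin N => tw e) ≅ ∐ fun _ : Fin N => tw (e + d)) := by
  obtain ⟨φ⟩ := tw_add n k e d
  exact ⟨(PreservesCoproduct.iso (twR n k d) fun _ : Fin N => tw e) ≪≫ Sigma.mapIso fun _ => φ⟩

theorem twR_free (N : ℕ) (d : ℤ) :
    Nonempty ((twR n k d).obj (∐ fun _ : Fin N => Coh.structureModule (Pn)) ≅ ∐ fun _ : Fin N => tw d) := by
  obtain ⟨u⟩ := nonempty_unit n k
  obtain ⟨ψ⟩ := twR_sum n k N 0 d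
  exact ⟨(twR n k d).mapIso (Sigma.mapIso fun _ => u) ≪≫ ψ ≪≫ Sigma.mapIso fun _ => eqToIso (by rw [zero_add])⟩

theorem twR_twR (M : (Pn).Modules) (a b : ℤ) : Nonempty ((twR n k b).obj ((twR n k a).obj M) ≅ (twR n k (a + b)).obj M) := by
  obtain ⟨φ⟩ := tw_add n k a b
  exact ⟨(PnDual.twistFCompIso a b (a + b) φ).app M⟩

theorem extPow_mid (p : ℕ) :
    Nonempty (L (mid n k) p ≅ ∐ fun _ : Fin ((n + 1).choose p) => tw (-(p : ℤ))) := by
  obtain ⟨e⟩ := twR_free n k (n + 1) (-1)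
  have hq : Coh.IsQCoh (mid n k) := (QCoh.isQCoh_iff_iso e).1
    (KFlatLib.isQCoh_tensor (isQCoh_free (Pn) (n + 1)) (isQCoh_tw n k (-1)))
  obtain ⟨f⟩ := nonempty_L_congr e.symm hq p
  obtain ⟨g⟩ := nonempty_twist_iso (∐ fun _ : Fin (n + 1) => Coh.structureModule (Pn)) p
    (isQCoh_free (Pn) (n + 1)) (inv_tw n k (-1))
  obtain ⟨h⟩ := nonempty_extPow_free (Pn) (n + 1) p
  obtain ⟨t⟩ := tensorPow_tw n k p
  obtain ⟨r⟩ := twR_free n k ((n + 1).choose p) (-(p : ℤ))
  exact ⟨f ≪≫ g ≪≫ (DCoh.tensorBi.obj _).mapIso t ≪≫ (twR n k (-(p : ℤ))).mapIso h ≪≫ r⟩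

variable [QuasiSeparated (CohB1.ProjSpace.toSpec n k)]

local notation "Ω" => Omega.sheaf (CohB1.ProjSpace.toSpec n k)

/-- The differentials are a bundle of rank `n`. -/
theorem isFinLocFreeOfRank_omega : FlatMod.IsFinLocFreeOfRank n Ω := fun x => by
  obtain ⟨i, hi⟩ := exists_mem_D n k x
  exact ⟨D n k i, hi, H23.Frame.exists_iso_of_frame
    (fun m => dd n k (D n k i) (a n k i (i.succAbove m))) fun W h => bijective_comb n k i W h⟩

theorem isFinLocFree_omega : FlatMod.IsFinLocFree Ω := ExtPowSh.flf_of_rank (isFinLocFreeOfRank_omega n k)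

theorem isQCoh_omega : Coh.IsQCoh Ω := QCoh.isQCoh_of_isFinLocFree (isFinLocFree_omega n k)

/-- Any exterior power of the differentials is the standard one. -/
theorem nonempty_iso_L {p : ℕ} {M : (Pn).Modules} (h : ExtPow.IsExtPow p Ω M) : Nonempty (M ≅ L Ω p) :=
  ExtPowSh.nonempty_iso h (isExtPow Ω p (isQCoh_omega n k))

/-- `Ω^p(d)`. -/
abbrev Om (p : ℕ) (d : ℤ) : (Pn).Modules := (twR n k d).obj (L Ω p)

theorem isZero_Om {p : ℕ} (hp : n < p) (d : ℤ) : IsZero (Om n k p d) := by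
  have h := ExtPowSh.isFinLocFreeOfRank (i := p) (isFinLocFreeOfRank_omega n k)
  rw [Nat.choose_eq_zero_of_lt hp] at h
  exact (twR n k d).map_isZero (ExtPowSh.isZero_of_rank_zero h)

theorem nonempty_Om_zero (d : ℤ) : Nonempty (Om n k 0 d ≅ tw d) := by
  obtain ⟨e⟩ := nonempty_L_zero (isQCoh_omega n k)
  obtain ⟨u⟩ := nonempty_unit n k
  obtain ⟨φ⟩ := tw_add n k 0 d
  exact ⟨(twR n k d).mapIso (e ≪≫ u) ≪≫ φ ≪≫ eqToIso (by rw [zero_add])⟩

/-- The twisted exterior Euler sequences. -/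
theorem exists_ses (p : ℕ) (d : ℤ) :
    ∃ (f : Om n k (p + 1) d ⟶ ∐ fun _ : Fin ((n + 1).choose (p + 1)) => tw (d - ((p : ℤ) + 1)))
      (g : (∐ fun _ : Fin ((n + 1).choose (p + 1)) => tw (d - ((p : ℤ) + 1))) ⟶ Om n k p d)
      (w : f ≫ g = 0), (ShortComplex.mk f g w).ShortExact := by
  obtain ⟨u⟩ := nonempty_unit n k
  have h₃ : FlatMod.IsFinLocFree (tw 0) := KZ.QuasiProj.flf_of_invertible (inv_tw n k 0)
  obtain ⟨f, g, w, hS⟩ := exists_ses_extPow (shortExact_seq n k) (isFinLocFree_omega n k) u.symm h₃ p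
  have hT := hS.map_of_exact (twR n k d)
  obtain ⟨e⟩ := extPow_mid n k (p + 1)
  obtain ⟨e'⟩ := twR_sum n k ((n + 1).choose (p + 1)) (-((p + 1 : ℕ) : ℤ)) d
  let c : (twR n k d).obj (L (seq n k).X₂ (p + 1)) ≅ ∐ fun _ : Fin ((n + 1).choose (p + 1)) => tw (d - ((p : ℤ) + 1)) :=
    (twR n k d).mapIso e ≪≫ e' ≪≫ Sigma.mapIso fun _ => eqToIso (congrArg _ (by push_cast; ring))
  refine ⟨(twR n k d).map f ≫ c.hom, c.inv ≫ (twR n k d).map g, by
    rw [Category.assoc, Iso.hom_inv_id_assoc, ← (twR n k d).map_comp, w, Functor.map_zero], ?_⟩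
  exact ShortComplex.shortExact_of_iso (ShortComplex.isoMk (Iso.refl ((twR n k d).obj (L (seq n k).X₁ (p + 1)))) c
    (Iso.refl ((twR n k d).obj (L (seq n k).X₁ p))) (Category.id_comp _)
    ((Iso.hom_inv_id_assoc c _).trans (Category.comp_id _).symm)) hT

/-- A given exterior power, twisted. -/
theorem nonempty_Om_iso {p : ℕ} {M : (Pn).Modules} (h : ExtPow.IsExtPow p Ω M) (d : ℤ) :
    Nonempty (Om n k p d ≅ CohB1.tensorMod M (tw d)) := by
  obtain ⟨e⟩ := nonempty_iso_L n k h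
  exact ⟨(twR n k d).mapIso e.symm⟩

/-- A given exterior power, untwisted. -/
theorem nonempty_Om_iso_zero {p : ℕ} {M : (Pn).Modules} (h : ExtPow.IsExtPow p Ω M) :
    Nonempty (Om n k p 0 ≅ M) := by
  obtain ⟨e⟩ := nonempty_iso_L n k h
  obtain ⟨u⟩ := nonempty_unit n k
  obtain ⟨t⟩ := tens_iso_left (A := M) u.symm
  exact ⟨((twR n k 0).mapIso e.symm).trans t⟩

end Groth.Agent.PnEuler
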