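import Groth.Agent.PnEuler.Split

/-!
# Null-correlation bundles on planes
-/

set_option linter.style.haveILetI false
set_option linter.unusedSectionVars false
set_option backward.isDefEq.respectTransparency false
set_option backward.isDefEq.respectTransparency.types false
set_option maxHeartbeats 1000000

universe u

open CategoryTheory CategoryTheory.Limits AlgebraicGeometry TopologicalSpace Opposite
open Groth.Agent.PnCoh.Finite (mapLin)

noncomputable section

namespace Groth.Agent.PnEuler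

section

variable (k : Type u) [Field k] {X : Scheme.{u}} [X.Over (Spec (CommRingCat.of k))]

include k

theorem subsingleton_biprod {M N : X.Modules} (q : ℕ) (hM : Subsingleton (Coh.HH X M q))
    (hN : Subsingleton (Coh.HH X N q)) : Subsingleton (Coh.HH X (M ⊞ N) q) := by
  suffices ∀ x : Coh.HH X (M ⊞ N) q, x = 0 from ⟨fun x y => (this x).trans (this y).symm⟩
  intro x
  have h : mapLin k (biprod.fst ≫ biprod.inl + biprod.snd ≫ biprod.inr : M ⊞ N ⟶ M ⊞ N) q x = x := by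
    rw [biprod.total, mapLin_id]
  rw [← h]
  refine ((mapHom k q x).map_add _ _).trans ?_
  show mapLin k _ q x + mapLin k _ q x = 0
  rw [← mapLin_comp, ← mapLin_comp, hM.elim (mapLin k biprod.fst q x) 0, hN.elim (mapLin k biprod.snd q x) 0,
    map_zero, map_zero, add_zero]

theorem nontrivial_biprod {M N : X.Modules} (q : ℕ) [Nontrivial (Coh.HH X N q)] :
    Nontrivial (Coh.HH X (M ⊞ N) q) := by
  refine Function.Injective.nontrivial (f := mapLin k (biprod.inr : N ⟶ M ⊞ N) q) fun x y h => ?_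
  have h2 := congrArg (mapLin k (biprod.snd : M ⊞ N ⟶ N) q) h
  rwa [mapLin_comp, mapLin_comp, biprod.inr_snd, mapLin_id, mapLin_id] at h2

end

/-- Equivalences preserve sums. -/
def biprodIso {C D : Type*} [Category C] [Category D] [Abelian C] [Abelian D] (F : C ⥤ D) [F.IsEquivalence]
    (M N : C) : F.obj (M ⊞ N) ≅ F.obj M ⊞ F.obj N :=
  haveI := preservesBinaryBiproduct_of_preservesBinaryProduct F (X := M) (Y := N)
  F.mapBiprod M N

variable (n m : ℕ) (k : Type u) [Field k] [QuasiSeparated (CohB1.ProjSpace.toSpec n k)]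
  [QuasiSeparated (CohB1.ProjSpace.toSpec m k)]

local notation "tw" => Twist.twistProjSpace m k
local notation "Ω₁" => CohB1.tensorMod (Omega.sheaf (CohB1.ProjSpace.toSpec n k)) (Twist.twistProjSpace n k 1)

theorem nonempty_twist_biprod (G M N : (CohB1.ProjSpace m k).Modules) (d : ℤ) {M' N' : (CohB1.ProjSpace m k).Modules}
    (e : G ≅ M ⊞ N) (a : (twR m k d).obj M ≅ M') (b : (twR m k d).obj N ≅ N') :
    Nonempty ((twR m k d).obj G ≅ M' ⊞ N') :=
  ⟨(twR m k d).mapIso e ≪≫ biprodIso (twR m k d) M N ≪≫ biprod.mapIso a b⟩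

theorem nonempty_pullback_omega_one (i : CohB1.ProjSpace m k ⟶ CohB1.ProjSpace (m + 1) k)
    [QuasiSeparated (CohB1.ProjSpace.toSpec (m + 1) k)]
    (e1 : (Scheme.Modules.pullback i).obj (Twist.twistProjSpace (m + 1) k 1) ≅ tw 1) :
    Nonempty ((Scheme.Modules.pullback i).obj (CohB1.tensorMod (Omega.sheaf (CohB1.ProjSpace.toSpec (m + 1) k))
      (Twist.twistProjSpace (m + 1) k 1)) ≅ (twR m k 1).obj (Omega.sheaf (CohB1.ProjSpace.toSpec m k)) ⊞ tw 0) := by
  obtain ⟨w⟩ := nonempty_pullback_omega m k (m + 1) i ⟨e1⟩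
  obtain ⟨r⟩ := ASB.pullback_tensor i (Omega.sheaf (CohB1.ProjSpace.toSpec (m + 1) k))
    (Twist.twistProjSpace (m + 1) k 1)
  obtain ⟨s1⟩ := twR_sum m k (m + 1 - m) (-1) 1
  have hu : Nonempty (Unique (Fin (m + 1 - m))) :=
    ⟨⟨⟨⟨0, by omega⟩⟩, fun x => Fin.ext (by have := x.2; show (x : ℕ) = 0; omega)⟩⟩
  obtain ⟨_⟩ := hu
  have hz : tw (-1 + 1) = tw 0 := by norm_num
  exact ⟨r ≪≫ tensCongr _ e1 ≪≫ (twR m k 1).mapIso w ≪≫ biprodIso (twR m k 1) _ _ ≪≫
    biprod.mapIso (Iso.refl _) (s1 ≪≫ coproductUniqueIso _ ≪≫ eqToIso hz)⟩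

/-- Restriction to a hyperplane of the cokernel of a bundle map `O(-1) → Ω(1)`. -/
theorem restrict_coker (hm : 2 ≤ m) (hn : n = m + 1) (i : CohB1.ProjSpace m k ⟶ CohB1.ProjSpace n k)
    (hO : Nonempty ((Scheme.Modules.pullback i).obj (Twist.twistProjSpace n k 1) ≅ tw 1))
    (u : Twist.twistProjSpace n k (-1) ⟶ Ω₁) [Mono u] (hM : FlatMod.IsFinLocFree (cokernel u)) :
    Subsingleton (Coh.HH (CohB1.ProjSpace m k)
      (CohB1.tensorMod ((Scheme.Modules.pullback i).obj (cokernel u)) (tw (-1))) 0) ∧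
    Nontrivial (Coh.HH (CohB1.ProjSpace m k) ((Scheme.Modules.pullback i).obj (cokernel u)) 0) := by
  subst hn
  have hS := KRRReg.shortExact_pullback_vb i (shortExact_coker (m + 1) k u) hM
  obtain ⟨e1⟩ := hO
  obtain ⟨on⟩ := nonempty_unit (m + 1) k
  obtain ⟨om⟩ := nonempty_unit m k
  obtain ⟨o⟩ := PicClLib.nonempty_pullback_structureModule i
  obtain ⟨t⟩ := tw_add (m + 1) k (-1) 1
  obtain ⟨t'⟩ := tw_add m k 1 (-1)
  obtain ⟨q⟩ := ASB.pullback_tensor i (Twist.twistProjSpace (m + 1) k (-1)) (Twist.twistProjSpace (m + 1) k 1)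
  let i₁ : CohB1.tensorMod ((Scheme.Modules.pullback i).obj (Twist.twistProjSpace (m + 1) k (-1))) (tw 1) ≅
      Coh.structureModule (CohB1.ProjSpace m k) :=
    tensCongr _ e1.symm ≪≫ q.symm ≪≫ (Scheme.Modules.pullback i).mapIso (t ≪≫ eqToIso (by norm_num) ≪≫ on.symm) ≪≫ o
  let i₂ : CohB1.tensorMod (tw 1) (tw (-1)) ≅ Coh.structureModule (CohB1.ProjSpace m k) :=
    t' ≪≫ eqToIso (by norm_num) ≪≫ om.symm
  obtain ⟨em⟩ := PicPnLib.inverse_unique i₁ i₂
  obtain ⟨e2⟩ := nonempty_pullback_omega_one m k i e1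
  refine ⟨?_, ?_⟩
  · have hS' := hS.map_of_exact (twR m k (-1))
    obtain ⟨a⟩ := twR_twR m k (Omega.sheaf (CohB1.ProjSpace.toSpec m k)) 1 (-1)
    obtain ⟨b⟩ := tw_add m k 0 (-1)
    obtain ⟨c⟩ := tw_add m k (-1) (-1)
    obtain ⟨z⟩ := nonempty_Om_iso m k (ExtPowSh.isExtPow_one (Omega.sheaf (CohB1.ProjSpace.toSpec m k))) (1 + -1)
    obtain ⟨e3⟩ : Nonempty ((twR m k (-1)).obj ((Scheme.Modules.pullback i).obj (CohB1.tensorMod (Omega.sheaf (CohB1.ProjSpace.toSpec (m + 1) k)) (Twist.twistProjSpace (m + 1) k 1))) ≅ Om m k 1 (1 + -1) ⊞ tw (0 + -1)) :=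
      nonempty_twist_biprod m k ((Scheme.Modules.pullback i).obj (CohB1.tensorMod (Omega.sheaf (CohB1.ProjSpace.toSpec (m + 1) k)) (Twist.twistProjSpace (m + 1) k 1))) ((twR m k 1).obj (Omega.sheaf (CohB1.ProjSpace.toSpec m k))) (tw 0) (-1) e2 (a ≪≫ z.symm) b
    refine subsingleton_X₃ k hS' 0 ?_ ?_
    · refine QCoh.subsingleton_HH_of_iso e3.symm 0 (subsingleton_biprod k 0 ?_ ?_)
      · exact subsingleton_Om_h0 m k (by omega) _ 1 (by norm_num)
      · exact subsingleton_tw m k _ 0 (by omega) (by omega)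
    · exact QCoh.subsingleton_HH_of_iso ((twR m k (-1)).mapIso em ≪≫ c).symm (0 + 1)
        (subsingleton_tw m k _ (0 + 1) (by omega) (by omega))
  · have h0 : Subsingleton (Coh.HH (CohB1.ProjSpace m k) ((Scheme.Modules.pullback i).obj (Twist.twistProjSpace (m + 1) k (-1))) 0) :=
      QCoh.subsingleton_HH_of_iso em.symm 0 (subsingleton_tw m k _ 0 (by omega) (by omega))
    have hinj : Function.Injective (mapLin k ((Scheme.Modules.pullback i).map (cokernel.π u)) 0) := (injective_iff_map_eq_zero _).2 fun x hx => by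
      obtain ⟨y, rfl⟩ := exact₂ k hS 0 hx
      rw [h0.elim y 0, map_zero]
    obtain ⟨e₀⟩ := nonempty_hh_tw_zero m k
    haveI : Nontrivial (Coh.HH (CohB1.ProjSpace m k) (tw 0) 0) := e₀.toEquiv.nontrivial
    haveI : Nontrivial (Coh.HH (CohB1.ProjSpace m k) ((twR m k 1).obj (Omega.sheaf (CohB1.ProjSpace.toSpec m k)) ⊞ tw 0) 0) := nontrivial_biprod k 0
    haveI : Nontrivial (Coh.HH (CohB1.ProjSpace m k) ((Scheme.Modules.pullback i).obj (CohB1.tensorMod (Omega.sheaf (CohB1.ProjSpace.toSpec (m + 1) k)) (Twist.twistProjSpace (m + 1) k 1))) 0) := (hhIso k e2 0).toEquiv.nontrivial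
    exact hinj.nontrivial

end Groth.Agent.PnEuler
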