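import Groth.Agent.PnEuler.Hom

/-!
# Values of derivatives of coordinates, and points from vectors
-/

set_option linter.style.haveILetI false
set_option linter.unusedSectionVars false
set_option backward.isDefEq.respectTransparency false
set_option backward.isDefEq.respectTransparency.types false
set_option maxHeartbeats 1000000

universe u

open CategoryTheory CategoryTheory.Limits AlgebraicGeometry TopologicalSpace Opposite MvPolynomial

noncomputable section

namespace Groth.Agent.PnEuler

variable {n : ℕ} {k : Type u} [CommRing k]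

local notation "P" => MvPolynomial (Fin (n + 1)) k

theorem sum_del_mk (x : ProjectiveSpectrum (CohB1.polyGrading n k)) (L : Fin (n + 1) → P) (i m : Fin (n + 1))
    (h : (X i : P) ^ 1 ∈ x.asHomogeneousIdeal.toIdeal.primeCompl) :
    ∑ j, del x j (Localization.mk (X m) ⟨X i ^ 1, h⟩) * algebraMap P _ (L j) =
      Localization.mk (X i * L m - X m * L i) (⟨X i ^ 1, h⟩ * ⟨X i ^ 1, h⟩) := by
  classical
  have hu := IsLocalization.map_units (Twist.Loc (CohB1.polyGrading n k) x)
    ((⟨X i ^ 1, h⟩ : x.asHomogeneousIdeal.toIdeal.primeCompl) * ⟨X i ^ 1, h⟩)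
  refine hu.mul_right_cancel ?_
  rw [mk_mul_algebraMap, Finset.sum_mul]
  rw [Finset.sum_congr rfl fun j _ => by rw [del_mk, mul_right_comm, mk_mul_algebraMap, ← map_mul], ← map_sum]
  congr 1
  simp only [pow_one, pderiv_X, Pi.single_apply, sub_mul, Finset.sum_sub_distrib]
  simp [Finset.sum_ite_eq', mul_assoc]

/-- A combination of the derivatives of `T_m / T_i`. -/
theorem sum_del_coord (L : Fin (n + 1) → P) (i m : Fin (n + 1)) (y : D n k i) :
    ∑ j, del y.1 j (GrModX.oval (CohB1.polyGrading n k) (a n k i m) y).val * algebraMap P _ (L j) =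
      Localization.mk (X i * L m - X m * L i)
        (⟨X i ^ 1, GrModX.pow_notMem y.1.isPrime y.2 1⟩ * ⟨X i ^ 1, GrModX.pow_notMem y.1.isPrime y.2 1⟩) := by
  rw [val_a]
  exact sum_del_mk y.1 L i m _

section field

variable {k : Type u} [Field k] {K : Type u} [Field K] [Algebra k K]

local notation "Q" => MvPolynomial (Fin (n + 1)) k

/-- Evaluation along the line through a vector. -/
def lineEval (v : Fin (n + 1) → K) : Q →+* Polynomial K :=
  eval₂Hom (Polynomial.C.comp (algebraMap k K)) fun j => Polynomial.C (v j) * Polynomial.X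

theorem lineEval_homogeneous (v : Fin (n + 1) → K) {d : ℕ} {f : Q} (hf : f.IsHomogeneous d) :
    lineEval v f = Polynomial.C (aeval v f) * Polynomial.X ^ d := by
  classical
  rw [f.as_sum, map_sum, map_sum, map_sum, Finset.sum_mul]
  refine Finset.sum_congr rfl fun e he => ?_
  have hd : e.degree = d := by
    by_contra hne
    exact (mem_support_iff.1 he) (hf.coeff_eq_zero hne)
  rw [lineEval, eval₂Hom_monomial, aeval_monomial, RingHom.comp_apply, map_mul, Finsupp.prod, Finsupp.prod, map_prod,
    mul_assoc]
  congr 1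
  rw [← hd, Finsupp.degree_eq_sum, ← Finset.prod_pow_eq_pow_sum,
    ← Finset.prod_subset (Finset.subset_univ e.support) fun j _ hj => by rw [Finsupp.notMem_support_iff.1 hj, pow_zero],
    ← Finset.prod_mul_distrib]
  exact Finset.prod_congr rfl fun j _ => by rw [mul_pow, map_pow]

theorem mem_ker_lineEval (v : Fin (n + 1) → K) {d : ℕ} {f : Q} (hf : f.IsHomogeneous d) :
    f ∈ RingHom.ker (lineEval v) ↔ aeval v f = 0 := by
  rw [RingHom.mem_ker, lineEval_homogeneous v hf, mul_eq_zero, Polynomial.C_eq_zero,
    or_iff_left (pow_ne_zero _ Polynomial.X_ne_zero)]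

theorem isHomogeneous_ker (v : Fin (n + 1) → K) :
    (RingHom.ker (lineEval v)).IsHomogeneous (CohB1.polyGrading n k) := by
  intro d f hf
  erw [decomposition.decompose'_apply]
  rw [mem_ker_lineEval v (homogeneousComponent_isHomogeneous d f)]
  have h := congrArg (Polynomial.coeff · d) (RingHom.mem_ker.1 hf)
  simp only [Polynomial.coeff_zero] at h
  rw [← sum_homogeneousComponent f, map_sum, Polynomial.finsetSum_coeff] at h
  simp only [lineEval_homogeneous v (homogeneousComponent_isHomogeneous _ f), Polynomial.coeff_C_mul_X_pow] at h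
  rw [Finset.sum_ite_eq] at h
  split_ifs at h with hd
  · exact h
  · rw [homogeneousComponent_eq_zero d f (by simpa using hd), map_zero]

/-- The point of a nonzero vector. -/
def point (v : Fin (n + 1) → K) (hv : v ≠ 0) : ProjectiveSpectrum (CohB1.polyGrading n k) where
  asHomogeneousIdeal := ⟨RingHom.ker (lineEval v), isHomogeneous_ker v⟩
  isPrime := RingHom.ker_isPrime _
  not_irrelevant_le h := by
    obtain ⟨i, hi⟩ := Function.ne_iff.1 hv
    have hmem : (X i : Q) ∈ RingHom.ker (lineEval v) :=
      h (HomogeneousIdeal.mem_irrelevant_of_mem (CohB1.polyGrading n k) Nat.one_pos (isHomogeneous_X k i))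
    exact hi ((aeval_X v i).symm.trans ((mem_ker_lineEval v (isHomogeneous_X k i)).1 hmem))

theorem mem_point_iff (v : Fin (n + 1) → K) (hv : v ≠ 0) {d : ℕ} {f : Q} (hf : f.IsHomogeneous d) :
    f ∈ (point v hv).asHomogeneousIdeal ↔ aeval v f = 0 :=
  mem_ker_lineEval v hf

end field

end Groth.Agent.PnEuler
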