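import Groth.Agent.PnEuler.Generic
import Groth.Agent.PnVan.Split
import Groth.Agent.PnEuler.NullProp
import Groth.Agent.ExtShX.PairSh
import Groth.Agent.ExtShX.PnSmooth
import Groth.Agent.ExtShX.LinearHom
import Groth.Agent.BlowExc.Regular
import Groth.Agent.RegLoc6.Serre
import Groth.Agent.PushAmp.FibreStalk
import Groth.Agent.H23.PnChart
import Groth.Agent.PicPnLib.Main
import Groth.Agent.ASB.Hom
import Groth.Agent.ProjSerre.Lcm
import Groth.Agent.Lib.InvEnd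
import Groth.Agent.PnCoh.Chow.Proper
import Mathlib.LinearAlgebra.Eigenspace.Triangularizable

/-!
# Simplicity of stable rank two bundles on projective space
-/

set_option linter.style.haveILetI false
set_option linter.unusedSectionVars false
set_option backward.isDefEq.respectTransparency false
set_option backward.isDefEq.respectTransparency.types false
set_option maxHeartbeats 1000000

universe u

open CategoryTheory CategoryTheory.Limits AlgebraicGeometry TopologicalSpace Opposite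

noncomputable section

namespace Groth.Agent.PnEuler.RankTwo

variable (n : ℕ) (k : Type u) [Field k]

local notation "Pn" => CohB1.ProjSpace n k
local notation "tw" => Twist.twistProjSpace n k

theorem flf_tw (d : ℤ) : FlatMod.IsFinLocFree (tw d) :=
  ExtPowSh.flf_of_rank (InvEnd.isFinLocFreeOfRank_one (inv_tw n k d))

/-- The self-duality of rank two bundles. -/
theorem nonempty_dual {E : (Pn).Modules} (hE : FlatMod.IsFinLocFreeOfRank 2 E) {c : ℤ}
    (hdet : ∃ L : (Pn).Modules, ExtPow.IsExtPow 2 E L ∧ Nonempty (L ≅ tw c)) :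
    Nonempty ((SheafHomX.hom E).obj (tw c) ≅ E) := by
  haveI : IsLocallyNoetherian (Pn) := by
    haveI := PnCoh.Chow.isProper_toSpec n k
    exact LocallyOfFiniteType.isLocallyNoetherian (CohB1.ProjSpace.toSpec n k)
  obtain ⟨L, hL, ⟨e⟩⟩ := hdet
  obtain ⟨f⟩ := ExtShX.Pair.nonempty_hom_extPow_iso (p := 1) (q := 1) rfl hE (ExtPowSh.isExtPow_one E)
    (ExtPowSh.isExtPow_one E) hL
  exact ⟨(SheafHomX.hom E).mapIso e.symm ≪≫ f⟩

theorem homEquiv_eq_zero {X : Scheme.{u}} {E M N : X.Modules} (g : (SheafHomX.ten E).obj M ⟶ N)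
    (h : (SheafHomX.adj E).homEquiv M N g = 0) : g = 0 := by
  rw [← ((SheafHomX.adj E).homEquiv M N).symm_apply_apply g, h, Adjunction.homEquiv_counit, Functor.map_zero,
    zero_comp]

theorem homEquiv_symm_eq_zero {X : Scheme.{u}} {E M N : X.Modules} (g : M ⟶ (SheafHomX.hom E).obj N)
    (h : ((SheafHomX.adj E).homEquiv M N).symm g = 0) : g = 0 := by
  rw [← ((SheafHomX.adj E).homEquiv M N).apply_symm_apply g, h, Adjunction.homEquiv_unit, Functor.map_zero,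
    comp_zero]

theorem map_ne_zero {C D : Type*} [Category C] [Category D] [Preadditive C] [Preadditive D] (F : C ⥤ D)
    [F.PreservesZeroMorphisms] [F.Faithful] {X Y : C} (f : X ⟶ Y) (h : f ≠ 0) : F.map f ≠ 0 :=
  fun h0 => h (F.map_injective (h0.trans (F.map_zero _ _).symm))

/-- `M ⊗ E ≅ E ⊗ M`. -/
def flipIso {X : Scheme.{u}} (M E : X.Modules) :
    (DCoh.tensorBi.flip.obj E).obj M ≅ (DCoh.tensorBi.flip.obj M).obj E :=
  ((KFlatLib.tensorBiFlipIso X).app E).app M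

variable [QuasiSeparated (CohB1.ProjSpace.toSpec n k)]

theorem exists_out {E : (Pn).Modules} (hE : FlatMod.IsFinLocFreeOfRank 2 E) {c : ℤ}
    (hdet : ∃ L : (Pn).Modules, ExtPow.IsExtPow 2 E L ∧ Nonempty (L ≅ tw c)) {a : ℤ} (s : tw a ⟶ E) (hs : s ≠ 0) :
    ∃ q : E ⟶ tw (c - a), q ≠ 0 := by
  obtain ⟨D⟩ := nonempty_dual n k hE hdet
  let g := ((SheafHomX.adj E).homEquiv (tw a) (tw c)).symm (s ≫ D.inv)
  have hg : g ≠ 0 := fun h => hs ((Preadditive.IsIso.comp_right_eq_zero s D.inv).1 (homEquiv_symm_eq_zero _ h))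
  let g₁ : (twR n k a).obj E ⟶ tw c := (flipIso (tw a) E).inv ≫ g
  have hg₁ : g₁ ≠ 0 := fun h => hg ((Preadditive.IsIso.comp_left_eq_zero _ g).1 h)
  obtain ⟨φ⟩ := tw_add n k (c - a) a
  let φ' : (twR n k a).obj (tw (c - a)) ≅ tw c := φ ≪≫ eqToIso (by rw [sub_add_cancel])
  obtain ⟨q, hq⟩ := (twR n k a).map_surjective (g₁ ≫ φ'.inv)
  exact ⟨q, fun h => hg₁ ((Preadditive.IsIso.comp_right_eq_zero g₁ φ'.inv).1
    (by rw [← hq, h, Functor.map_zero]))⟩

theorem exists_in {E : (Pn).Modules} (hE : FlatMod.IsFinLocFreeOfRank 2 E) {c : ℤ}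
    (hdet : ∃ L : (Pn).Modules, ExtPow.IsExtPow 2 E L ∧ Nonempty (L ≅ tw c)) {b : ℤ} (q : E ⟶ tw b) (hq : q ≠ 0) :
    ∃ s : tw (c - b) ⟶ E, s ≠ 0 := by
  obtain ⟨D⟩ := nonempty_dual n k hE hdet
  obtain ⟨φ⟩ := tw_add n k b (c - b)
  let φ' : (twR n k (c - b)).obj (tw b) ≅ tw c := φ ≪≫ eqToIso (by rw [add_sub_cancel])
  let g := (flipIso (tw (c - b)) E).hom ≫ (twR n k (c - b)).map q ≫ φ'.hom
  have hg : g ≠ 0 := fun h => map_ne_zero (twR n k (c - b)) q hq ((Preadditive.IsIso.comp_right_eq_zero _ _).1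
    ((Preadditive.IsIso.comp_left_eq_zero _ _).1 h))
  exact ⟨(SheafHomX.adj E).homEquiv (tw (c - b)) (tw c) g ≫ D.hom,
    fun h => hg (homEquiv_eq_zero g ((Preadditive.IsIso.comp_right_eq_zero _ _).1 h))⟩

theorem exists_mono_step : ∃ m : tw (-1) ⟶ tw 0, Mono m := by
  haveI := H23.PnChart.isIntegral_projSpace n k
  obtain ⟨i, hi⟩ := exists_mem_D n k (genericPoint (Pn))
  refine ⟨mulT n k i, InvEnd.mono_of_ne_zero (inv_tw n k _) (inv_tw n k _) _ fun h => ?_⟩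
  let y : D n k i := ⟨_, hi⟩
  have h1 := tval_mulT n k i (D n k i) (fr n k (-1) le_rfl) y
  rw [tval_fr_neg_one, h] at h1
  exact zero_ne_one ((show tval n k (0 : Γ(tw 0, D n k i)) y = 0 from rfl).symm.trans h1)

theorem exists_mono_tw (a : ℤ) (e : ℕ) : ∃ m : tw a ⟶ tw (a + e), Mono m := by
  induction e with
  | zero => exact ⟨eqToHom (congrArg _ (by simp)), inferInstance⟩
  | succ e ih =>
    obtain ⟨m, hm⟩ := ih
    obtain ⟨m₁, hm₁⟩ := exists_mono_step n k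
    obtain ⟨φ⟩ := tw_add n k (-1) (a + (e : ℤ) + 1)
    obtain ⟨ψ⟩ := tw_add n k 0 (a + (e : ℤ) + 1)
    let φ' : (twR n k (a + (e : ℤ) + 1)).obj (tw (-1)) ≅ tw (a + e) := φ ≪≫ eqToIso (congrArg _ (by ring))
    let ψ' : (twR n k (a + (e : ℤ) + 1)).obj (tw 0) ≅ tw (a + ((e + 1 : ℕ) : ℤ)) :=
      ψ ≪≫ eqToIso (congrArg _ (by push_cast; ring))
    exact ⟨m ≫ φ'.inv ≫ (twR n k (a + (e : ℤ) + 1)).map m₁ ≫ ψ'.hom, inferInstance⟩

/-- Sections of `E(d)` are maps `O(-d) → E`. -/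
theorem subsingleton_h0_iff (E : (Pn).Modules) (d : ℤ) :
    Subsingleton (Coh.HH (Pn) (CohB1.tensorMod E (tw d)) 0) ↔ ∀ s : tw (-d) ⟶ E, s = 0 := by
  letI : (Pn).Over (Spec (CommRingCat.of k)) := ⟨CohB1.ProjSpace.toSpec n k⟩
  obtain ⟨e⟩ := ExtShX.exists_hom_HH0 (A := k) ((twR n k d).obj E)
  obtain ⟨φ⟩ := tw_add n k (-d) d
  obtain ⟨u⟩ := nonempty_unit n k
  let φ' : (twR n k d).obj (tw (-d)) ≅ Coh.structureModule (Pn) :=
    φ ≪≫ eqToIso (congrArg _ (neg_add_cancel d)) ≪≫ u.symm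
  show Subsingleton (Coh.HH (Pn) ((twR n k d).obj E) 0) ↔ _
  rw [← e.toEquiv.subsingleton_congr]
  constructor
  · intro h s
    refine (twR n k d).map_injective ?_
    rw [← cancel_epi φ'.inv]
    exact Subsingleton.elim _ _
  · intro h
    refine ⟨fun f g => ?_⟩
    obtain ⟨f', hf⟩ := (twR n k d).map_surjective (φ'.hom ≫ f)
    obtain ⟨g', hg⟩ := (twR n k d).map_surjective (φ'.hom ≫ g)
    rw [← cancel_epi φ'.hom, ← hf, ← hg, h f', h g']

/-- Nonzero maps from twists into `E` live in low degree. -/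
theorem bound {E : (Pn).Modules} (hE : FlatMod.IsFinLocFreeOfRank 2 E) {k₀ a : ℤ}
    (h0 : Subsingleton (Coh.HH (Pn) (CohB1.tensorMod E (tw k₀)) 0)) (g : tw a ⟶ E) (hg : g ≠ 0) : a + k₀ < 0 := by
  haveI := H23.PnChart.isIntegral_projSpace n k
  haveI : IsLocallyNoetherian (Pn) := by
    haveI := PnCoh.Chow.isProper_toSpec n k
    exact LocallyOfFiniteType.isLocallyNoetherian (CohB1.ProjSpace.toSpec n k)
  by_contra hle
  haveI := Generic.mono_of_ne_zero (inv_tw n k a) (ExtPowSh.flf_of_rank hE) g hg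
  obtain ⟨m, hm⟩ := exists_mono_tw n k (-k₀) (a + k₀).toNat
  let m' : tw (-k₀) ⟶ tw a := m ≫ eqToHom (congrArg _ (by omega))
  have h1 : m' ≫ g = 0 := (subsingleton_h0_iff n k E k₀).1 h0 _
  have h2 : m' = 0 := by rw [← cancel_mono g, h1, zero_comp]
  haveI : Mono m' := mono_comp _ _
  exact not_isZero_tw n k (-k₀) ((IsZero.iff_id_eq_zero _).2 (by rw [← cancel_mono m', Category.id_comp, h2, comp_zero]))

theorem scalar_of_eq (E : (Pn).Modules) (φ : E ⟶ E) (c : k) :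
    (SheafOfModules.toSheaf (Pn).ringCatSheaf).map φ =
        Coh.smulAb E (Coh.toGlobal (CohB1.ProjSpace.toSpec n k) c) ↔ φ = sc n k E c :=
  ⟨fun h => (SheafOfModules.toSheaf (Pn).ringCatSheaf).map_injective (h.trans (toSheaf_sc n k E c).symm),
    fun h => h ▸ toSheaf_sc n k E c⟩

/-- S11506. -/
theorem normalised_h0_of_simple {E : (Pn).Modules} (hE : FlatMod.IsFinLocFreeOfRank 2 E) {c k₀ : ℤ}
    (hdet : ∃ L : (Pn).Modules, ExtPow.IsExtPow 2 E L ∧ Nonempty (L ≅ tw c)) (hk₀ : c + 2 * k₀ = 0 ∨ c + 2 * k₀ = -1)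
    (hsimple : ∀ φ : E ⟶ E, ∃ c' : k, φ = sc n k E c') :
    Subsingleton (Coh.HH (Pn) (CohB1.tensorMod E (tw k₀)) 0) := by
  haveI := H23.PnChart.isIntegral_projSpace n k
  haveI : IsLocallyNoetherian (Pn) := by
    haveI := PnCoh.Chow.isProper_toSpec n k
    exact LocallyOfFiniteType.isLocallyNoetherian (CohB1.ProjSpace.toSpec n k)
  rw [subsingleton_h0_iff]
  intro s
  by_contra hs
  haveI := Generic.mono_of_ne_zero (inv_tw n k (-k₀)) (ExtPowSh.flf_of_rank hE) s hs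
  obtain ⟨q, hq⟩ := exists_out n k hE hdet s hs
  obtain ⟨m, hm⟩ := exists_mono_tw n k (c - -k₀) (-c - 2 * k₀).toNat
  let m' : tw (c - -k₀) ⟶ tw (-k₀) := m ≫ eqToHom (congrArg _ (by omega))
  haveI : Mono m' := mono_comp _ _
  obtain ⟨c', hc'⟩ := hsimple ((q ≫ m') ≫ s)
  have hne : (q ≫ m') ≫ s ≠ 0 := fun h => hq (by
    rw [← cancel_mono m', ← cancel_mono s, h, zero_comp, zero_comp])
  have hc0 : c' ≠ 0 := fun h => hne (hc'.trans (by rw [h, sc_zero]))
  haveI : Epi s := by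
    haveI := isIso_sc n k E hc0
    haveI : Epi ((q ≫ m') ≫ s) := by rw [hc']; infer_instance
    exact epi_of_epi (q ≫ m') s
  haveI := isIso_of_mono_of_epi s
  have h1 := PnVan.rank_of_iso (asIso s) (InvEnd.isFinLocFreeOfRank_one (inv_tw n k (-k₀)))
  exact absurd (PnVan.rank_unique h1 hE) (by decide)

/-- A bundle of rank two has a nonzero map to some twist. -/
theorem exists_ne_zero_out {E : (Pn).Modules} (hE : FlatMod.IsFinLocFreeOfRank 2 E) {c : ℤ}
    (hdet : ∃ L : (Pn).Modules, ExtPow.IsExtPow 2 E L ∧ Nonempty (L ≅ tw c)) :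
    ∃ (b : ℤ) (q : E ⟶ tw b), q ≠ 0 := by
  obtain ⟨r, d, p, hp⟩ := ProjSerre.exists_epi_twists («𝒜» := CohB1.polyGrading n k) (F := E)
    (QCoh.isCoh_iff_isFP.2 (QCoh.isFP_of_isFinLocFree (ExtPowSh.flf_of_rank hE)))
  by_cases h : ∀ j, Sigma.ι (fun j : Fin r => Twist.twist (CohB1.polyGrading n k) (d j)) j ≫ p = 0
  · have hp0 : p = 0 := Sigma.hom_ext _ _ fun j => by rw [h j, comp_zero]
    exact absurd hE (not_rank_two_of_isZero n k ((IsZero.iff_id_eq_zero _).2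
      (by rw [← cancel_epi p, hp0, zero_comp, zero_comp])))
  · obtain ⟨j, hj⟩ := not_forall.1 h
    obtain ⟨q, hq⟩ := exists_out n k hE hdet (a := d j) _ hj
    exact ⟨_, q, hq⟩

/-- S11505. -/
theorem simple_of_normalised_h0 [IsAlgClosed k] {E : (Pn).Modules} (hE : FlatMod.IsFinLocFreeOfRank 2 E) {c k₀ : ℤ}
    (hdet : ∃ L : (Pn).Modules, ExtPow.IsExtPow 2 E L ∧ Nonempty (L ≅ tw c)) (hk₀ : c + 2 * k₀ = 0 ∨ c + 2 * k₀ = -1)
    (h0 : Subsingleton (Coh.HH (Pn) (CohB1.tensorMod E (tw k₀)) 0)) (φ : E ⟶ E) :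
    ∃ c' : k, φ = sc n k E c' := by
  letI : (Pn).Over (Spec (CommRingCat.of k)) := ⟨CohB1.ProjSpace.toSpec n k⟩
  haveI : IsProper ((Pn) ↘ Spec (CommRingCat.of k)) := PnCoh.Chow.isProper_toSpec n k
  haveI := H23.PnChart.isIntegral_projSpace n k
  haveI : IsLocallyNoetherian (Pn) := LocallyOfFiniteType.isLocallyNoetherian ((Pn) ↘ Spec (CommRingCat.of k))
  have hEc : Coh.IsCoh E := QCoh.isCoh_iff_isFP.2 (QCoh.isFP_of_isFinLocFree (ExtPowSh.flf_of_rank hE))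
  obtain ⟨b, q₀, hq₀⟩ := exists_ne_zero_out n k hE hdet
  haveI : Module.Finite k (E ⟶ tw b) := ASB.finite_hom (Pn) hEc (QCoh.isCoh_iff_isFP.2 (QCoh.isFP_of_isFinLocFree (flf_tw n k b)))
  haveI : Nontrivial (E ⟶ tw b) := nontrivial_of_ne q₀ 0 hq₀
  obtain ⟨c', hc'⟩ := Module.End.exists_eigenvalue (Linear.leftComp k (tw b) φ)
  obtain ⟨q, hq⟩ := hc'.exists_hasEigenvector
  refine ⟨c', ?_⟩
  by_contra hne
  let ψ := φ - sc n k E c'
  have hψ : ψ ≫ q = 0 := by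
    rw [Preadditive.sub_comp, sub_eq_zero]
    exact hq.apply_eq_smul
  have hψ0 : ψ ≠ 0 := sub_ne_zero.2 hne
  have hreg : ∀ x : Pn, IsRegularLocalRing ((Pn).presheaf.stalk x) := fun x => by
    haveI := ExtShX.DetPn.smooth_toSpec n k
    haveI : Smooth (CohB1.ProjSpace.toSpec n k) := SmoothOfRelativeDimension.smooth n _
    haveI := RegLoc6.isRegularLocalRing_of_isField
      (PushAmp.isField_stalk_specField (K := CommRingCat.of k) (Field.toIsField k) (CohB1.ProjSpace.toSpec n k x))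
    exact BlowExc.regular_stalk_of_smooth (CohB1.ProjSpace.toSpec n k) x
  obtain ⟨a, ⟨α⟩⟩ := PicPnLib.exists_twist (n := n) (R := k)
    (Generic.isInvertible_kernel hreg hE (inv_tw n k b) q hq.2)
  let g : tw a ⟶ E := α.inv ≫ kernel.ι q
  let ψ₁ : E ⟶ tw a := kernel.lift q ψ hψ ≫ α.hom
  have hψ₁ : ψ₁ ≫ g = ψ := by simp [ψ₁, g]
  have hg : g ≠ 0 := fun h => hψ0 (by rw [← hψ₁, h, comp_zero])
  have hψ₁0 : ψ₁ ≠ 0 := fun h => hψ0 (by rw [← hψ₁, h, zero_comp])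
  obtain ⟨g', hg'⟩ := exists_in n k hE hdet ψ₁ hψ₁0
  have h1 := bound n k hE h0 g hg
  have h2 := bound n k hE h0 g' hg'
  omega

end Groth.Agent.PnEuler.RankTwo
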