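import Groth.Agent.PnEuler.Der
import Groth.Agent.Lib.PnDualMul
import Groth.Agent.PnCoh.Finite.TwistInv
import Groth.Agent.TopVanish.LCSheaf
import Groth.Agent.KFlatLib.Scheme.Exact
import Groth.Agent.AModX.Res
import Mathlib.Algebra.Category.Grp.Abelian
import Mathlib.Algebra.Homology.ShortComplex.Abelian
import Mathlib.CategoryTheory.Abelian.ShortExact

/-!
# The Euler sequence `0 → Ω → O(-1)^{n+1} → O → 0` on projective space over a ring
-/

set_option linter.style.haveILetI false
set_option linter.unusedSectionVars false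
set_option backward.isDefEq.respectTransparency false
set_option backward.isDefEq.respectTransparency.types false
set_option maxHeartbeats 1000000

universe u

open CategoryTheory CategoryTheory.Limits AlgebraicGeometry TopologicalSpace Opposite MvPolynomial

noncomputable section

namespace Groth.Agent.PnEuler

/-- Short exactness from sections over arbitrarily small opens. -/
theorem shortExact_of_small {X : Scheme.{u}} (S : ShortComplex X.Modules)
    (h : ∀ (U : X.Opens) (x : X), x ∈ U → ∃ (W : X.Opens), W ≤ U ∧ x ∈ W ∧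
      (∀ z : Γ(S.X₁, W), S.f.app W z = 0 → z = 0) ∧
      (∀ w : Γ(S.X₂, W), S.g.app W w = 0 → ∃ z, S.f.app W z = w) ∧
      ∀ c : Γ(S.X₃, W), ∃ w, S.g.app W w = c) : S.ShortExact := by
  refine CategoryTheory.ShortExact.reflects_shortExact_of_faithful (KFlatLib.toAb X) ?_
  refine TopVanish.shortExact_of_local _ (fun U a ha => ?_) (fun U b hb x hx => ?_) fun U c x hx => ?_
  · refine AModX.eq_of_locally (M := S.X₁) (V := U) _ _ fun x hx => ?_
    obtain ⟨W, hW, hxW, hinj, -, -⟩ := h U x hx
    refine ⟨W, hW, hxW, ?_⟩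
    rw [map_zero]
    refine hinj _ ((AModX.app_res S.f hW _).trans ?_)
    rw [show S.f.app U (show Γ(S.X₁, U) from a) = 0 from ha, map_zero]
  · obtain ⟨W, hW, hxW, -, hex, -⟩ := h U x hx
    obtain ⟨z, hz⟩ := hex (AModX.res S.X₂ hW (show Γ(S.X₂, U) from b)) (by
      rw [AModX.app_res, show S.g.app U (show Γ(S.X₂, U) from b) = 0 from hb, map_zero])
    exact ⟨W, hW, hxW, z, hz⟩
  · obtain ⟨W, hW, hxW, -, -, hsurj⟩ := h U x hx
    obtain ⟨w, hw⟩ := hsurj (AModX.res S.X₃ hW (show Γ(S.X₃, U) from c))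
    exact ⟨W, hW, hxW, w, hw⟩

variable (n : ℕ) (k : Type u) [CommRing k]

local notation "P" => MvPolynomial (Fin (n + 1)) k
local notation "Pn" => CohB1.ProjSpace n k
local notation "tw" => Twist.twistProjSpace n k

/-- Multiplication by `T_j`. -/
def mulT (j : Fin (n + 1)) : tw (-1) ⟶ tw 0 :=
  PnDual.mulHom (H6PnSm.X_mem_one n k j) (by norm_num : (0 : ℤ) = -1 + ((1 : ℕ) : ℤ))

theorem tval_mulT (j : Fin (n + 1)) (W : (Pn).Opens) (s : Γ(tw (-1), W)) (y : W) :
    tval n k ((mulT n k j).app W s) y = tval n k s y * algebraMap P _ (X j) := by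
  show _ * Localization.mk (X j) _ = _
  rw [Localization.mk_one_eq_algebraMap]

/-- The middle term. -/
abbrev mid : (Pn).Modules := ∐ fun _ : Fin (n + 1) => tw (-1)

/-- The projections of the middle term. -/
def pr (j : Fin (n + 1)) : mid n k ⟶ tw (-1) :=
  Sigma.desc fun l => if l = j then 𝟙 _ else 0

theorem ι_pr (l j : Fin (n + 1)) :
    Sigma.ι (fun _ : Fin (n + 1) => tw (-1)) l ≫ pr n k j = if l = j then 𝟙 _ else 0 :=
  Sigma.ι_desc _ _

theorem sum_pr : ∑ j, pr n k j ≫ Sigma.ι (fun _ : Fin (n + 1) => tw (-1)) j = 𝟙 _ :=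
  Sigma.hom_ext _ _ fun l => by
    simp [Preadditive.comp_sum, reassoc_of% (ι_pr n k), ite_comp]

theorem app_sum {M N : (Pn).Modules} {ι : Type} (s : Finset ι) (φ : ι → (M ⟶ N)) (W : (Pn).Opens) (z : Γ(M, W)) :
    (∑ j ∈ s, φ j).app W z = ∑ j ∈ s, (φ j).app W z := by
  classical
  induction s using Finset.induction_on with
  | empty => simp
  | insert b s hb ih => rw [Finset.sum_insert hb, Finset.sum_insert hb, ← ih]; rfl

theorem mid_ext {W : (Pn).Opens} (w : Γ(mid n k, W)) :
    w = ∑ j, (Sigma.ι (fun _ : Fin (n + 1) => tw (-1)) j).app W ((pr n k j).app W w) := by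
  refine Eq.trans ?_ (app_sum n k Finset.univ (fun j => pr n k j ≫ Sigma.ι (fun _ : Fin (n + 1) => tw (-1)) j) W w)
  rw [sum_pr]
  rfl

/-- The map to `O`. -/
def beta : mid n k ⟶ tw 0 := Sigma.desc (mulT n k)

theorem app_beta {W : (Pn).Opens} (w : Γ(mid n k, W)) :
    (beta n k).app W w = ∑ j, (mulT n k j).app W ((pr n k j).app W w) := by
  conv_lhs => rw [mid_ext n k w, map_sum]
  refine Finset.sum_congr rfl fun j _ => ?_
  rw [← ConcreteCategory.comp_apply, ← Scheme.Modules.Hom.comp_app]
  simp [beta]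

variable [QuasiSeparated (CohB1.ProjSpace.toSpec n k)]

/-- The components of the map from the differentials. -/
def al (j : Fin (n + 1)) : Omega.sheaf (CohB1.ProjSpace.toSpec n k) ⟶ tw (-1) :=
  (OmegaUniv.isUniversal_dOmega (CohB1.ProjSpace.toSpec n k) _ (partialD n k j)).choose

theorem al_dd (j : Fin (n + 1)) (W : (Pn).Opens) (c : Γ(Pn, W)) :
    (al n k j).app W (dd n k W c) = delHom n k j W c :=
  PresheafOfModules.Derivation.congr_d
    (OmegaUniv.isUniversal_dOmega (CohB1.ProjSpace.toSpec n k) _ (partialD n k j)).choose_spec.1 c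

/-- The map from the differentials. -/
def alpha : Omega.sheaf (CohB1.ProjSpace.toSpec n k) ⟶ mid n k :=
  ∑ j, al n k j ≫ Sigma.ι (fun _ : Fin (n + 1) => tw (-1)) j

theorem alpha_pr (j : Fin (n + 1)) : alpha n k ≫ pr n k j = al n k j := by
  simp [alpha, Preadditive.sum_comp, ι_pr, comp_ite]

theorem tval_sum {d : ℤ} {W : (Pn).Opens} {ι : Type} (s : Finset ι) (f : ι → Γ(tw d, W)) (y : W) :
    tval n k (∑ j ∈ s, f j) y = ∑ j ∈ s, tval n k (f j) y := by
  classical
  induction s using Finset.induction_on with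
  | empty => simp
  | insert b s hb ih => rw [Finset.sum_insert hb, Finset.sum_insert hb, ← ih]; rfl

theorem alpha_beta : alpha n k ≫ beta n k = 0 := by
  refine (OmegaUniv.isUniversal_dOmega (CohB1.ProjSpace.toSpec n k) (tw 0)
    ((OmegaSh.dOmega (CohB1.ProjSpace.toSpec n k)).postcomp (0 : Omega.sheaf (CohB1.ProjSpace.toSpec n k) ⟶ tw 0).val)).unique ?_ rfl
  refine PresheafOfModules.Derivation.ext (funext fun W => AddMonoidHom.ext fun c => ?_)
  show (beta n k).app W.unop ((alpha n k).app W.unop (dd n k W.unop c)) = (0 : Omega.sheaf (CohB1.ProjSpace.toSpec n k) ⟶ tw 0).app W.unop (dd n k W.unop c)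
  rw [app_beta]
  refine ext_tval n k fun y => ?_
  rw [tval_sum]
  refine Eq.trans (Finset.sum_congr rfl fun j _ => ?_) (euler y.1 (GrModX.oval _ c y))
  rw [tval_mulT, ← ConcreteCategory.comp_apply, ← Scheme.Modules.Hom.comp_app, alpha_pr, al_dd, mul_comm]
  rfl

/-- The Euler sequence. -/
def seq : ShortComplex (Pn).Modules := ShortComplex.mk (alpha n k) (beta n k) (alpha_beta n k)

theorem isUnit_T {i : Fin (n + 1)} {y : ProjectiveSpectrum (CohB1.polyGrading n k)}
    (hy : (X i : P) ∉ y.asHomogeneousIdeal) :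
    IsUnit (algebraMap P (Twist.Loc (CohB1.polyGrading n k) y) (X i)) :=
  IsLocalization.map_units _ (⟨X i, hy⟩ : y.asHomogeneousIdeal.toIdeal.primeCompl)

theorem nonVan_le {i : Fin (n + 1)} {W : (Pn).Opens} (h : W ≤ D n k i) :
    PnCoh.NonVan (𝒜 := CohB1.polyGrading n k) (X i) W := fun x => h x.2

/-- The frame `T_i ^ d`. -/
def fr (d : ℤ) {i : Fin (n + 1)} {W : (Pn).Opens} (h : W ≤ D n k i) : Γ(tw d, W) :=
  PnCoh.twPow (H6PnSm.X_mem_one n k i) d (nonVan_le n k h)

theorem fr_bijective (d : ℤ) {i : Fin (n + 1)} {W : (Pn).Opens} (h : W ≤ D n k i) :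
    Function.Bijective fun r : Γ(Pn, W) => r • fr n k d h :=
  PnCoh.trivMap_bijective (H6PnSm.X_mem_one n k i) d (U := W) (nonVan_le n k h)

theorem tval_fr_neg_one {i : Fin (n + 1)} {W : (Pn).Opens} (h : W ≤ D n k i) (y : W) :
    tval n k (fr n k (-1) h) y * algebraMap P _ (X i) = 1 := by
  show Localization.mk _ _ * _ = _
  rw [← Localization.mk_one_eq_algebraMap, Localization.mk_mul, ← Localization.mk_one, Localization.mk_eq_mk_iff,
    Localization.r_iff_exists]
  exact ⟨1, by simp⟩

theorem tval_fr_zero {i : Fin (n + 1)} {W : (Pn).Opens} (h : W ≤ D n k i) (y : W) :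
    tval n k (fr n k 0 h) y = 1 := by
  show Localization.mk _ _ = _
  rw [← Localization.mk_one, Localization.mk_eq_mk_iff, Localization.r_iff_exists]
  exact ⟨1, by simp⟩

theorem al_coord {i : Fin (n + 1)} {W : (Pn).Opens} (h : W ≤ D n k i) (m : Fin n) (l : Fin n) :
    (al n k (i.succAbove l)).app W (AModX.res _ h (dd n k (D n k i) (a n k i (i.succAbove m)))) =
      if m = l then fr n k (-1) h else 0 := by
  rw [← dd_res, al_dd]
  refine ext_tval n k fun y => ?_
  rw [tval_delHom, show GrModX.oval _ (AModX.resR h (a n k i (i.succAbove m))) y =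
    GrModX.oval _ (a n k i (i.succAbove m)) ⟨y.1, h y.2⟩ from rfl, val_a, del_mk]
  have hne : i ≠ i.succAbove l := (Fin.succAbove_ne i l).symm
  split_ifs with hml
  · subst hml
    refine (isUnit_T n k (h y.2)).mul_right_cancel ?_
    rw [tval_fr_neg_one, ← Localization.mk_one_eq_algebraMap, Localization.mk_mul, ← Localization.mk_one,
      Localization.mk_eq_mk_iff, Localization.r_iff_exists]
    refine ⟨1, ?_⟩
    simp [pderiv_X, hne]
  · have hne' : i.succAbove m ≠ i.succAbove l := fun e => hml (Fin.succAbove_right_injective e)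
    show Localization.mk _ _ = 0
    simp [pderiv_X, hne, hne', Localization.mk_zero]

theorem al_comb {i : Fin (n + 1)} {W : (Pn).Opens} (h : W ≤ D n k i) (c : Fin n → Γ(Pn, W)) (l : Fin n) :
    (al n k (i.succAbove l)).app W
        (∑ m, c m • AModX.res _ h (dd n k (D n k i) (a n k i (i.succAbove m)))) =
      c l • fr n k (-1) h := by
  rw [map_sum]
  simp_rw [Scheme.Modules.Hom.app_smul, al_coord]
  simp

theorem exact_local {i : Fin (n + 1)} {W : (Pn).Opens} (h : W ≤ D n k i) :
    (∀ z : Γ(Omega.sheaf (CohB1.ProjSpace.toSpec n k), W), (alpha n k).app W z = 0 → z = 0) ∧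
      (∀ w : Γ(mid n k, W), (beta n k).app W w = 0 → ∃ z, (alpha n k).app W z = w) ∧
      ∀ c : Γ(tw 0, W), ∃ w, (beta n k).app W w = c := by
  have key : ∀ z j, (pr n k j).app W ((alpha n k).app W z) = (al n k j).app W z := fun z j => by
    rw [← ConcreteCategory.comp_apply, ← Scheme.Modules.Hom.comp_app, alpha_pr]
  have hb := bijective_comb n k i W h
  refine ⟨fun z hz => ?_, fun w hw => ?_, fun c => ?_⟩
  · obtain ⟨c, rfl⟩ := hb.2 z
    refine Finset.sum_eq_zero fun l _ => ?_
    have h1 := key (∑ m, c m • AModX.res _ h (dd n k (D n k i) (a n k i (i.succAbove m)))) (i.succAbove l)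
    rw [show (alpha n k).app W _ = 0 from hz, map_zero, al_comb] at h1
    rw [(fr_bijective n k (-1) h).1 (show c l • fr n k (-1) h = (0 : Γ(Pn, W)) • fr n k (-1) h by
      rw [zero_smul, ← h1]), zero_smul]
  · choose c hc using fun l => (fr_bijective n k (-1) h).2 ((pr n k (i.succAbove l)).app W w)
    let z := ∑ m, c m • AModX.res _ h (dd n k (D n k i) (a n k i (i.succAbove m)))
    refine ⟨z, ?_⟩
    rw [mid_ext n k ((alpha n k).app W z), mid_ext n k w]
    refine Finset.sum_congr rfl fun j _ => congrArg _ ?_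
    rw [key]
    have hl : ∀ l, (al n k (i.succAbove l)).app W z = (pr n k (i.succAbove l)).app W w := fun l =>
      (al_comb n k h c l).trans (hc l)
    by_cases hj : j = i
    · subst hj
      refine ext_tval n k fun y => (isUnit_T n k (h y.2)).mul_right_cancel ?_
      rw [← tval_mulT, ← tval_mulT]
      have h0 : (beta n k).app W ((alpha n k).app W z) = 0 := by
        rw [← ConcreteCategory.comp_apply, ← Scheme.Modules.Hom.comp_app, alpha_beta]
        rfl
      have e : (beta n k).app W ((alpha n k).app W z) = (beta n k).app W w := h0.trans hw.symm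
      rw [app_beta, app_beta, Fin.sum_univ_succAbove _ j, Fin.sum_univ_succAbove _ j] at e
      simp only [key, hl] at e
      exact congrArg (fun s => tval n k s y) (add_right_cancel e)
    · obtain ⟨l, rfl⟩ := Fin.exists_succAbove_eq hj
      exact hl l
  · obtain ⟨r, rfl⟩ := (fr_bijective n k 0 h).2 c
    refine ⟨(Sigma.ι (fun _ : Fin (n + 1) => tw (-1)) i).app W (r • fr n k (-1) h), ?_⟩
    rw [← ConcreteCategory.comp_apply, ← Scheme.Modules.Hom.comp_app, beta, Sigma.ι_desc]
    refine ext_tval n k fun y => ?_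
    rw [tval_mulT, tval_smul, mul_assoc, tval_fr_neg_one, tval_smul, tval_fr_zero]

theorem shortExact_seq : (seq n k).ShortExact :=
  shortExact_of_small _ fun U x hx => by
    obtain ⟨i, hi⟩ := exists_mem_D n k x
    exact ⟨U ⊓ D n k i, inf_le_left, ⟨hx, hi⟩, exact_local n k inf_le_right⟩

end Groth.Agent.PnEuler
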