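import Groth.Agent.PnEuler.RankTwo
import Groth.Agent.PnEuler.BottDim
import Groth.Agent.PnEuler.Coh
import Groth.Agent.QCoh.HHExact
import Groth.Prelude.Def_ClSub2

/-!
# Sections of a bundle with a Serre sequence
-/

set_option linter.style.haveILetI false
set_option linter.unusedSectionVars false
set_option backward.isDefEq.respectTransparency false
set_option backward.isDefEq.respectTransparency.types false
set_option maxHeartbeats 1000000

universe u

open CategoryTheory CategoryTheory.Limits AlgebraicGeometry TopologicalSpace Opposite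

noncomputable section

namespace Groth.Agent.PnEuler.SerreSeq

variable (n : ℕ) (k : Type u) [Field k] [QuasiSeparated (CohB1.ProjSpace.toSpec n k)]

local notation "Pn" => CohB1.ProjSpace n k
local notation "tw" => Twist.twistProjSpace n k

theorem subsingleton_h0_tw_iff (hn : 1 ≤ n) (t : ℤ) : Subsingleton (Coh.HH (Pn) (tw t) 0) ↔ t < 0 := by
  refine ⟨fun h => ?_, fun h => S0844.result k n t 0 (by omega) (by omega)⟩
  by_contra hlt
  obtain ⟨d, rfl⟩ : ∃ d : ℕ, t = (d : ℤ) := ⟨t.toNat, by omega⟩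
  obtain ⟨h1, h2⟩ := finrank_h0_tw n k d
  haveI := h1
  rw [← Module.finrank_zero_iff (R := k), h2] at h
  exact (Nat.choose_pos (by omega : n ≤ n + d)).ne' h

theorem subsingleton_hh0_iff (k : Type u) [CommRing k] {X : Scheme.{u}} [X.Over (Spec (CommRingCat.of k))]
    (M : X.Modules) : Subsingleton (Coh.HH X M 0) ↔ Subsingleton (Coh.structureModule X ⟶ M) := by
  obtain ⟨e⟩ := ExtShX.exists_hom_HH0 (A := k) M
  exact e.toEquiv.subsingleton_congr.symm

/-- Smaller twists of a subsheaf of `O` have fewer sections. -/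
theorem subsingleton_h0_mono {J : (Pn).Modules} (j : J ⟶ Coh.structureModule (Pn)) [Mono j] {d d' : ℤ}
    (hdd : d ≤ d') (h : Subsingleton (Coh.HH (Pn) (CohB1.tensorMod J (tw d')) 0)) :
    Subsingleton (Coh.HH (Pn) (CohB1.tensorMod J (tw d)) 0) := by
  obtain ⟨u⟩ := nonempty_unit n k
  letI : (Pn).Over (Spec (CommRingCat.of k)) := ⟨CohB1.ProjSpace.toSpec n k⟩
  obtain ⟨m, hm⟩ := RankTwo.exists_mono_tw n k d (d' - d).toNat
  let m' : tw d ⟶ tw d' := m ≫ eqToHom (congrArg _ (by omega))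
  haveI : Mono m' := mono_comp _ _
  let B := DCoh.tensorBi (X := Pn)
  let f : (twR n k d).obj J ⟶ (twR n k d').obj J := (B.obj J).map m'
  haveI : Mono f := by
    haveI : Mono ((B.obj (Coh.structureModule (Pn))).map m') := by
      let e : B.obj (Coh.structureModule (Pn)) ≅ 𝟭 _ :=
        ((KFlatLib.tensorBiFlipIso (Pn)).app (Coh.structureModule (Pn))).symm ≪≫ KFlatLib.tensorStructureIso (Pn)
      rw [show (B.obj (Coh.structureModule (Pn))).map m' = e.hom.app _ ≫ (𝟭 _ : _ ⥤ _).map m' ≫ e.inv.app _ by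
        rw [← NatTrans.naturality_assoc, Iso.hom_inv_id_app, Category.comp_id]]
      haveI : Mono ((𝟭 (Pn).Modules).map m') := ‹Mono m'›
      infer_instance
    have h1 : f ≫ (twR n k d').map j = (twR n k d).map j ≫ (B.obj (Coh.structureModule (Pn))).map m' :=
      (B.map j).naturality m'
    haveI : Mono (f ≫ (twR n k d').map j) := by rw [h1]; infer_instance
    exact mono_of_mono f ((twR n k d').map j)
  rw [subsingleton_hh0_iff k] at h ⊢
  haveI : Subsingleton (Coh.structureModule (Pn) ⟶ (twR n k d').obj J) := h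
  exact ⟨fun a b => by rw [← cancel_mono f]; exact Subsingleton.elim _ _⟩

theorem h0_mid_iff (k : Type u) [CommRing k] {X : Scheme.{u}} [X.Over (Spec (CommRingCat.of k))]
    {S : ShortComplex X.Modules} (hS : S.ShortExact) {A C : X.Modules} (α : S.X₁ ≅ A) (β : S.X₃ ≅ C)
    (hA : Subsingleton (Coh.HH X A (0 + 1))) :
    Subsingleton (Coh.HH X S.X₂ 0) ↔ Subsingleton (Coh.HH X A 0) ∧ Subsingleton (Coh.HH X C 0) :=
  ⟨fun h => ⟨QCoh.subsingleton_HH_of_iso α 0 (subsingleton_X₁_zero k hS h),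
    QCoh.subsingleton_HH_of_iso β 0 (subsingleton_X₃ k hS 0 h (QCoh.subsingleton_HH_of_iso α.symm _ hA))⟩,
    fun h => QCoh.subsingleton_HH_X₂ hS 0 (QCoh.subsingleton_HH_of_iso α.symm 0 h.1)
      (QCoh.subsingleton_HH_of_iso β.symm 0 h.2)⟩

/-- Sections of the middle term of a Serre sequence. -/
theorem subsingleton_h0_iff_of_seq (hn : 2 ≤ n) (J : (Pn).Modules) (j : J ⟶ Coh.structureModule (Pn)) [Mono j]
    (S : ShortComplex (Pn).Modules) (hS : S.ShortExact) (c : ℤ)
    (h₁ : Nonempty (S.X₁ ≅ Coh.structureModule (Pn))) (h₃ : Nonempty (S.X₃ ≅ CohB1.tensorMod J (tw c))) (t : ℤ) :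
    Subsingleton (Coh.HH (Pn) (CohB1.tensorMod S.X₂ (tw t)) 0) ↔
      t < 0 ∧ ∀ d : ℤ, d ≤ c + t → Subsingleton (Coh.HH (Pn) (CohB1.tensorMod J (tw d)) 0) := by
  letI : (Pn).Over (Spec (CommRingCat.of k)) := ⟨CohB1.ProjSpace.toSpec n k⟩
  obtain ⟨a⟩ := h₁
  obtain ⟨b⟩ := h₃
  obtain ⟨u⟩ := nonempty_unit n k
  obtain ⟨t₀⟩ := tw_add n k 0 t
  rw [zero_add] at t₀
  obtain ⟨x⟩ := twR_twR n k J c t
  let α : (twR n k t).obj S.X₁ ≅ tw t := (twR n k t).mapIso (a ≪≫ u) ≪≫ t₀
  let β : (twR n k t).obj S.X₃ ≅ (twR n k (c + t)).obj J := (twR n k t).mapIso b ≪≫ x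
  have key := h0_mid_iff k (S := S.map (twR n k t)) (hS.map_of_exact (twR n k t)) α β
    (S0844.result k n t 1 (by omega) (by omega))
  refine Iff.trans key ⟨fun h => ⟨(subsingleton_h0_tw_iff n k (by omega) t).1 h.1,
    fun d hd => subsingleton_h0_mono n k j hd h.2⟩, fun h => ⟨(subsingleton_h0_tw_iff n k (by omega) t).2 h.1, h.2 _ le_rfl⟩⟩

end Groth.Agent.PnEuler.SerreSeq
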