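import Groth.Agent.PnEuler.Point
import Groth.Agent.PnEuler.Bott
import Mathlib.FieldTheory.IsAlgClosed.AlgebraicClosure
import Mathlib.LinearAlgebra.Eigenspace.Triangularizable

/-!
# Endomorphisms and vector fields
-/

set_option linter.style.haveILetI false
set_option linter.unusedSectionVars false
set_option backward.isDefEq.respectTransparency false
set_option backward.isDefEq.respectTransparency.types false
set_option maxHeartbeats 1000000

universe u

open CategoryTheory CategoryTheory.Limits AlgebraicGeometry TopologicalSpace Opposite MvPolynomial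

noncomputable section

namespace Groth.Agent.PnEuler

variable (n : ℕ) (k : Type u) [Field k]

local notation "P" => MvPolynomial (Fin (n + 1)) k
local notation "Pn" => CohB1.ProjSpace n k
local notation "tw" => Twist.twistProjSpace n k

theorem eq_zero_of_mk_eq_zero {x : ProjectiveSpectrum (CohB1.polyGrading n k)} {f : P}
    {s : x.asHomogeneousIdeal.toIdeal.primeCompl}
    (h : (Localization.mk f s : Twist.Loc (CohB1.polyGrading n k) x) = 0) : f = 0 := by
  rw [Localization.mk_eq_mk', IsLocalization.mk'_eq_zero_iff] at h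
  obtain ⟨m, hm⟩ := h
  exact (mul_eq_zero.1 hm).resolve_left fun h0 => m.2 (h0 ▸ zero_mem _)

/-- A scalar matrix. -/
theorem eq_scalar_of_rel (M : Fin (n + 1) → Fin (n + 1) → k)
    (h : ∀ i m, (X i : P) * (∑ l, C (M m l) * X l) = X m * ∑ l, C (M i l) * X l) :
    ∀ j l, M j l = if j = l then M 0 0 else 0 := by
  classical
  have key : ∀ (v : Fin (n + 1) → k) i m, v i * ∑ l, M m l * v l = v m * ∑ l, M i l * v l := fun v i m => by
    simpa using congrArg (eval v) (h i m)
  have off : ∀ j l, j ≠ l → M j l = 0 := fun j l hjl => by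
    simpa [Pi.single_apply, hjl] using key (Pi.single l 1) l j
  intro j l
  split_ifs with hjl
  · subst hjl
    by_cases hj : j = 0
    · rw [hj]
    · have := key (fun _ => 1) 0 j
      simp only [one_mul, mul_one] at this
      rw [Finset.sum_eq_single j (fun b _ hb => off j b hb.symm) (by simp),
        Finset.sum_eq_single 0 (fun b _ hb => off 0 b hb.symm) (by simp)] at this
      exact this
  · exact off j l hjl

variable [QuasiSeparated (CohB1.ProjSpace.toSpec n k)]

local notation "Ω" => Omega.sheaf (CohB1.ProjSpace.toSpec n k)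

/-- The differentials are simple. -/
theorem endo_omega (φ : Ω ⟶ Ω) : ∃ c : k, φ = Formal.smulModΓ Ω (Coh.toGlobal (CohB1.ProjSpace.toSpec n k) c) := by
  classical
  rcases Nat.eq_zero_or_pos n with hn | hn
  · subst hn
    exact ⟨0, (ExtPowSh.isZero_of_rank_zero (isFinLocFreeOfRank_omega 0 k)).eq_of_src _ _⟩
  choose Φ hΦ using fun l => exists_extend n k (-1) (subsingleton_tw n k (-1) 1 (by omega) (by omega)) (φ ≫ al n k l)
  have hex : ∀ j l, ∃ c : k, IsMul n k (Sigma.ι (fun _ : Fin (n + 1) => tw (-1)) j ≫ Φ l) (C c) := fun j l => by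
    obtain ⟨p, hp, hm⟩ := exists_isMul n k (e := 0) (by simp) (Sigma.ι (fun _ : Fin (n + 1) => tw (-1)) j ≫ Φ l)
    refine ⟨coeff 0 p, ?_⟩
    rwa [← totalDegree_eq_zero_iff_eq_C.1 (Nat.le_zero.1 hp.totalDegree_le)]
  choose M hM using hex
  have hval : ∀ (W : (Pn).Opens) (c : Γ(Pn, W)) (y : W) l,
      tval n k ((φ ≫ al n k l).app W (dd n k W c)) y =
        ∑ j, del y.1 j (GrModX.oval _ c y).val * algebraMap P _ (C (M j l)) := fun W c y l => by
    rw [← hΦ l]
    exact tval_alpha_comp n k (Φ l) _ (fun j => hM j l) W c y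
  have hrel : ∀ i m, (X i : P) * (∑ l, C (M m l) * X l) = X m * ∑ l, C (M i l) * X l := fun i m => by
    let y : D n k i := ⟨point (Pi.single i (1 : k)) (by simp), fun h =>
      one_ne_zero (α := k) (by simpa using (mem_point_iff (Pi.single i (1 : k)) (by simp) (isHomogeneous_X k i)).1 h)⟩
    let z := φ.app (D n k i) (dd n k (D n k i) (a n k i m))
    have h0 : (beta n k).app (D n k i) ((alpha n k).app (D n k i) z) = 0 := by
      rw [← ConcreteCategory.comp_apply, ← Scheme.Modules.Hom.comp_app, alpha_beta]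
      rfl
    rw [app_beta] at h0
    have h1 := congrArg (fun s => tval n k s y) h0
    rw [tval_sum] at h1
    refine sub_eq_zero.1 (eq_zero_of_mk_eq_zero n k (x := y.1)
      (((sum_del_coord (fun j => ∑ l, C (M j l) * X l) i m y).symm).trans (Eq.trans ?_ h1)))
    simp only [map_sum, map_mul, Finset.mul_sum]
    rw [Finset.sum_comm]
    refine Finset.sum_congr rfl fun l _ => ?_
    rw [tval_mulT, ← ConcreteCategory.comp_apply (x := z), ← Scheme.Modules.Hom.comp_app, alpha_pr,
      ← ConcreteCategory.comp_apply, ← Scheme.Modules.Hom.comp_app, hval, Finset.sum_mul]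
    exact Finset.sum_congr rfl fun j _ => (mul_assoc _ _ _).symm
  have hs := eq_scalar_of_rel n k M hrel
  refine ⟨M 0 0, hom_ext_al n k _ _ fun l => hom_ext_dd n k _ _ fun W c => ext_tval n k fun y => ?_⟩
  rw [hval, Finset.sum_eq_single l (fun j _ hj => by rw [hs, if_neg hj, map_zero, map_zero, mul_zero]) (by simp), hs,
    if_pos rfl]
  show _ = tval n k ((al n k l).app W (AModX.resR (le_top : W ≤ ⊤)
    ((CohB1.ProjSpace.toSpec n k).appTop ((Scheme.ΓSpecIso (CommRingCat.of k)).inv (M 0 0))) • dd n k W c)) y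
  rw [Scheme.Modules.Hom.app_smul, al_dd, tval_smul, oval_global, mul_comm]
  rfl

theorem tval_oneHom (U : (Pn).Opens) (r : Γ(Coh.structureModule (Pn), U)) (y : U) :
    tval n k ((PnCoh.Finite.oneHom (𝒜 := CohB1.polyGrading n k)).app U r) y =
      (GrModX.oval (CohB1.polyGrading n k) (OmegaSh.fnSect (Pn) U r) y).val := by
  show tval n k ((show Γ(Pn, U) from r) • (show Γ(tw 0, U) from PnCoh.Finite.oneSect)) y = _
  rw [tval_smul]
  refine (congrArg (_ * ·) ?_).trans (mul_one _)
  exact Localization.mk_one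

/-- Every vector field vanishes somewhere. -/
theorem exists_zero_vectorField (ξ : Ω ⟶ Coh.structureModule (Pn)) :
    ∃ x : Pn, ∀ (U : (Pn).Opens) (hx : x ∈ U) (s : Γ(Ω, U)),
      (Pn).presheaf.germ U x hx (OmegaSh.fnSect (Pn) U (ξ.app U s)) ∈
        IsLocalRing.maximalIdeal ((Pn).presheaf.stalk x) := by
  classical
  obtain ⟨Φ, hΦ⟩ := exists_extend n k 0 (subsingleton_tw n k 0 1 (by omega) (by omega))
    (ξ ≫ PnCoh.Finite.oneHom (𝒜 := CohB1.polyGrading n k))
  choose L hL hLm using fun j => exists_isMul n k (e := 1) (by norm_num)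
    (Sigma.ι (fun _ : Fin (n + 1) => tw (-1)) j ≫ Φ)
  have hcoef : ∀ j, ∃ M : Fin (n + 1) → k, ∑ l, M l • (X l : P) = L j := fun j => by
    refine (Submodule.mem_span_range_iff_exists_fun k).1 ?_
    rw [← homogeneousSubmodule_one_eq_span_X]
    exact hL j
  choose M hM using hcoef
  let K := AlgebraicClosure k
  let f : (Fin (n + 1) → K) →ₗ[K] (Fin (n + 1) → K) :=
    Matrix.mulVecLin (Matrix.of fun j l => algebraMap k K (M j l))
  obtain ⟨μ, hμ⟩ := Module.End.exists_eigenvalue f
  obtain ⟨v, hv⟩ := hμ.exists_hasEigenvector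
  have hev : ∀ j, aeval v (L j) = μ * v j := fun j => by
    rw [← hM j, map_sum]
    refine Eq.trans ?_ (congrFun hv.apply_eq_smul j)
    simp [f, Matrix.mulVec, dotProduct, Algebra.smul_def]
  obtain ⟨i, hi⟩ : ∃ i, v i ≠ 0 := Function.ne_iff.1 hv.2
  let x : Pn := point v hv.2
  have hxi : x ∈ D n k i := fun h =>
    hi ((aeval_X v i).symm.trans ((mem_point_iff v hv.2 (isHomogeneous_X k i)).1 h))
  refine ⟨x, fun U hx s => ?_⟩
  rw [IsLocalRing.mem_maximalIdeal, mem_nonunits_iff]
  intro hu
  have h1 := (GrModX.mem_basicOpen_iff_isUnit (CohB1.polyGrading n k) _ (⟨x, hx⟩ : U)).1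
    ((Scheme.mem_basicOpen _ _ x hx).2 hu)
  rw [← tval_oneHom] at h1
  change IsUnit (tval n k ((ξ ≫ PnCoh.Finite.oneHom (𝒜 := CohB1.polyGrading n k)).app U s) ⟨x, hx⟩) at h1
  revert h1
  let W := U ⊓ D n k i
  let y : W := ⟨x, hx, hxi⟩
  let ψ : Ω ⟶ tw 0 := ξ ≫ PnCoh.Finite.oneHom (𝒜 := CohB1.polyGrading n k)
  suffices h : tval n k (ψ.app W (AModX.res _ (inf_le_left : W ≤ U) s)) y ∈
      IsLocalRing.maximalIdeal (Twist.Loc (CohB1.polyGrading n k) x) by
    rw [AModX.app_res] at h
    exact fun h1 => (IsLocalRing.mem_maximalIdeal _).1 h h1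
  obtain ⟨c, hc⟩ := (bijective_comb n k i W inf_le_right).2 (AModX.res _ (inf_le_left : W ≤ U) s)
  rw [← hc, map_sum, tval_sum]
  refine Ideal.sum_mem _ fun m _ => ?_
  rw [Scheme.Modules.Hom.app_smul, tval_smul, AModX.app_res, tval_res, show ψ = alpha n k ≫ Φ from hΦ.symm,
    tval_alpha_comp n k Φ L hLm, sum_del_coord]
  refine Ideal.mul_mem_left _ _ ?_
  rw [Localization.mk_eq_mk', IsLocalization.AtPrime.mk'_mem_maximal_iff _ x.asHomogeneousIdeal.toIdeal]
  refine (mem_point_iff v hv.2 (d := 2) (MvPolynomial.IsHomogeneous.sub ((isHomogeneous_X k i).mul (hL _)) ((isHomogeneous_X k _).mul (hL i)))).2 ?_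
  rw [map_sub, map_mul, map_mul, aeval_X, aeval_X, hev, hev]
  ring

end Groth.Agent.PnEuler
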