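import Groth.Agent.PnEuler.BottDim
import Groth.Agent.ExtShX.PairSh
import Groth.Agent.ExtShX.DetPn
import Groth.Agent.PnVan.HomTw
import Groth.Agent.CanonDual.Sub
import Groth.Agent.HypCurve.TwistSeq
import Groth.Agent.Lib.CurveTensor
import Groth.Agent.LinSub.Restrict

/-!
# The tangent sheaf of projective space restricted to a hypersurface
-/

set_option linter.style.haveILetI false
set_option linter.unusedSectionVars false
set_option backward.isDefEq.respectTransparency false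
set_option backward.isDefEq.respectTransparency.types false
set_option maxHeartbeats 1000000

universe u

open CategoryTheory CategoryTheory.Limits AlgebraicGeometry TopologicalSpace Opposite
open Groth.Agent.H23.PicMul

noncomputable section

namespace Groth.Agent.PnEuler

theorem hom_unit_iso {X : Scheme.{u}} (F ω N L : X.Modules) (hN : PicF.IsInvertible N)
    (z : Coh.structureModule X ≅ CohB1.tensorMod ω N) (f : (SheafHomX.hom F).obj ω ≅ L) :
    Nonempty ((SheafHomX.hom F).obj (Coh.structureModule X) ≅ CohB1.tensorMod L N) := by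
  obtain ⟨h⟩ := PnVan.hom_tensor_iso F ω hN
  obtain ⟨c⟩ : Nonempty (CohB1.tensorMod ((SheafHomX.hom F).obj ω) N ≅ CohB1.tensorMod L N) :=
    cl_eq_iff.1 (by rw [cl_tensor, cl_tensor, cl_eq_iff.2 ⟨f⟩])
  exact ⟨(SheafHomX.hom F).mapIso z ≪≫ h ≪≫ c⟩

variable (n : ℕ) (k : Type u) [Field k] [QuasiSeparated (CohB1.ProjSpace.toSpec n k)]

local notation "Pn" => CohB1.ProjSpace n k
local notation "Ω" => Omega.sheaf (CohB1.ProjSpace.toSpec n k)

/-- The tangent sheaf is `Ω^(n-1)(n+1)`. -/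
theorem nonempty_tangent_iso (hn : 1 ≤ n) :
    Nonempty ((SheafHomX.hom Ω).obj (Coh.structureModule (Pn)) ≅ Om n k (n - 1) ((n : ℤ) + 1)) := by
  haveI : IsLocallyNoetherian (Pn) := by
    haveI := PnCoh.Chow.isProper_toSpec n k
    exact LocallyOfFiniteType.isLocallyNoetherian (CohB1.ProjSpace.toSpec n k)
  obtain ⟨f⟩ := ExtShX.Pair.nonempty_hom_extPow_iso (p := 1) (q := n - 1) (by omega) (isFinLocFreeOfRank_omega n k)
    (ExtPowSh.isExtPow_one Ω) (ExtPowSh.isExtPow Ω (n - 1) (isQCoh_omega n k)) (ExtPowSh.isExtPow Ω n (isQCoh_omega n k))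
  obtain ⟨w⟩ := ExtShX.DetPn.nonempty_iso_twist n k (ExtPowSh.isExtPow Ω n (isQCoh_omega n k))
  obtain ⟨t⟩ := tw_add n k (-((n : ℤ) + 1)) ((n : ℤ) + 1)
  obtain ⟨u⟩ := nonempty_unit n k
  have e0 : -((n : ℤ) + 1) + ((n : ℤ) + 1) = 0 := neg_add_cancel _
  rw [e0] at t
  obtain ⟨z⟩ : Nonempty (CohB1.tensorMod (ExtPowSh.L Ω n) (Twist.twistProjSpace n k ((n : ℤ) + 1)) ≅
      CohB1.tensorMod (Twist.twistProjSpace n k (-((n : ℤ) + 1))) (Twist.twistProjSpace n k ((n : ℤ) + 1))) :=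
    cl_eq_iff.1 (by rw [cl_tensor, cl_tensor, cl_eq_iff.2 ⟨w⟩])
  exact hom_unit_iso Ω (ExtPowSh.L Ω n) (Twist.twistProjSpace n k ((n : ℤ) + 1)) (ExtPowSh.L Ω (n - 1))
    (inv_tw n k ((n : ℤ) + 1)) (u ≪≫ t.symm ≪≫ z.symm) f

theorem isFinLocFree_Om (p : ℕ) (d : ℤ) : FlatMod.IsFinLocFree (Om n k p d) :=
  KFlatLib.isFinLocFree_tensor (M := ExtPowSh.L Ω p) (N := Twist.twistProjSpace n k d)
    (ExtPowSh.isFinLocFree (isFinLocFree_omega n k)) (ExtPowSh.flf_of_rank (InvEnd.isFinLocFreeOfRank_one (inv_tw n k d)))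

/-- When `H²(Ω^(n-1)(n+1-d))` vanishes. -/
theorem subsingleton_h2_iff (d : ℕ) (hn : 2 ≤ n) (hd : 1 ≤ d) :
    Subsingleton (Coh.HH (Pn) (Om n k (n - 1) ((n : ℤ) + 1 + -(d : ℤ))) 2) ↔
      ¬ ((n = 2 ∧ 5 ≤ d) ∨ (n = 3 ∧ d = 4)) := by
  rcases lt_trichotomy ((n : ℤ) + 1 + -(d : ℤ)) 0 with hneg | hzero | hpos
  · by_cases hn2 : n = 2
    · subst hn2
      obtain ⟨e, he⟩ : ∃ e : ℕ, -((e : ℤ)) = ((2 : ℕ) : ℤ) + 1 + -(d : ℤ) := ⟨d - 3, by omega⟩
      obtain ⟨h1, h2⟩ := finrank_Om_top 2 k (by omega) 1 e (by omega) (by omega)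
      rw [he] at h1 h2
      haveI := h1
      rw [← Module.finrank_zero_iff (R := k), h2, show (2 : ℕ) - 1 = 1 from rfl, Nat.choose_one_right]
      have : 0 < (e + 1).choose e := Nat.choose_pos (by omega)
      constructor
      · intro h
        rcases mul_eq_zero.1 h with h | h <;> omega
      · intro h
        have : e - 1 = 0 := by omega
        rw [this, mul_zero]
    · exact iff_of_true (subsingleton_Om_neg n k _ hneg (n - 1) 2 (by omega)) (by omega)
  · rw [hzero]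
    by_cases hn3 : n = 3
    · subst hn3
      obtain ⟨e⟩ := nonempty_Om_zero_equiv 3 k 2 (by omega)
      refine iff_of_false (fun h => ?_) (by omega)
      exact not_subsingleton k (@Equiv.subsingleton _ _ e.symm.toEquiv h)
    · exact iff_of_true (subsingleton_Om_zero n k (n - 1) 2 (Or.inl (by omega))) (by omega)
  · exact iff_of_true (subsingleton_Om_pos n k _ hpos (n - 1) 2 (by omega)) (by omega)

/-- `H¹(Z, T|Z) = 0` exactly away from the exceptional cases. -/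
theorem subsingleton_h1_tangent (d : ℕ) (hn : 2 ≤ n) (hd : 1 ≤ d) (F : LefPen.Form n k d) (hF : F ≠ 0)
    [DCoh.HasSheafHom Ω] :
    Subsingleton (Coh.HH (LefPen.hypIdeal F).subscheme
      ((Scheme.Modules.pullback (LefPen.hypIdeal F).subschemeι).obj
        ((DCoh.sheafHom Ω).obj (Coh.structureModule (Pn)))) 1) ↔ ¬ ((n = 2 ∧ 5 ≤ d) ∨ (n = 3 ∧ d = 4)) := by
  letI : (Pn).Over (Spec (CommRingCat.of k)) := ⟨CohB1.ProjSpace.toSpec n k⟩
  let Z := LefPen.hypIdeal F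
  let T := Om n k (n - 1) ((n : ℤ) + 1)
  obtain ⟨a⟩ := CanonDual.nonempty_sheafHom_iso Ω
  obtain ⟨b⟩ := nonempty_tangent_iso n k (by omega)
  let α := (Scheme.Modules.pullback Z.subschemeι).mapIso (a.app _ ≪≫ b)
  obtain ⟨hw, hS₀⟩ := HypCurve.exists_shortExact (r := n) (k := k) hF
  have hS := CurveTensor.shortExact_tensor (isFinLocFree_Om n k (n - 1) ((n : ℤ) + 1)) _ _ hw hS₀
  obtain ⟨v⟩ : Nonempty (CohB1.tensorMod T (Coh.structureModule (Pn)) ≅ T) :=
    cl_eq_iff.1 (by rw [cl_tensor]; exact mul_one (PicF.cl T))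
  obtain ⟨p⟩ := LinSub.push_tensor_flf Z.subschemeι (isFinLocFree_Om n k (n - 1) ((n : ℤ) + 1))
    (Coh.structureModule Z.subscheme)
  obtain ⟨w⟩ : Nonempty (CohB1.tensorMod ((Scheme.Modules.pullback Z.subschemeι).obj T)
      (Coh.structureModule Z.subscheme) ≅ (Scheme.Modules.pullback Z.subschemeι).obj T) :=
    cl_eq_iff.1 (by rw [cl_tensor]; exact mul_one (PicF.cl _))
  let q := p ≪≫ (Coh.push Z.subschemeι).mapIso (w ≪≫ α.symm)
  obtain ⟨x⟩ : Nonempty (CohB1.tensorMod T (Twist.twistProjSpace n k (-(d : ℤ))) ≅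
      Om n k (n - 1) ((n : ℤ) + 1 + -(d : ℤ))) := twR_twR n k (ExtPowSh.L Ω (n - 1)) ((n : ℤ) + 1) (-(d : ℤ))
  obtain ⟨g⟩ := QCoh.HH_push_of_isAffineHom Z.subschemeι (M := (Scheme.Modules.pullback Z.subschemeι).obj
    ((DCoh.sheafHom Ω).obj (Coh.structureModule (Pn))))
    ((QCoh.isQCoh_iff_iso α.symm).1 (QCoh.isQCoh_pullback Z.subschemeι
      (QCoh.isQCoh_of_isFinLocFree (isFinLocFree_Om n k (n - 1) ((n : ℤ) + 1))))) 1
  have h1 := QCoh.subsingleton_HH_of_iso v.symm 1 (subsingleton_Om_pos n k _ (by omega) (n - 1) 1 (by omega))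
  have h2 := QCoh.subsingleton_HH_of_iso v.symm 2 (subsingleton_Om_pos n k _ (by omega) (n - 1) 2 (by omega))
  have δ : Coh.HH (Pn) (CohB1.tensorMod T ((Coh.push Z.subschemeι).obj (Coh.structureModule Z.subscheme))) 1 ≃ₗ[k]
      Coh.HH (Pn) (CohB1.tensorMod T (Twist.twistProjSpace n k (-(d : ℤ)))) 2 := deltaEquiv k hS 1 h1 h2
  rw [g.toEquiv.subsingleton_congr, ← (hhIso k q 1).toEquiv.subsingleton_congr, δ.toEquiv.subsingleton_congr,
    (hhIso k x 2).toEquiv.subsingleton_congr]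
  exact subsingleton_h2_iff n k d hn hd

end Groth.Agent.PnEuler
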