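import Groth.Agent.PnEuler.Split
import Groth.Agent.PnCoh.Finite.Closed
import Groth.Agent.RelTildeX.SheafCrit
import Groth.Agent.H9PB.Split

/-!
# A simple bundle of rank `n - 1` on `ℙⁿ`: the Tango bundle

The Wronskian `v ∧ w ↦ v w' - v' w` of polynomials gives `2n - 1` sections of `Ω(2)` without common zero.
-/

set_option linter.style.haveILetI false
set_option linter.unusedSectionVars false
set_option backward.isDefEq.respectTransparency false
set_option backward.isDefEq.respectTransparency.types false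
set_option maxHeartbeats 1000000

universe u

open CategoryTheory CategoryTheory.Limits AlgebraicGeometry TopologicalSpace Opposite MvPolynomial Abelian
open Groth.Agent.PnCoh Groth.Agent.PnDual

noncomputable section

namespace Groth.Agent.PnEuler

variable (n : ℕ)

/-- The coefficients of the Wronskian. -/
def wr (R : Type u) [Ring R] (M : ℕ) (i l : Fin (n + 1)) : R :=
  if (i : ℕ) + l = M then ((l : ℕ) : R) - (i : ℕ) else 0

theorem wr_swap (R : Type u) [Ring R] (M : ℕ) (i l : Fin (n + 1)) : wr n R M l i = -wr n R M i l := by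
  unfold wr
  rw [Nat.add_comm (l : ℕ) i]
  split_ifs
  · exact (neg_sub _ _).symm
  · exact neg_zero.symm

theorem sum_antisymm {R : Type u} [CommRing R] [IsDomain R] [CharZero R] (g : Fin (n + 1) → Fin (n + 1) → R)
    (hg : ∀ i l, g l i = -g i l) : ∑ i, ∑ l, g i l = 0 := by
  have h : ∑ i, ∑ l, g i l = -∑ i, ∑ l, g i l := by
    rw [← Finset.sum_neg_distrib, Finset.sum_comm]
    refine Finset.sum_congr rfl fun a _ => ?_
    rw [← Finset.sum_neg_distrib]
    exact Finset.sum_congr rfl fun b _ => hg _ _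
  exact CharZero.eq_neg_self_iff.1 h

/-- Independent polynomials have nonzero Wronskian. -/
theorem eq_zero_of_wronskian {K : Type u} [Field K] [CharZero K] {v w : Fin (n + 1) → K} {a : Fin (n + 1)}
    (hv : v a ≠ 0) (hw : w a = 0) (h : ∀ M, ∑ i, ∑ l, wr n K M i l * v i * w l = 0) : w = 0 := by
  classical
  obtain ⟨a₀, ha₀, hmax⟩ : ∃ a₀, v a₀ ≠ 0 ∧ ∀ i, v i ≠ 0 → i ≤ a₀ := by
    obtain ⟨a₀, h₁, h₂⟩ := (Finset.univ.filter fun i => v i ≠ 0).exists_max_image id ⟨a, by simp [hv]⟩
    exact ⟨a₀, (Finset.mem_filter.1 h₁).2, fun i hi => h₂ i (by simp [hi])⟩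
  let c := w a₀ / v a₀
  suffices hs : ∀ l, w l = c * v l by
    have hc : c = 0 := ((mul_eq_zero.1 ((hs a).symm.trans hw))).resolve_right hv
    funext l
    rw [hs l, hc, zero_mul, Pi.zero_apply]
  by_contra hne
  push Not at hne
  obtain ⟨b, hb, hbmax⟩ : ∃ b, w b - c * v b ≠ 0 ∧ ∀ i, w i - c * v i ≠ 0 → i ≤ b := by
    obtain ⟨l, hl⟩ := hne
    obtain ⟨b, h₁, h₂⟩ := (Finset.univ.filter fun i => w i - c * v i ≠ 0).exists_max_image id
      ⟨l, by simp [sub_ne_zero.2 hl]⟩
    exact ⟨b, (Finset.mem_filter.1 h₁).2, fun i hi => h₂ i (by simp [hi])⟩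
  have hba : b ≠ a₀ := fun e => hb (by rw [e]; simp [c, ha₀])
  have hvv : ∑ i, ∑ l, wr n K ((a₀ : ℕ) + b) i l * v i * v l = 0 :=
    sum_antisymm n _ fun i l => by rw [wr_swap]; ring
  have key : ∑ i, ∑ l, wr n K ((a₀ : ℕ) + b) i l * v i * (w l - c * v l) = 0 := by
    simp only [mul_sub, Finset.sum_sub_distrib, h]
    rw [zero_sub, neg_eq_zero, ← mul_zero c, ← hvv, Finset.mul_sum]
    refine Finset.sum_congr rfl fun i _ => ?_
    rw [Finset.mul_sum]
    exact Finset.sum_congr rfl fun l _ => by ring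
  have hz : ∀ i l, (i ≠ a₀ ∨ l ≠ b) → wr n K ((a₀ : ℕ) + b) i l * v i * (w l - c * v l) = 0 := fun i l hil => by
    by_contra hne
    obtain ⟨⟨h1, h2⟩, h3⟩ := (mul_ne_zero_iff.1 hne).imp_left mul_ne_zero_iff.1
    have he : (i : ℕ) + l = a₀ + b := by
      by_contra h4
      exact h1 (if_neg h4)
    have hi : (i : ℕ) ≤ a₀ := hmax i h2
    have hl : (l : ℕ) ≤ b := hbmax l h3
    rcases hil with hil | hil <;> exact hil (Fin.ext (by omega))
  rw [Finset.sum_eq_single a₀ (fun i _ hi => Finset.sum_eq_zero fun l _ => hz i l (Or.inl hi)) (by simp),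
    Finset.sum_eq_single b (fun l _ hl => hz a₀ l (Or.inr hl)) (by simp)] at key
  refine mul_ne_zero (mul_ne_zero ?_ ha₀) hb key
  rw [wr, if_pos rfl, sub_ne_zero]
  exact fun e => hba (Fin.ext (Nat.cast_injective e))

variable (k : Type u) [Field k]

local notation "P" => MvPolynomial (Fin (n + 1)) k
local notation "Pn" => CohB1.ProjSpace n k
local notation "tw" => Twist.twistProjSpace n k

/-- The forms of the sections. -/
def wrForm (M : ℕ) (l : Fin (n + 1)) : P := ∑ i, C (wr n k M i l) * X i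

theorem isHomogeneous_wrForm (M : ℕ) (l : Fin (n + 1)) : (wrForm n k M l).IsHomogeneous 1 :=
  IsHomogeneous.sum _ _ _ fun i _ => IsHomogeneous.C_mul (isHomogeneous_X k i) _

theorem sum_wrForm [CharZero k] (M : ℕ) : ∑ l, (X l : P) * wrForm n k M l = 0 := by
  haveI : CharZero P := charZero_of_injective_ringHom (C_injective (Fin (n + 1)) k)
  simp only [wrForm, Finset.mul_sum]
  exact sum_antisymm n _ fun l i => by rw [wr_swap, map_neg]; ring

/-- A scalar as a function. -/
def cst (W : (Pn).Opens) (c : k) : Γ(Pn, W) :=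
  AModX.resR (le_top : W ≤ ⊤) ((CohB1.ProjSpace.toSpec n k).appTop ((Scheme.ΓSpecIso (CommRingCat.of k)).inv c))

/-- The value of a function in the localisation, additively. -/
def valHom {W : (Pn).Opens} (y : W) : Γ(Pn, W) →+ Twist.Loc (CohB1.polyGrading n k) y.1 :=
  AddMonoidHom.mk' (fun c => (GrModX.oval (CohB1.polyGrading n k) c y).val) fun a b => GrModX.val_oval_add ..

variable [QuasiSeparated (CohB1.ProjSpace.toSpec n k)]

/-- The chart coefficient of a section. -/
def coef (M : ℕ) (a₁ : Fin (n + 1)) (l : Fin (n + 1)) : Γ(Pn, D n k a₁) :=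
  ∑ i, cst n k (D n k a₁) (wr n k M i l) * a n k a₁ i

variable [CharZero k]

theorem exists_section (M : ℕ) : ∃ σ : tw (-2) ⟶ Omega.sheaf (CohB1.ProjSpace.toSpec n k),
    ∀ l, IsMul n k (σ ≫ al n k l) (wrForm n k M l) := by
  classical
  let f : ∀ l, tw (-2) ⟶ tw (-1) := fun l =>
    PnDual.mulHom (isHomogeneous_wrForm n k M l) (by norm_num : (-1 : ℤ) = -2 + ((1 : ℕ) : ℤ))
  have hf : ∀ l, IsMul n k (f l) (wrForm n k M l) := fun l W s y => by
    show _ * Localization.mk _ _ = _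
    rw [Localization.mk_one_eq_algebraMap]
  let Φ : tw (-2) ⟶ mid n k := ∑ j, f j ≫ Sigma.ι (fun _ : Fin (n + 1) => tw (-1)) j
  have hΦp : ∀ j, Φ ≫ pr n k j = f j := fun j => by simp [Φ, Preadditive.sum_comp, ι_pr, comp_ite]
  have hΦ : Φ ≫ beta n k = 0 := by
    refine Scheme.Modules.hom_ext _ _ fun W => ?_
    refine ConcreteCategory.hom_ext _ _ fun s => ?_
    show (beta n k).app W (Φ.app W s) = (0 : tw (-2) ⟶ tw 0).app W s
    rw [app_beta]
    refine ext_tval n k fun y => ?_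
    rw [tval_sum]
    refine (Finset.sum_congr rfl (g := fun j => tval n k s y * algebraMap P _ ((X j : P) * wrForm n k M j))
      fun j _ => ?_).trans ?_
    · rw [tval_mulT, ← ConcreteCategory.comp_apply, ← Scheme.Modules.Hom.comp_app, hΦp, hf, map_mul]
      ring
    · rw [← Finset.mul_sum, ← map_sum, sum_wrForm, map_zero, mul_zero]
      rfl
  haveI : Mono (alpha n k) := (shortExact_seq n k).mono_f
  obtain ⟨σ, hσ⟩ : ∃ σ : tw (-2) ⟶ Omega.sheaf (CohB1.ProjSpace.toSpec n k), σ ≫ alpha n k = Φ :=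
    ⟨(shortExact_seq n k).fIsKernel.lift (KernelFork.ofι Φ hΦ),
      (shortExact_seq n k).fIsKernel.fac (KernelFork.ofι Φ hΦ) WalkingParallelPair.zero⟩
  exact ⟨σ, fun l => by rw [← alpha_pr, ← Category.assoc, hσ, hΦp]; exact hf l⟩

/-- The sections in a chart. -/
theorem app_section {M : ℕ} {σ : tw (-2) ⟶ Omega.sheaf (CohB1.ProjSpace.toSpec n k)}
    (hσ : ∀ l, IsMul n k (σ ≫ al n k l) (wrForm n k M l)) {a₁ : Fin (n + 1)} {W : (Pn).Opens} (h : W ≤ D n k a₁) :
    σ.app W (fr n k (-2) h) =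
      ∑ m, AModX.resR h (coef n k M a₁ (a₁.succAbove m)) •
        AModX.res _ h (dd n k (D n k a₁) (a n k a₁ (a₁.succAbove m))) := by
  obtain ⟨c, hc⟩ := (bijective_comb n k a₁ W h).2 (σ.app W (fr n k (-2) h))
  simp only at hc
  rw [← hc]
  refine Finset.sum_congr rfl fun l _ => ?_
  congr 1
  refine (fr_bijective n k (-1) h).1 ?_
  show c l • fr n k (-1) h = _ • fr n k (-1) h
  rw [← al_comb, hc, ← ConcreteCategory.comp_apply, ← Scheme.Modules.Hom.comp_app]
  refine ext_tval n k fun y => (isUnit_T n k (h y.2)).mul_right_cancel ?_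
  rw [hσ, tval_smul, mul_assoc (GrModX.oval _ _ y).val, tval_fr_neg_one, mul_one,
    show (GrModX.oval (CohB1.polyGrading n k) (AModX.resR h (coef n k M a₁ (a₁.succAbove l))) y).val =
      valHom n k (⟨y.1, h y.2⟩ : D n k a₁) (coef n k M a₁ (a₁.succAbove l)) from rfl, coef, map_sum,
    wrForm, map_sum, Finset.mul_sum, Finset.sum_mul]
  refine Finset.sum_congr rfl fun i _ => ?_
  show _ = (GrModX.oval (CohB1.polyGrading n k) (cst n k (D n k a₁) (wr n k M i (a₁.succAbove l)) * a n k a₁ i) (⟨y.1, h y.2⟩ : D n k a₁)).val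
  rw [GrModX.val_oval_mul, cst, oval_global, val_a, map_mul]
  have h2 : tval n k (fr n k (-2) h) y * (algebraMap P _ (X i) * algebraMap P _ (X a₁)) =
      Localization.mk (X i) ⟨X a₁ ^ 1, GrModX.pow_notMem y.1.isPrime (h y.2) 1⟩ := by
    show Localization.mk _ _ * _ = _
    rw [← map_mul, ← Localization.mk_one_eq_algebraMap, Localization.mk_mul, Localization.mk_eq_mk_iff,
      Localization.r_iff_exists]
    exact ⟨1, by simp; ring⟩
  linear_combination (algebraMap P (Twist.Loc (CohB1.polyGrading n k) y.1) (C (wr n k M i (a₁.succAbove l)))) * h2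

omit [CharZero k] in
theorem charZero_residue [CharZero k] (x : Pn) : CharZero ((Pn).residueField x) := by
  obtain ⟨a₁, hx⟩ := exists_mem_D n k x
  exact charZero_of_injective_ringHom ((((Pn).residue x).hom.comp ((Pn).presheaf.germ (D n k a₁) x hx).hom).comp
    (((CohB1.ProjSpace.toSpec n k).appLE ⊤ (D n k a₁) le_top).hom.comp
      (Scheme.ΓSpecIso (CommRingCat.of k)).inv.hom)).injective

/-- The sections have no common zero. -/
theorem epi_sections (σ : Fin (2 * n - 1) → (tw (-2) ⟶ Omega.sheaf (CohB1.ProjSpace.toSpec n k)))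
    (hσ : ∀ (j : Fin (2 * n - 1)) (l : Fin (n + 1)), IsMul n k (σ j ≫ al n k l) (wrForm n k ((j : ℕ) + 1) l)) : Epi (Sigma.desc σ) := by
  classical
  refine RelTildeX.epi_of_locally _ fun U z x hxU => ?_
  obtain ⟨a₁, hx⟩ := exists_mem_D n k x
  let ev : Γ(Pn, D n k a₁) →+* (Pn).residueField x :=
    ((Pn).residue x).hom.comp ((Pn).presheaf.germ (D n k a₁) x hx).hom
  let φ : k →+* (Pn).residueField x := ev.comp
    (((CohB1.ProjSpace.toSpec n k).appLE ⊤ (D n k a₁) le_top).hom.comp (Scheme.ΓSpecIso (CommRingCat.of k)).inv.hom)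
  haveI := charZero_residue n k x
  let C' : Matrix (Fin (2 * n - 1)) (Fin n) Γ(Pn, D n k a₁) :=
    Matrix.of fun j m => coef n k (j + 1) a₁ (a₁.succAbove m)
  let Cb := C'.map ev
  have hinj : ∀ w, Cb.mulVec w = 0 → w = 0 := fun w hw => by
    let v : Fin (n + 1) → (Pn).residueField x := fun i => ev (a n k a₁ i)
    let w' : Fin (n + 1) → (Pn).residueField x := a₁.insertNth (α := fun _ => (Pn).residueField x) 0 w
    have hφ : ∀ M i l, φ (wr n k M i l) = wr n ((Pn).residueField x) M i l := fun M i l => by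
      unfold wr
      split_ifs <;> simp
    have h0 : w' = 0 := eq_zero_of_wronskian n (a := a₁) (v := v) (by simp [v, a_self]) (Fin.insertNth_apply_same ..)
      fun M => by
        rcases Nat.lt_or_ge M 1 with hM | hM
        · refine Finset.sum_eq_zero fun i _ => Finset.sum_eq_zero fun l _ => ?_
          unfold wr
          split_ifs with he
          · have : (i : ℕ) = l := by omega
            simp [this]
          · simp
        rcases Nat.lt_or_ge (2 * n - 1) M with hM' | hM'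
        · refine Finset.sum_eq_zero fun i _ => Finset.sum_eq_zero fun l _ => ?_
          unfold wr
          split_ifs with he
          · have : (i : ℕ) = l := by have := i.2; have := l.2; omega
            simp [this]
          · simp
        have h1 := congrFun hw ⟨M - 1, by omega⟩
        rw [Finset.sum_comm, Fin.sum_univ_succAbove _ a₁]
        simp only [w', Fin.insertNth_apply_same, mul_zero, Finset.sum_const_zero, zero_add,
          Fin.insertNth_apply_succAbove]
        refine Eq.trans (Finset.sum_congr rfl fun m _ => ?_) h1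
        rw [← Finset.sum_mul]
        congr 1
        show _ = ev (coef n k (M - 1 + 1) a₁ (a₁.succAbove m))
        rw [show M - 1 + 1 = M by omega, coef, map_sum]
        refine Finset.sum_congr rfl fun i _ => ?_
        rw [map_mul, ← hφ]
        rfl
    funext m
    have := congrFun h0 (a₁.succAbove m)
    simpa [w'] using this
  have hspan : Submodule.span ((Pn).residueField x) (Set.range Cb) = ⊤ := by
    by_contra hne
    obtain ⟨f, hf, hle⟩ := Submodule.exists_le_ker_of_lt_top _ (lt_top_iff_ne_top.2 hne)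
    refine hf (LinearMap.pi_ext' fun m => LinearMap.ext_ring ?_)
    have := hinj (fun m => f (Pi.single m 1)) (funext fun j => by
      have h : f (Cb j) = 0 := hle (Submodule.subset_span ⟨j, rfl⟩)
      rw [Pi.zero_apply, ← h]
      conv_rhs => rw [← Finset.univ_sum_single (Cb j), map_sum]
      simp only [Matrix.mulVec, dotProduct]
      refine Finset.sum_congr rfl fun m _ => ?_
      rw [show (Pi.single m (Cb j m) : Fin n → (Pn).residueField x) = Cb j m • Pi.single m 1 by rw [← Pi.single_smul, smul_eq_mul, mul_one], map_smul, smul_eq_mul]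
      skip)
    simpa using congrFun this m
  obtain ⟨t, ht, htspan, hli⟩ := exists_linearIndependent ((Pn).residueField x) (Set.range Cb)
  rw [hspan] at htspan
  let bs := Module.Basis.mk hli (by simp [htspan])
  let e₁ := (Pi.basisFun ((Pn).residueField x) (Fin n)).indexEquiv bs
  choose f hf using fun m => ht (e₁ m).2
  let Q : Matrix (Fin n) (Fin n) Γ(Pn, D n k a₁) := Matrix.of fun r m => C' (f r) m
  have hQ : IsUnit (ev Q.det) := by
    rw [RingHom.map_det, ← Matrix.isUnit_iff_isUnit_det, ← Matrix.linearIndependent_rows_iff_isUnit]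
    have : (ev.mapMatrix Q).row = (fun r => ((e₁ r : t) : Fin n → (Pn).residueField x)) := funext fun r => hf r
    rw [this]
    exact hli.comp e₁ e₁.injective
  let V := U ⊓ (Pn).basicOpen Q.det
  have hxV : x ∈ V := ⟨hxU, ((Pn).mem_basicOpen _ x hx).2 ((isUnit_map_iff (IsLocalRing.residue ((Pn).presheaf.stalk x)) _).1 hQ)⟩
  have hVD : V ≤ D n k a₁ := inf_le_right.trans ((Pn).basicOpen_le _)
  refine ⟨V, inf_le_left, hxV, ?_⟩
  let Q' : Matrix (Fin n) (Fin n) Γ(Pn, V) := (AModX.resR hVD).mapMatrix Q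
  have hu : IsUnit Q'.det := by
    rw [← RingHom.map_det]
    have := RingedSpace.isUnit_res_basicOpen _ Q.det
    exact this.map ((Pn).presheaf.map (homOfLE (inf_le_right : V ≤ (Pn).basicOpen Q.det)).op).hom |> fun h => by
      convert h using 1
      exact (AModX.resR_resR _ _ _).symm
  obtain ⟨d, hd⟩ := (bijective_comb n k a₁ V hVD).2 (AModX.res _ (inf_le_left : V ≤ U) z)
  simp only at hd
  let r := Matrix.vecMul d Q'⁻¹
  have hr : Matrix.vecMul r Q' = d := by rw [Matrix.vecMul_vecMul, Matrix.nonsing_inv_mul _ hu, Matrix.vecMul_one]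
  refine ⟨∑ j, r j • (Sigma.ι (fun _ : Fin (2 * n - 1) => tw (-2)) (f j)).app V (fr n k (-2) hVD), ?_⟩
  rw [map_sum]
  refine Eq.trans ?_ hd
  have hj : ∀ j, (Sigma.desc σ).app V (r j • (Sigma.ι (fun _ : Fin (2 * n - 1) => tw (-2)) (f j)).app V
      (fr n k (-2) hVD)) = ∑ m, (r j * Q' j m) • AModX.res _ hVD (dd n k (D n k a₁) (a n k a₁ (a₁.succAbove m))) :=
    fun j => by
      rw [Scheme.Modules.Hom.app_smul, ← ConcreteCategory.comp_apply, ← Scheme.Modules.Hom.comp_app, Sigma.ι_desc,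
        app_section n k (hσ (f j)) hVD, Finset.smul_sum]
      exact Finset.sum_congr rfl fun m _ => smul_smul _ _ _
  rw [Finset.sum_congr rfl fun j _ => hj j, Finset.sum_comm]
  refine Finset.sum_congr rfl fun m _ => ?_
  rw [← Finset.sum_smul, ← congrFun hr m]
  rfl

/-- The kernel has rank `n - 1`. -/
theorem isFinLocFreeOfRank_tango (σ : Fin (2 * n - 1) → (tw (-2) ⟶ Omega.sheaf (CohB1.ProjSpace.toSpec n k)))
    (hσ : ∀ (j : Fin (2 * n - 1)) (l : Fin (n + 1)), IsMul n k (σ j ≫ al n k l) (wrForm n k ((j : ℕ) + 1) l))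
    (hn : 1 ≤ n) : FlatMod.IsFinLocFreeOfRank (n - 1) (kernel (Sigma.desc σ)) := by
  haveI := epi_sections n k σ hσ
  haveI : IsLocallyNoetherian (Pn) := PnCoh.Finite.isLocallyNoetherian_projSpace n k
  have hS : (ShortComplex.mk _ (Sigma.desc σ) (kernel.condition (Sigma.desc σ))).ShortExact :=
    ShortComplex.ShortExact.mk' (ShortComplex.exact_of_f_is_kernel _ (kernelIsKernel _)) inferInstance inferInstance
  have h₂ := PnVan.isFinLocFreeOfRank_sigma (fun _ : Fin (2 * n - 1) => tw (-2)) fun _ => inv_tw n k (-2)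
  have h₃ := isFinLocFreeOfRank_omega n k
  have f₁ : FlatMod.IsFinLocFree (kernel (Sigma.desc σ)) := KZ.LFRes.pdlt_one_iff.1 (KZ.LFRes.PDLT.kernel_of hS
    (KZ.LFRes.pdlt_one_iff.2 (ExtPowSh.flf_of_rank h₂))
    ((KZ.LFRes.pdlt_one_iff.2 (ExtPowSh.flf_of_rank h₃)).mono (Nat.le_succ _)))
  intro x
  obtain ⟨U, m, hx, ⟨e⟩⟩ := f₁ x
  obtain ⟨V, hV, hxV, hle⟩ := exists_isAffineOpen_mem_and_subset (U := U) (x := x) hx
  obtain ⟨l⟩ := QCoh.free_sections hV hle e
  have h1 : ExtPowSh.rk (kernel (Sigma.desc σ)) x = m :=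
    QCoh.finrank_stalk_of_freeChart hV (QCoh.isQCoh_of_isFinLocFree f₁) l hxV
  have h4 := ExtPowSh.rk_add hS f₁ (ExtPowSh.flf_of_rank h₃) x
  rw [h1, ExtPowSh.rk_eq h₂ x, ExtPowSh.rk_eq h₃ x] at h4
  obtain rfl : m = n - 1 := by omega
  exact ⟨U, hx, ⟨e⟩⟩

omit [CharZero k] in
theorem subsingleton_ext_sigma_right {C : Type*} [Category C] [Abelian C] [HasExt.{u} C] (T Y : C) (r q : ℕ)
    [HasCoproduct fun _ : Fin r => T] (h : Subsingleton (Ext.{u} Y T q)) :
    Subsingleton (Ext.{u} Y (∐ fun _ : Fin r => T) q) := by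
  classical
  let ι : Fin r → (T ⟶ ∐ fun _ : Fin r => T) := fun j => Sigma.ι (fun _ : Fin r => T) j
  let p : Fin r → ((∐ fun _ : Fin r => T) ⟶ T) := fun j => Sigma.desc fun l => if l = j then 𝟙 _ else 0
  have hid : ∑ j, p j ≫ ι j = 𝟙 (∐ fun _ : Fin r => T) := by
    refine Sigma.hom_ext _ _ fun l => ?_
    simp [p, ι, Preadditive.comp_sum, ite_comp]
  suffices ∀ x : Ext.{u} Y (∐ fun _ : Fin r => T) q, x = 0 from ⟨fun x y => (this x).trans (this y).symm⟩
  intro x
  calc x = x.comp (Ext.mk₀ (∑ j, p j ≫ ι j)) (add_zero q) := by rw [hid, Ext.comp_mk₀_id]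
    _ = 0 := by
      rw [Ext.mk₀_sum, Ext.comp_sum]
      refine Finset.sum_eq_zero fun j _ => ?_
      rw [← Ext.mk₀_comp_mk₀, ← Ext.comp_assoc_of_second_deg_zero, h.elim (x.comp (Ext.mk₀ (p j)) (add_zero q)) 0,
        Ext.zero_comp]

/-- Maps from `O(-2)` into the kernel vanish. -/
theorem hom_eq_zero (σ : Fin (2 * n - 1) → (tw (-2) ⟶ Omega.sheaf (CohB1.ProjSpace.toSpec n k)))
    (hσ : ∀ (j : Fin (2 * n - 1)) (l : Fin (n + 1)), IsMul n k (σ j ≫ al n k l) (wrForm n k ((j : ℕ) + 1) l))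
    (g : tw (-2) ⟶ kernel (Sigma.desc σ)) : g = 0 := by
  classical
  let p : Fin (2 * n - 1) → ((∐ fun _ : Fin (2 * n - 1) => tw (-2)) ⟶ tw (-2)) := fun j =>
    Sigma.desc fun l => if l = j then 𝟙 _ else 0
  have hid : ∑ j, p j ≫ Sigma.ι (fun _ : Fin (2 * n - 1) => tw (-2)) j = 𝟙 _ := by
    refine Sigma.hom_ext _ _ fun l => ?_
    simp [p, Preadditive.comp_sum, ite_comp]
  choose d hd using fun j => endo_tw n k (-2) (g ≫ kernel.ι _ ≫ p j)
  suffices hd0 : ∀ j, d j = 0 by
    rw [← cancel_mono (kernel.ι (Sigma.desc σ)), zero_comp, ← Category.comp_id (g ≫ _), ← hid, Preadditive.comp_sum]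
    exact Finset.sum_eq_zero fun j _ => by rw [← Category.assoc, Category.assoc g, hd, hd0, sc_zero, zero_comp]
  intro j
  have h0 : ∀ l, ∑ j, sc n k (tw (-2)) (d j) ≫ σ j ≫ al n k l = 0 := fun l => by
    have h := congrArg (fun t => g ≫ t ≫ al n k l) (kernel.condition (Sigma.desc σ))
    simp only [zero_comp, comp_zero] at h
    have hgen : Sigma.desc σ ≫ al n k l =
        ∑ j, p j ≫ Sigma.ι (fun _ : Fin (2 * n - 1) => tw (-2)) j ≫ Sigma.desc σ ≫ al n k l := by
      simp only [← Category.assoc, ← Preadditive.sum_comp, hid, Category.id_comp]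
    simp only [Category.assoc] at h
    rw [hgen] at h
    rw [← h]
    simp only [Preadditive.comp_sum, Sigma.ι_desc_assoc, ← hd, Category.assoc]
  obtain ⟨i, l, hil, he⟩ : ∃ i l : Fin (n + 1), (i : ℕ) ≠ l ∧ (i : ℕ) + l = j + 1 := by
    have := j.2
    rcases Nat.lt_or_ge (j : ℕ) n with hj | hj
    · exact ⟨⟨0, by omega⟩, ⟨j + 1, by omega⟩, by simp, by simp⟩
    · exact ⟨⟨j + 1 - n, by omega⟩, ⟨n, by omega⟩, by simp; omega, by simp; omega⟩
  have hm : IsMul n k (∑ j, sc n k (tw (-2)) (d j) ≫ σ j ≫ al n k l)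
      (∑ j, C (d j) * wrForm n k ((j : ℕ) + 1) l) := fun W s y => by
    rw [app_sum, tval_sum, map_sum, Finset.mul_sum]
    refine Finset.sum_congr rfl fun j _ => ?_
    rw [Scheme.Modules.Hom.comp_app, ConcreteCategory.comp_apply, hσ, tval_sc, map_mul]
    ring
  rw [h0] at hm
  have hz : ∑ j : Fin (2 * n - 1), C (d j) * wrForm n k ((j : ℕ) + 1) l = 0 := by
    obtain ⟨a₁, hx⟩ := exists_mem_D n k (point (Pi.single 0 (1 : k)) (by simp))
    have h := hm (D n k a₁) (fr n k (-2) le_rfl) ⟨_, hx⟩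
    have hu : IsUnit (tval n k (fr n k (-2) (le_refl (D n k a₁))) ⟨_, hx⟩) := by
      refine IsUnit.of_mul_eq_one (algebraMap P _ (X a₁) * algebraMap P _ (X a₁)) ?_
      show Localization.mk _ _ * _ = _
      rw [← map_mul, ← Localization.mk_one_eq_algebraMap, Localization.mk_mul, ← Localization.mk_one,
        Localization.mk_eq_mk_iff, Localization.r_iff_exists]
      exact ⟨1, by simp; ring⟩
    have h2 := hu.mul_right_eq_zero.1 (h.symm.trans (by simp))
    rw [← Localization.mk_one_eq_algebraMap] at h2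
    exact eq_zero_of_mk_eq_zero n k h2
  have hc := congrArg (coeff (Finsupp.single i 1)) hz
  simp only [wrForm, coeff_sum, coeff_zero, coeff_C_mul, coeff_X, Finsupp.single_left_inj one_ne_zero,
    mul_ite, mul_one, mul_zero, Finset.sum_ite_eq', Finset.mem_univ, if_true] at hc
  rw [Finset.sum_eq_single j (fun j' _ hj' => by
    rw [wr, if_neg (fun e => hj' (Fin.ext (by omega))), mul_zero]) (by simp), wr, if_pos he, mul_eq_zero,
    sub_eq_zero] at hc
  exact hc.resolve_right fun e => hil (Nat.cast_injective e).symm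

/-- The kernel is simple. -/
theorem endo_tango (σ : Fin (2 * n - 1) → (tw (-2) ⟶ Omega.sheaf (CohB1.ProjSpace.toSpec n k)))
    (hσ : ∀ (j : Fin (2 * n - 1)) (l : Fin (n + 1)), IsMul n k (σ j ≫ al n k l) (wrForm n k ((j : ℕ) + 1) l))
    (hn : 2 ≤ n) (φ : kernel (Sigma.desc σ) ⟶ kernel (Sigma.desc σ)) :
    ∃ c : k, φ = sc n k (kernel (Sigma.desc σ)) c := by
  classical
  haveI := epi_sections n k σ hσ
  haveI : EnoughInjectives (Pn).Modules := inferInstanceAs (EnoughInjectives (SheafOfModules _))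
  haveI : HasExt.{u} (Pn).Modules := hasExt_of_enoughInjectives _
  haveI : HasExt.{u} (Proj (CohB1.polyGrading n k)).Modules := inferInstanceAs (HasExt.{u} (Pn).Modules)
  have hS : (ShortComplex.mk _ (Sigma.desc σ) (kernel.condition (Sigma.desc σ))).ShortExact :=
    ShortComplex.ShortExact.mk' (ShortComplex.exact_of_f_is_kernel _ (kernelIsKernel _)) inferInstance inferInstance
  have hm : Subsingleton (Ext.{u} (mid n k) (tw (-2)) 1) :=
    subsingleton_ext_sigma _ _ _ _ (subsingleton_ext_twist (gens n k)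
      (gens_mem n k) (gens_cover n k) _ _ 1 (subsingleton_tw n k _ 1 (by omega) (by omega)))
  have h3 : Subsingleton (Ext.{u} (tw 0) (tw (-2)) 2) :=
    subsingleton_ext_twist (gens n k) (gens_mem n k) (gens_cover n k) _ _ 2
      (subsingleton_tw n k _ 2 (by omega) (by omega))
  have h1 : Subsingleton (Ext.{u} (Omega.sheaf (CohB1.ProjSpace.toSpec n k)) (tw (-2)) 1) := by
    suffices ∀ x : Ext.{u} (Omega.sheaf (CohB1.ProjSpace.toSpec n k)) (tw (-2)) 1, x = 0 from
      ⟨fun x y => (this x).trans (this y).symm⟩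
    intro x
    obtain ⟨z, rfl⟩ := Ext.contravariant_sequence_exact₁ (shortExact_seq n k) (tw (-2)) x (n₁ := 2) rfl (h3.elim _ _)
    rw [hm.elim z 0, Ext.comp_zero]
  have hE := subsingleton_ext_sigma_right (tw (-2)) (Omega.sheaf (CohB1.ProjSpace.toSpec n k)) (2 * n - 1) 1 h1
  obtain ⟨z, hz⟩ := Ext.contravariant_sequence_exact₁ hS (∐ fun _ : Fin (2 * n - 1) => tw (-2))
    (Ext.mk₀ (φ ≫ kernel.ι (Sigma.desc σ))) (n₁ := 1) rfl (hE.elim _ _)
  obtain ⟨Φ, rfl⟩ := (Ext.mk₀_bijective _ _).2 z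
  have hΦ : kernel.ι (Sigma.desc σ) ≫ Φ = φ ≫ kernel.ι (Sigma.desc σ) :=
    (Ext.mk₀_bijective _ _).1 ((Ext.mk₀_comp_mk₀ _ _).symm.trans hz)
  have hw : kernel.ι (Sigma.desc σ) ≫ Φ ≫ Sigma.desc σ = 0 := by
    rw [← Category.assoc, hΦ, Category.assoc, kernel.condition, comp_zero]
  obtain ⟨ψ, hψ⟩ : ∃ ψ, Sigma.desc σ ≫ ψ = Φ ≫ Sigma.desc σ :=
    ⟨hS.gIsCokernel.desc (CokernelCofork.ofπ _ hw), hS.gIsCokernel.fac (CokernelCofork.ofπ _ hw) WalkingParallelPair.one⟩
  obtain ⟨c, rfl⟩ := endo_omega n k ψ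
  have hz' : (Φ - sc n k _ c) ≫ Sigma.desc σ = 0 := by
    rw [Preadditive.sub_comp, ← comp_sc, ← hψ, sub_eq_zero]
    rfl
  have hlift : Φ - sc n k _ c = 0 := by
    refine Sigma.hom_ext _ _ fun j => ?_
    rw [comp_zero]
    refine (kernel.lift_ι (Sigma.desc σ) _ (show (Sigma.ι (fun _ : Fin (2 * n - 1) => tw (-2)) j ≫
      (Φ - sc n k _ c)) ≫ Sigma.desc σ = 0 by rw [Category.assoc, hz', comp_zero])).symm.trans ?_
    rw [hom_eq_zero n k σ hσ (kernel.lift _ _ _), zero_comp]
  refine ⟨c, ?_⟩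
  rw [← cancel_mono (kernel.ι (Sigma.desc σ)), ← comp_sc, ← hΦ, sub_eq_zero.1 hlift]

/-- A simple bundle of rank `n - 1`. -/
theorem exists_simple (hn : 2 ≤ n) : ∃ F : (Pn).Modules, FlatMod.IsFinLocFreeOfRank (n - 1) F ∧
    ∀ φ : F ⟶ F, ∃ c : k, φ = sc n k F c := by
  choose σ hσ using fun j : Fin (2 * n - 1) => exists_section n k ((j : ℕ) + 1)
  exact ⟨kernel (Sigma.desc σ), isFinLocFreeOfRank_tango n k σ hσ (by omega), endo_tango n k σ hσ hn⟩

end Groth.Agent.PnEuler
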